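import Groth.Agent.Red.K217.IdComp

/-!
# The open neutral component of a smooth group scheme: all properties at once
-/

set_option autoImplicit false
universe u

open CategoryTheory CategoryTheory.Limits MonoidalCategory CartesianMonoidalCategory MonObj GrpObj AlgebraicGeometry

namespace K217.IdComp2

open Groth.Agent Groth.Agent.Sga3.H778

variable {S : Scheme.{u}}

/-- The open neutral component. -/
theorem exists_neutral (G : Over S) [GrpObj G] [Smooth G.hom] :
    ∃ (G0 : Over S) (_ : GrpObj G0) (u : G0 ⟶ G) (_ : IsMonHom u), IsOpenImmersion u.left ∧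
      Set.range u.left = SGA3x.neutralSet G ∧ Smooth G0.hom ∧ QuasiCompact G0.hom ∧ IsSeparated G0.hom ∧
      GeometricallyIrreducible G0.hom ∧ (∀ s : S, _root_.IsConnected (G0.hom.base ⁻¹' {s})) ∧
      ((∀ s : S, IsAffine (pullback G.hom (S.fromSpecResidueField s))) →
        ∀ s : S, IsAffine (pullback G0.hom (S.fromSpecResidueField s))) := by
  have hsm : Smooth ((⊤ : G.left.Opens).ι ≫ G.hom) := inferInstance
  have h := NeutralOpen.isOpen_neutralSet G ⊤ (fun _ => trivial)
  obtain ⟨hgrp, hmon⟩ := NeutralOpen.exists_grpObj G h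
  have hsm : Smooth (NeutralOpen.opn G (NeutralOpen.neutral G h)).hom :=
    NeutralOpen.smooth_neutral G ⊤ (fun _ => trivial) h
  have hc := NeutralOpen.isConnected_fibre G h
  obtain ⟨h1, h2⟩ := Groth.Agent.S3025.result S (NeutralOpen.opn G (NeutralOpen.neutral G h)) hc
  refine ⟨_, hgrp, NeutralOpen.opnι G (NeutralOpen.neutral G h), hmon, inferInstance, ?_, hsm, h2, h1, ?_, hc, ?_⟩
  · change Set.range (NeutralOpen.neutral G h).ι = _
    rw [Scheme.Opens.range_ι]
    rfl
  · have : GrpObj (Over.mk (NeutralOpen.opn G (NeutralOpen.neutral G h)).hom) := hgrp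
    exact Sga3C.GrpIrr.geometricallyIrreducible_of_connected_fibres
      (NeutralOpen.opn G (NeutralOpen.neutral G h)).hom hc
  · exact fun haff s => Sga3.H816.NeutralRed.isAffine_fibre h haff s

/-- The fibres of an affine morphism are affine. -/
theorem isAffine_fibre {X : Scheme.{u}} (f : X ⟶ S) [IsAffineHom f] (s : S) :
    IsAffine (pullback f (S.fromSpecResidueField s)) :=
  isAffine_of_isAffineHom (pullback.snd f (S.fromSpecResidueField s))

end K217.IdComp2
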