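import Groth.Agent.Red.K217.GoldCover
import Groth.Agent.AbSch.K452.TorusRig
import Groth.Agent.Sga3B.SplitFin885
import Groth.Agent.Sga3B.SplitModel889
import Groth.Agent.S2962
import Groth.Agent.Sga3B.KerGrp
import Groth.Agent.Sga3B.IsoFam
import Groth.Agent.Sga3B.GaPts
import Groth.Agent.Sga3.H811.Pts

/-!
# Central isogenies: a section of a split reductive group with central image is central
-/

set_option autoImplicit false
universe u
open CategoryTheory MonoidalCategory CartesianMonoidalCategory MonObj GrpObj AlgebraicGeometry Limits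

namespace K217.CentIsog

open Groth.Agent Groth.Agent.Sga3B Groth.Agent.Sga3B.KerGrp Groth.Agent.Sga3B.DSPts Groth.Agent.Sga3B.GaPts

section

variable {S : Scheme.{u}} {G H : Over S} [GrpObj G] [GrpObj H]

/-- the commutator with a section -/
noncomputable def cm (x : 𝟙_ (Over S) ⟶ G) {T : Over S} (y : T ⟶ G) : T ⟶ G :=
  (toUnit T ≫ x) * y * (toUnit T ≫ x)⁻¹ * y⁻¹

lemma comp_cm (x : 𝟙_ (Over S) ⟶ G) {T T' : Over S} (h : T' ⟶ T) (y : T ⟶ G) :
    h ≫ cm x y = cm x (h ≫ y) := by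
  have : h ≫ toUnit T ≫ x = toUnit T' ≫ x := by
    rw [← Category.assoc, toUnit_unique (h ≫ toUnit T) (toUnit T')]
  simp only [cm, MonObj.comp_mul, GrpObj.comp_inv, this]

lemma cm_eq_one_iff (x : 𝟙_ (Over S) ⟶ G) {T : Over S} (y : T ⟶ G) :
    cm x y = 1 ↔ (toUnit T ≫ x) * y = y * (toUnit T ≫ x) := by
  rw [cm, mul_inv_eq_one, mul_inv_eq_iff_eq_mul]

variable (f : G ⟶ H) [IsMonHom f] (x : 𝟙_ (Over S) ⟶ G)

/-- The hypotheses. -/
structure Hyp : Prop where
  cen : ∀ (T : Over S) (k y : T ⟶ G), k ≫ f = 1 → k * y = y * k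
  cm1 : ∀ (T : Over S) (y : T ⟶ G), cm x y ≫ f = 1

variable {f x} (h : Hyp f x)

include h

lemma Hyp.cm_mul {T : Over S} (y y' : T ⟶ G) : cm x (y * y') = cm x y * cm x y' := by
  have h1 := h.cen T (cm x y') (y⁻¹) (h.cm1 T y')
  have h2 : cm x (y * y') = (toUnit T ≫ x) * y * (toUnit T ≫ x)⁻¹ * (cm x y' * y⁻¹) := by
    simp only [cm]
    group
  rw [h2, h1, ← _root_.mul_assoc]
  rfl

/-- the commutator as a homomorphism -/
noncomputable def Hyp.hom (T : Over S) : (T ⟶ G) →* (T ⟶ G) := MonoidHom.mk' (fun y => cm x y) h.cm_mul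

lemma Hyp.hom_apply {T : Over S} (y : T ⟶ G) : h.hom T y = cm x y := rfl

lemma Hyp.cm_torus [IsFinite f.left] {T : Over S} [GrpObj T] (hT : Red.IsTorus T) (i : T ⟶ G) [IsMonHom i]
    (Y : Over S) (t : Y ⟶ T) : cm x (t ≫ i) = 1 := by
  obtain ⟨_, _⟩ := exists_grpObj f
  obtain ⟨φ, hφ⟩ := exists_lift f (cm x (𝟙 G)) (h.cm1 G (𝟙 G))
  have hφ2 : ∀ (Y : Over S) (y : Y ⟶ G), (y ≫ φ) ≫ kerι f = cm x y := fun Y y => by
    rw [Category.assoc, hφ, comp_cm, Category.comp_id]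
  have hmon : IsMonHom φ := IsoFam.isMonHom_of_mul _ fun Y y y' => by
    rw [← cancel_mono (kerι f), MonObj.mul_comp (y ≫ φ) (y' ≫ φ) (kerι f), hφ2, hφ2, hφ2, h.cm_mul]
  have hpr : IsProper (kerObj f).hom := by
    change IsProper (pullback.snd f.left _)
    infer_instance
  have h1 : i ≫ φ = 1 := K452.TorusRig.hom_eq_one hT _
  rw [← hφ2, Category.assoc t i φ, h1, MonObj.comp_one, MonObj.one_comp]

omit h in
/-- the cocharacter point -/
theorem exists_pt (D : Red.SplitRed G) (a : D.idx) : ∃ t : GoldCover.cov S ⟶ D.T,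
    Red.gmFn (t ≫ D.split.hom.hom.hom ≫ Red.chi S (D.P.root a)) = GoldCover.zz S ^ 2 := by
  let χ : Multiplicative D.M →* Γ((GoldCover.cov S).left, ⊤) :=
    (Units.coeHom _).comp ((zpowersHom _ (GoldCover.zu S)).comp
      (AddMonoidHom.toMultiplicative (D.P.coroot a).toAddMonoidHom))
  have hχ : χ (Multiplicative.ofAdd (D.P.root a)) = GoldCover.zz S ^ 2 := by
    have h2 : (D.P.coroot a) (D.P.root a) = 2 := by
      have := D.P.root_coroot_two a
      rw [D.pairing_eq] at this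
      exact this
    have h3 : χ (Multiplicative.ofAdd (D.P.root a)) =
        (((GoldCover.zu S) ^ ((D.P.coroot a) (D.P.root a)) : (Γ((GoldCover.cov S).left, ⊤))ˣ) :
          Γ((GoldCover.cov S).left, ⊤)) := rfl
    rw [h3, h2]
    rfl
  refine ⟨dsEquiv _ _ χ ≫ D.split.inv.hom.hom, ?_⟩
  have he : D.split.inv.hom.hom ≫ D.split.hom.hom.hom = 𝟙 _ := congrArg (fun t => t.hom.hom) D.split.inv_hom_id
  rw [Category.assoc, ← Category.assoc D.split.inv.hom.hom, he, Category.id_comp, gmFn_chi, dsChar_dsEquiv, hχ]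

/-- moving the parameter by the torus -/
theorem Hyp.cm_root [IsFinite f.left] (D : Red.SplitRed G) (a : D.idx) (Y : Over S) (t : Y ⟶ D.T)
    (s : Γ(Y.left, ⊤)) :
    cm x (gaPt Y (Red.gmFn (t ≫ D.split.hom.hom.hom ≫ Red.chi S (D.P.root a)) * s) ≫ D.u a) =
      cm x (gaPt Y s ≫ D.u a) := by
  have hi : IsMonHom D.i := D.maximalTorus.1
  obtain ⟨y, hy, hy2⟩ := (D.rootHom a).2.2 Y t (gaPt Y s)
  rw [gaFn_gaPt] at hy2
  have h1 : y = gaPt Y (Red.gmFn (t ≫ D.split.hom.hom.hom ≫ Red.chi S (D.P.root a)) * s) := by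
    rw [← hy2, gaPt_gaFn]
  rw [← h1, hy, ← h.hom_apply, map_mul, map_mul, map_inv, h.hom_apply, h.cm_torus D.maximalTorus.2.2.1 D.i,
    inv_one, _root_.mul_one, _root_.one_mul, h.hom_apply]

theorem Hyp.root_one [IsFinite f.left] (D : Red.SplitRed G) (a : D.idx) :
    cm x (gaPt (𝟙_ (Over S)) 1 ≫ D.u a) = 1 := by
  have hu : IsMonHom (D.u a) := (D.rootHom a).1
  apply GoldCover.epi_toUnit
  rw [comp_cm, ← Category.assoc, comp_gaPt, map_one, MonObj.comp_one]
  obtain ⟨t, ht⟩ := exists_pt D a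
  have h1 := h.cm_root D a _ t (GoldCover.zz S - 1)
  rw [ht] at h1
  have h2 : GoldCover.zz S ^ 2 * (GoldCover.zz S - 1) = (GoldCover.zz S - 1) + 1 := by
    linear_combination (GoldCover.zz S) * GoldCover.zz_mul' S
  rw [h2, gaPt_add, MonObj.mul_comp, h.cm_mul] at h1
  exact mul_eq_left.mp h1

/-- **The section is central.** -/
theorem Hyp.central [IsFinite f.left] (D : Red.SplitRed G) (Y : Over S) (y : Y ⟶ G) :
    (toUnit Y ≫ x) * y = y * (toUnit Y ≫ x) := by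
  have hi : IsMonHom D.i := D.maximalTorus.1
  obtain ⟨τ, hτ⟩ := ((isCentralizerOf_i D).2.2 (𝟙_ (Over S)) x).mpr fun X' x' t => by
    rw [toUnit_unique x' (toUnit X'), ← cm_eq_one_iff]
    exact h.cm_torus D.maximalTorus.2.2.1 D.i X' t
  refine (S2962.result D (𝟙_ (Over S)) x).mpr ⟨τ, hτ, fun a => ?_⟩ Y (toUnit Y) y
  have hu : IsMonHom (D.u a) := (D.rootHom a).1
  have hcl : IsClosedImmersion (D.u a).left := (D.rootHom a).2.1
  obtain ⟨y, hy, hy2⟩ := (D.rootHom a).2.2 (𝟙_ (Over S)) τ (gaPt _ 1)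
  rw [gaFn_gaPt, _root_.mul_one] at hy2
  have h1 := h.root_one D a
  have h2 : toUnit (𝟙_ (Over S)) ≫ x = x := by
    rw [toUnit_unique (toUnit (𝟙_ (Over S))) (𝟙 _), Category.id_comp]
  rw [cm, h2, mul_inv_eq_one, ← hτ, ← hy] at h1
  have hm : Mono (D.u a) := by
    have : Mono (D.u a).left := inferInstance
    exact Over.mono_of_mono_left _
  have h3 : y = gaPt _ 1 := (cancel_mono (D.u a)).mp h1
  rw [h3, gaFn_gaPt] at hy2
  apply Sga3.H811.Pts.gmFn_injective
  rw [← hy2, Sga3.H811.Pts.gmFn_one]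

end

end K217.CentIsog
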