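import Groth.Agent.Sga3B.AdCentre
import Groth.Agent.Sga3B.SplitModel889
import Groth.Agent.Sga3B.TorusEtSplit
import Groth.Agent.SGA3x.K21.DSAdapt
import Groth.Agent.SGA3x.K21.MultLoc
import Groth.Agent.SGA3x.K6.HomLoc
import Groth.Agent.S5256
import Groth.Agent.S0084
import Groth.Agent.AbSch.K449.FlatHom
import Groth.Agent.AbSch.K452.JointEpi
import Groth.Agent.Sga3.H804.EtFam
import Groth.Agent.Sga3B.SplitFin885

/-!
# Fibrewise central kernels with diagonalizable trace on a split torus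
-/

set_option autoImplicit false
universe u
open CategoryTheory MonoidalCategory CartesianMonoidalCategory MonObj GrpObj AlgebraicGeometry Limits

namespace K217.CentKer

open Groth.Agent Groth.Agent.Sga3B Groth.Agent.Sga3B.DSPts

variable {S : Scheme.{u}} {G' G K : Over S} [GrpObj G'] [GrpObj G]

/-- centrality on field-valued fibres -/
def FibCen (i : K ⟶ G') : Prop :=
  ∀ (F : Type u) [Field F] (t : Spec (CommRingCat.of F) ⟶ S) (X : Over S) (_ : X ⟶ Over.mk t)
    (x : X ⟶ K) (g : X ⟶ G'), (x ≫ i) * g = g * (x ≫ i)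

theorem fibCen_of_residue (i : K ⟶ G')
    (hcen : ∀ (s : S) (X : Over (Spec (S.residueField s))) (x : X ⟶ Red.bc (S.fromSpecResidueField s) K)
      (g : X ⟶ Red.bc (S.fromSpecResidueField s) G'),
      (x ≫ (Over.pullback (S.fromSpecResidueField s)).map i) * g =
        g * (x ≫ (Over.pullback (S.fromSpecResidueField s)).map i)) : FibCen i := by
  intro F _ t X b x g
  obtain ⟨⟨s, φ⟩, rfl⟩ := (Scheme.SpecToEquivOfField F S).symm.surjective t
  let v := S.fromSpecResidueField s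
  let b' : X ⟶ Over.mk v := Over.homMk (b.left ≫ Spec.map φ) (by
    have h1 := Over.w b
    change b.left ≫ Spec.map φ ≫ v = X.hom at h1
    rw [← h1, Category.assoc]
    rfl)
  have h1 := hcen s (Over.mk b'.left) (BcPts.bcEquiv v _ K ((BcPts.overIso b').hom ≫ x))
    (BcPts.bcEquiv v _ G' ((BcPts.overIso b').hom ≫ g))
  rw [← BcPts.bcEquiv_comp, ← BcPts.bcEquiv_mul, ← BcPts.bcEquiv_mul] at h1
  have h2 := (BcPts.bcEquiv v _ G').injective h1
  rw [Category.assoc, ← MonObj.comp_mul, ← MonObj.comp_mul] at h2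
  exact (cancel_epi _).mp h2

/-- base change -/
theorem FibCen.bc {i : K ⟶ G'} (h : FibCen i) {U : Scheme.{u}} (e : U ⟶ S) :
    FibCen (G' := Red.bc e G') ((Over.pullback e).map i) := by
  intro F _ t X b x g
  obtain ⟨x, rfl⟩ := (BcPts.bcEquiv e X K).surjective x
  obtain ⟨g, rfl⟩ := (BcPts.bcEquiv e X G').surjective g
  rw [← BcPts.bcEquiv_comp, ← BcPts.bcEquiv_mul, ← BcPts.bcEquiv_mul,
    h F (t ≫ e) ((Over.map e).obj X) (Over.homMk b.left (by
      have := Over.w b
      change b.left ≫ t = X.hom at this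
      change b.left ≫ t ≫ e = X.hom ≫ e
      rw [← this, Category.assoc])) x g]

section split

variable (D : Red.SplitRed G') (N : AddSubgroup D.M)

/-- the inclusion of `D(M/N)` in the torus -/
noncomputable def k0 : Red.DS S (D.M ⧸ N) ⟶ D.T :=
  Red.DSmap S (QuotientAddGroup.mk' N) ≫ D.split.inv.hom.hom

lemma split_hom_inv : D.split.hom.hom.hom ≫ D.split.inv.hom.hom = 𝟙 _ :=
  congrArg (fun f => f.hom.hom) D.split.hom_inv_id

lemma split_inv_hom : D.split.inv.hom.hom ≫ D.split.hom.hom.hom = 𝟙 _ :=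
  congrArg (fun f => f.hom.hom) D.split.inv_hom_id

instance mono_k0 : Mono (k0 D N) := by
  have h2 : IsIso D.split.inv.hom.hom := ((Grp.forget _).mapIso D.split.symm).isIso_hom
  have h3 := AdCentre.mono_DSmap (S := S) (QuotientAddGroup.mk' N) (QuotientAddGroup.mk'_surjective _)
  rw [k0]
  infer_instance

instance isMonHom_k0 : IsMonHom (k0 D N) := by
  have := AdCentre.isMonHom_DSmap (S := S) (QuotientAddGroup.mk' N)
  rw [k0]
  infer_instance

lemma chr_k0 {X : Over S} (x : X ⟶ Red.DS S (D.M ⧸ N)) (n : D.M) (hn : n ∈ N) :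
    dsChar ((x ≫ k0 D N) ≫ D.split.hom.hom.hom) (Multiplicative.ofAdd n) = 1 := by
  have h1 : (x ≫ k0 D N) ≫ D.split.hom.hom.hom = x ≫ Red.DSmap S (QuotientAddGroup.mk' N) := by
    rw [k0, Category.assoc, Category.assoc, split_inv_hom, Category.comp_id]
  rw [h1, dsChar_DSmap, MonoidHom.comp_apply]
  have h2 : AddMonoidHom.toMultiplicative (QuotientAddGroup.mk' N) (Multiplicative.ofAdd n) = 1 :=
    (QuotientAddGroup.eq_zero_iff _).2 hn
  rw [h2, map_one]

lemma exists_lift_k0 {X : Over S} (z : X ⟶ D.T)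
    (hz : ∀ n ∈ N, dsChar (z ≫ D.split.hom.hom.hom) (Multiplicative.ofAdd n) = 1) :
    ∃ z' : X ⟶ Red.DS S (D.M ⧸ N), z' ≫ k0 D N = z := by
  let χ : D.M →+ Additive Γ(X.left, ⊤) := MonoidHom.toAdditiveRight (dsChar (z ≫ D.split.hom.hom.hom))
  have hχ : N ≤ χ.ker := fun n hn => hz n hn
  let χ' : Multiplicative (D.M ⧸ N) →* Γ(X.left, ⊤) := MonoidHom.toAdditiveRight.symm (QuotientAddGroup.lift _ χ hχ)
  refine ⟨dsEquiv X _ χ', ?_⟩
  rw [k0, ← Category.assoc, dsEquiv_DSmap]
  have h2 : χ'.comp (AddMonoidHom.toMultiplicative (QuotientAddGroup.mk' N)) = dsChar (z ≫ D.split.hom.hom.hom) := by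
    refine MonoidHom.ext fun m => ?_
    rfl
  rw [h2, dsEquiv_dsChar, Category.assoc, split_hom_inv, Category.comp_id]

/-- the kernel on the torus is given by `N` over `V` -/
def AdOver (f : G' ⟶ G) {V : Scheme.{u}} (b : V ⟶ S) : Prop :=
  ∀ (X : Over S) (_ : X ⟶ Over.mk b) (x : X ⟶ D.T), x ≫ D.i ≫ f = 1 ↔
    ∀ n ∈ N, dsChar (x ≫ D.split.hom.hom.hom) (Multiplicative.ofAdd n) = 1

variable {D N} {f : G' ⟶ G} {V : Scheme.{u}} {b : V ⟶ S} (hN : AdOver D N f b) {i : K ⟶ G'}
  (hK : AlgGrp.IsKernel i f)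

include hK in
lemma mono_of_isKernel : Mono i := ⟨fun _ _ h => hK.hom_ext h (toUnit_unique _ _)⟩

/-- a `V`-object over `S` has a map to `V` -/
noncomputable def toV (X : Over V) : (Over.map b).obj X ⟶ Over.mk b := Over.homMk X.hom

include hN hK in
/-- the comparison map -/
theorem exists_kappa : ∃ κ : Red.bc b (Red.DS S (D.M ⧸ N)) ⟶ Red.bc b K,
    κ ≫ (Over.pullback b).map i = (Over.pullback b).map (k0 D N ≫ D.i) := by
  let X : Over V := Red.bc b (Red.DS S (D.M ⧸ N))
  let c : (Over.map b).obj X ⟶ Red.DS S (D.M ⧸ N) := (BcPts.bcEquiv b X _).symm (𝟙 _)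
  have h1 : (c ≫ k0 D N) ≫ D.i ≫ f = 1 := (hN _ (toV X) _).mpr fun n hn => chr_k0 D N c n hn
  let κ' : (Over.map b).obj X ⟶ K := hK.lift (c ≫ k0 D N ≫ D.i) (toUnit _) (by
    have h0 : (c ≫ k0 D N ≫ D.i) ≫ f = 1 := by simpa only [Category.assoc] using h1
    exact h0.trans Hom.one_def)
  have h2 : κ' ≫ i = c ≫ k0 D N ≫ D.i := hK.lift_fst _ _ _
  refine ⟨BcPts.bcEquiv b X K κ', ?_⟩
  rw [← BcPts.bcEquiv_comp, h2, BcPts.bcEquiv_comp, Equiv.apply_symm_apply, Category.id_comp]

include hN hK in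
/-- points of the kernel over fields come from `D(M/N)` -/
theorem exists_factor (hc : FibCen i) {F : Type u} [Field F] (t : Spec (CommRingCat.of F) ⟶ S) {X : Over S}
    (a : X ⟶ Over.mk t) (a' : X ⟶ Over.mk b) (x : X ⟶ K) :
    ∃ z : X ⟶ Red.DS S (D.M ⧸ N), z ≫ k0 D N ≫ D.i = x ≫ i := by
  obtain ⟨z, hz⟩ := ((isCentralizerOf_i D).2.2 X (x ≫ i)).mpr fun X' x' h => by
    rw [← Category.assoc]
    exact hc F t X' (x' ≫ a) (x' ≫ x) (h ≫ D.i)
  have h1 : z ≫ D.i ≫ f = 1 := by
    rw [← Category.assoc, hz, Category.assoc, hK.w, ← Category.assoc]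
    exact MonObj.comp_one _ 
  obtain ⟨z', hz'⟩ := exists_lift_k0 D N z ((hN X a' z).mp h1)
  exact ⟨z', by rw [← Category.assoc, hz', hz]⟩

include hN hK in
/-- **The comparison map is an isomorphism.** -/
theorem isIso_kappa [LocallyOfFinitePresentation K.hom] (hc : FibCen i)
    (κ : Red.bc b (Red.DS S (D.M ⧸ N)) ⟶ Red.bc b K)
    (hκ : κ ≫ (Over.pullback b).map i = (Over.pullback b).map (k0 D N ≫ D.i)) : IsIso κ := by
  have hMi : Mono D.i := D.maximalTorus.2.1
  have hi : Mono i := mono_of_isKernel hK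
  have hm1 : Mono ((Over.pullback b).map (k0 D N ≫ D.i)) := inferInstance
  have hm2 : Mono κ := by
    rw [← hκ] at hm1
    exact mono_of_mono κ ((Over.pullback b).map i)
  have hfg : AddGroup.FG (D.M ⧸ N) := by
    have : AddGroup.FG D.M := Module.Finite.iff_addGroup_fg.mp inferInstance
    exact QuotientAddGroup.fg N
  have hMT := K21.MultLoc.isMultTypeFT_DS (S := S) (D.M ⧸ N) hfg
  have hp1 : LocallyOfFinitePresentation (Red.bc b (Red.DS S (D.M ⧸ N))).hom := by
    have := K10.MTLoc.locallyOfFinitePresentation hMT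
    exact inferInstanceAs (LocallyOfFinitePresentation (pullback.snd _ _))
  have hp2 : LocallyOfFinitePresentation (Red.bc b K).hom :=
    inferInstanceAs (LocallyOfFinitePresentation (pullback.snd _ _))
  have hp3 : Flat (Red.bc b (Red.DS S (D.M ⧸ N))).hom := by
    have : Flat (Red.DS S (D.M ⧸ N)).hom := K10.MTLoc.flat hMT
    exact inferInstanceAs (Flat (pullback.snd _ _))
  refine TorusEtSplit.isIso_of_geomFibres κ fun v => ?_
  let t := Red.geomPt v
  have hm3 : Mono ((Over.pullback t).map κ) := inferInstance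
  let X : Over (Spec (CommRingCat.of (AlgebraicClosure (V.residueField v)))) := Red.bc t (Red.bc b K)
  let c : (Over.map b).obj ((Over.map t).obj X) ⟶ K :=
    (BcPts.bcEquiv b _ K).symm ((BcPts.bcEquiv t X (Red.bc b K)).symm (𝟙 _))
  obtain ⟨z, hz⟩ := exists_factor hN hK hc (t ≫ b) (Over.homMk X.hom : (Over.map b).obj ((Over.map t).obj X) ⟶
    Over.mk (t ≫ b)) (toV _) c
  let σ : X ⟶ Red.bc t (Red.bc b (Red.DS S (D.M ⧸ N))) := BcPts.bcEquiv t X _ (BcPts.bcEquiv b _ _ z)
  have hσ : σ ≫ (Over.pullback t).map κ = 𝟙 _ := by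
    have hmi : Mono ((Over.pullback t).map ((Over.pullback b).map i)) := inferInstance
    rw [← cancel_mono ((Over.pullback t).map ((Over.pullback b).map i)), Category.assoc, ← Functor.map_comp, hκ,
      ← BcPts.bcEquiv_comp, ← BcPts.bcEquiv_comp, hz, BcPts.bcEquiv_comp, BcPts.bcEquiv_comp,
      Equiv.apply_symm_apply, Equiv.apply_symm_apply]
  have : IsSplitEpi ((Over.pullback t).map κ) := ⟨⟨⟨σ, hσ⟩⟩⟩
  exact isIso_of_mono_of_isSplitEpi _

end split

section cond

/-- points of a kernel -/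
theorem isKernel_iff {N G H : Over S} [GrpObj H] (i : N ⟶ G) (u : G ⟶ H) :
    AlgGrp.IsKernel i u ↔ i ≫ u = 1 ∧ ∀ (T : Over S) (g : T ⟶ G), g ≫ u = 1 → ∃! y : T ⟶ N, y ≫ i = g := by
  constructor
  · intro h
    refine ⟨h.w, fun T g hg => ⟨h.lift g (toUnit T) hg, h.lift_fst _ _ _, fun y hy => ?_⟩⟩
    exact h.hom_ext (by rw [h.lift_fst]; exact hy) (toUnit_unique _ _)
  · rintro ⟨h1, h2⟩
    have h3 : ∀ s : PullbackCone u η[H], s.fst ≫ u = 1 := fun s => by
      rw [s.condition, toUnit_unique s.snd (toUnit _)]; rfl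
    choose l hl hl' using h2
    refine ⟨⟨h1⟩, ⟨PullbackCone.IsLimit.mk _ (fun s => l s.pt s.fst (h3 s)) ?_ ?_ ?_⟩⟩
    · intro s
      exact hl _ _ (h3 s)
    · intro s
      exact toUnit_unique _ _
    · intro s m hm _
      exact hl' _ _ (h3 s) m hm

theorem isKernel_bc {S' : Scheme.{u}} (t : S' ⟶ S) {N G H : Over S} [GrpObj H] {i : N ⟶ G} {u : G ⟶ H}
    (h : AlgGrp.IsKernel i u) :
    AlgGrp.IsKernel (Q := Red.bc t H) ((Over.pullback t).map i) ((Over.pullback t).map u) := by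
  rw [isKernel_iff] at h ⊢
  obtain ⟨h1, h2⟩ := h
  refine ⟨?_, fun T g hg => ?_⟩
  · rw [← Functor.map_comp, h1, Functor.map_one]
  · have h3 : (BcPts.bcEquiv t T G).symm g ≫ u = 1 := by
      rw [← BcPts.bcEquiv_symm_comp, hg]
      exact (BcPts.bcEquiv t T H).symm_apply_eq.mpr (BcPts.bcEquiv_one t).symm
    obtain ⟨y, hy, hy'⟩ := h2 _ _ h3
    refine ⟨BcPts.bcEquiv t T N y, ?_, fun y' h' => ?_⟩
    · change BcPts.bcEquiv t T N y ≫ (Over.pullback t).map i = g
      rw [← BcPts.bcEquiv_comp, hy, Equiv.apply_symm_apply]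
    · have h4 := hy' ((BcPts.bcEquiv t T N).symm y') (by
        change (BcPts.bcEquiv t T N).symm y' ≫ i = (BcPts.bcEquiv t T G).symm g
        rw [← BcPts.bcEquiv_symm_comp, show y' ≫ (Over.pullback t).map i = g from h'])
      rw [← h4, Equiv.apply_symm_apply]

/-- finiteness of all field valued fibres -/
def FibFin (K : Over S) : Prop :=
  ∀ (F : Type u) [Field F] (t : Spec (CommRingCat.of F) ⟶ S), IsFinite (Red.bc t K).hom

theorem fibFin_of_residue (K : Over S) (h : ∀ s : S, IsFinite (K.hom.fiberToSpecResidueField s)) : FibFin K := by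
  intro F _ t
  obtain ⟨⟨s, φ⟩, rfl⟩ := (Scheme.SpecToEquivOfField F S).symm.surjective t
  have h1 : IsPullback (pullback.fst K.hom (S.fromSpecResidueField s)) (K.hom.fiberToSpecResidueField s) K.hom
    (S.fromSpecResidueField s) := IsPullback.of_hasPullback _ _
  have h2 : IsPullback (pullback.fst K.hom (Spec.map φ ≫ S.fromSpecResidueField s))
    (pullback.snd K.hom (Spec.map φ ≫ S.fromSpecResidueField s)) K.hom
    (Spec.map φ ≫ S.fromSpecResidueField s) := IsPullback.of_hasPullback _ _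
  have h3 : IsPullback (h1.lift (pullback.fst K.hom (Spec.map φ ≫ S.fromSpecResidueField s))
      (pullback.snd K.hom (Spec.map φ ≫ S.fromSpecResidueField s) ≫ Spec.map φ)
      (by rw [Category.assoc]; exact h2.w)) (pullback.snd K.hom (Spec.map φ ≫ S.fromSpecResidueField s))
      (K.hom.fiberToSpecResidueField s) (Spec.map φ) := by
    refine IsPullback.of_right ?_ (h1.lift_snd _ _ _) h1
    rw [h1.lift_fst]
    exact h2
  exact MorphismProperty.of_isPullback (P := @IsFinite) h3 (h s)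

theorem FibFin.bc {K : Over S} (h : FibFin K) {U : Scheme.{u}} (e : U ⟶ S) : FibFin (Red.bc e K) := by
  intro F _ t
  have h1 := h F (t ≫ e)
  have h2 : (Red.bc t (Red.bc e K)).hom =
      (((Over.pullbackComp t e).app K).inv).left ≫ (Red.bc (t ≫ e) K).hom := (Over.w _).symm
  rw [h2]
  have : IsIso (((Over.pullbackComp t e).app K).inv).left :=
    inferInstanceAs (IsIso ((Over.forget _).map ((Over.pullbackComp t e).app K).inv))
  infer_instance

/-- centrality over `W` -/
def CenOver (i : K ⟶ G') {W : Scheme.{u}} (w : W ⟶ S) : Prop :=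
  ∀ (X : Over S) (_ : X ⟶ Over.mk w) (x : X ⟶ K) (g : X ⟶ G'), (x ≫ i) * g = g * (x ≫ i)

theorem cenOver_comp {i : K ⟶ G'} {U W : Scheme.{u}} (e : U ⟶ S) (w : W ⟶ U)
    (h : CenOver (G' := Red.bc e G') ((Over.pullback e).map i) w) : CenOver i (w ≫ e) := by
  intro X a x g
  let b' : X ⟶ Over.mk e := Over.homMk (a.left ≫ w) (by
    have h1 := Over.w a
    change a.left ≫ w ≫ e = X.hom at h1
    rw [← h1, Category.assoc]
    rfl)
  have h1 := h (Over.mk b'.left) (Over.homMk a.left rfl)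
    (BcPts.bcEquiv e _ K ((BcPts.overIso b').hom ≫ x))
    (BcPts.bcEquiv e _ G' ((BcPts.overIso b').hom ≫ g))
  rw [← BcPts.bcEquiv_comp, ← BcPts.bcEquiv_mul, ← BcPts.bcEquiv_mul] at h1
  have h2 := (BcPts.bcEquiv e _ G').injective h1
  rw [Category.assoc, ← MonObj.comp_mul, ← MonObj.comp_mul] at h2
  exact (cancel_epi _).mp h2

theorem cenOver_of_bc {i : K ⟶ G'} {U : Scheme.{u}} (e : U ⟶ S)
    (h : ∀ (X : Over U) (x : X ⟶ Red.bc e K) (g : X ⟶ Red.bc e G'),
      (x ≫ (Over.pullback e).map i) * g = g * (x ≫ (Over.pullback e).map i)) : CenOver i e := by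
  have := cenOver_comp e (𝟙 U) (i := i) (fun X _ x g => h X x g)
  rwa [Category.id_comp] at this

theorem cen_of_family {i : K ⟶ G'} (h : ∀ s : S, ∃ (W : Scheme.{u}) (w : W ⟶ S), Flat w ∧ s ∈ Set.range w ∧
    CenOver i w) (X : Over S) (x : X ⟶ K) (g : X ⟶ G') : (x ≫ i) * g = g * (x ≫ i) := by
  choose W w hw hs hc using h
  ext1
  have hfl : ∀ s, Flat (fst X (Over.mk (w s))).left := fun s =>
    inferInstanceAs (Flat (pullback.fst X.hom (w s)))
  refine K452.JointEpi.hom_ext_of_flat_family (I := S) (fun s => (fst X (Over.mk (w s))).left) (fun y => ?_) fun s => ?_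
  · obtain ⟨z, hz⟩ := hs (X.hom y)
    obtain ⟨p, hp, -⟩ := Scheme.Pullback.exists_preimage_pullback (f := X.hom) (g := w (X.hom y)) y z hz.symm
    exact ⟨X.hom y, p, hp⟩
  · have h1 := hc s (X ⊗ Over.mk (w s)) (snd _ _) (fst _ _ ≫ x) (fst _ _ ≫ g)
    rw [Category.assoc, ← MonObj.comp_mul, ← MonObj.comp_mul] at h1
    exact congrArg (fun t => t.left) h1

end cond

section main

open Groth.Agent.Sga3.H828.DiagChart in
/-- the chart of the torus of a splitting -/
noncomputable def torusChart (D : Red.SplitRed G') (B : Over S) : Chart D.T B D.M where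
  chr {X} _ :=
    { toFun := fun x => dsChar (x ≫ D.split.hom.hom.hom)
      invFun := fun χ => dsEquiv X _ χ ≫ D.split.inv.hom.hom
      left_inv := fun x => by
        change dsEquiv X _ (dsChar (x ≫ D.split.hom.hom.hom)) ≫ D.split.inv.hom.hom = x
        rw [dsEquiv_dsChar, Category.assoc, split_hom_inv, Category.comp_id]
      right_inv := fun χ => by
        change dsChar ((dsEquiv X _ χ ≫ D.split.inv.hom.hom) ≫ D.split.hom.hom.hom) = χ
        rw [Category.assoc, split_inv_hom, Category.comp_id, dsChar_dsEquiv]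
      map_mul' := fun x y => by
        have h1 : IsMonHom (D.split.hom.hom.hom : D.T ⟶ Red.DS S D.M) := D.split.hom.hom.isMonHom_hom
        have h2 : (x * y) ≫ (D.split.hom.hom.hom : D.T ⟶ Red.DS S D.M) =
          (x ≫ D.split.hom.hom.hom) * (y ≫ D.split.hom.hom.hom) := @MonObj.mul_comp _ _ _ _ _ _ _ _ x y _ h1
        change dsChar ((x * y) ≫ D.split.hom.hom.hom) = _
        rw [h2, dsChar_mul] }
  chr_comp g t h := by
    change dsChar ((g ≫ h) ≫ D.split.hom.hom.hom) = _
    rw [Category.assoc, dsChar_comp]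
    rfl

theorem exists_adOver (D : Red.SplitRed G') (f : G' ⟶ G) [IsMonHom f] [IsSeparated G.hom]
    [LocallyOfFiniteType G.hom] (s : S) :
    ∃ (V : S.Opens) (N : AddSubgroup D.M), s ∈ V ∧ AdOver D N f V.ι := by
  have hi : IsMonHom D.i := D.maximalTorus.1
  obtain ⟨V, hV, N, -, hN⟩ := K21.DSAdapt.exists_adOn (D.i ≫ f) (torusChart D (Over.mk (𝟙 S))) s
  refine ⟨V, N, hV, fun X a x => ?_⟩
  exact hN X (Over.homMk X.hom (Category.comp_id _)) (by
    have h1 := Over.w a
    change a.left ≫ V.ι = X.hom at h1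
    change Set.range X.hom ⊆ _
    rw [← h1]
    rintro _ ⟨y, rfl⟩
    rw [Scheme.Hom.comp_apply]
    exact (a.left y).2) x

theorem isFinite_DS (Q : Type) [AddCommGroup Q] [Finite Q] : IsFinite (Red.DS S Q).hom := by
  have h1 : IsFinite (Red.diag (ULift.{u} ℤ) Q).hom := by
    change IsFinite (Spec.map (CommRingCat.ofHom (algebraMap (ULift.{u} ℤ) (MonoidAlgebra (ULift.{u} ℤ) (Multiplicative Q)))))
    rw [IsFinite.SpecMap_iff]
    have : Module.Finite (ULift.{u} ℤ) (MonoidAlgebra (ULift.{u} ℤ) (Multiplicative Q)) :=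
      Module.Finite.of_basis (MonoidAlgebra.basis (Multiplicative Q) (ULift.{u} ℤ))
    exact RingHom.finite_algebraMap.mpr this
  exact MorphismProperty.pullback_snd (P := @IsFinite) _ _ h1

/-- **Local form.** -/
theorem local_result (hG' : Red.IsReductive G') (f : G' ⟶ G) [IsMonHom f] [IsSeparated G.hom]
    [LocallyOfFiniteType G.hom] {i : K ⟶ G'} (hK : AlgGrp.IsKernel i f) [LocallyOfFinitePresentation K.hom]
    (hfin : FibFin K) (hc : FibCen i) (s : S) :
    ∃ (W : Scheme.{u}) (w : W ⟶ S), Etale w ∧ s ∈ Set.range w ∧ IsFinite (Red.bc w K).hom ∧ CenOver i w := by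
  obtain ⟨U, e, he, ⟨u, hu⟩, D, -⟩ := SplitFin885.splitNear G' hG' s
  have i1 : IsSeparated (Red.bc e G).hom := inferInstanceAs (IsSeparated (pullback.snd _ _))
  have i2 : LocallyOfFiniteType (Red.bc e G).hom := inferInstanceAs (LocallyOfFiniteType (pullback.snd _ _))
  have i3 : LocallyOfFinitePresentation (Red.bc e K).hom :=
    inferInstanceAs (LocallyOfFinitePresentation (pullback.snd _ _))
  obtain ⟨V, N, huV, hN⟩ := exists_adOver (G := Red.bc e G) D ((Over.pullback e).map f) u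
  have hKe := isKernel_bc e hK
  obtain ⟨κ, hκ⟩ := exists_kappa hN hKe
  have hiso := isIso_kappa hN hKe (hc.bc e) κ hκ
  -- finiteness of `M/N`
  have hQ : Finite (D.M ⧸ N) := by
    let v : V := ⟨u, huV⟩
    let t : Spec (CommRingCat.of (V.toScheme.residueField v)) ⟶ V := V.toScheme.fromSpecResidueField v
    have h1 : IsFinite (Red.bc t (Red.bc V.ι (Red.bc e K))).hom := ((hfin.bc e).bc V.ι) _ t
    have h2 : IsIso ((Over.pullback t).map κ) := inferInstance
    have h3 : IsFinite (Red.bc t (Red.bc V.ι (Red.DS U (D.M ⧸ N)))).hom := by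
      have h4 : (Red.bc t (Red.bc V.ι (Red.DS U (D.M ⧸ N)))).hom =
        ((Over.pullback t).map κ).left ≫ (Red.bc t (Red.bc V.ι (Red.bc e K))).hom := (Over.w _).symm
      rw [h4]
      have : IsIso ((Over.pullback t).map κ).left :=
        inferInstanceAs (IsIso ((Over.forget _).map ((Over.pullback t).map κ)))
      infer_instance
    exact K6.HomLoc.finite_of_isFinite (C := V.toScheme.residueField v)
      ⟨BcIso.bcMapIso t (TorusAlgClosed.dsBcIso V.ι (D.M ⧸ N)) ≪≫ TorusAlgClosed.dsBcIso t (D.M ⧸ N)⟩ h3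
  refine ⟨V, V.ι ≫ e, inferInstance, ⟨⟨u, huV⟩, ?_⟩, ?_, ?_⟩
  · rw [Scheme.Hom.comp_apply]
    exact hu
  · have h1 : IsFinite (Red.DS U (D.M ⧸ N)).hom := isFinite_DS _
    have h2 : IsFinite (Red.bc V.ι (Red.DS U (D.M ⧸ N))).hom := MorphismProperty.pullback_snd (P := @IsFinite) _ _ h1
    have h3 : (Red.bc (V.ι ≫ e) K).hom = (((Over.pullbackComp V.ι e).app K).hom ≫ inv κ).left ≫
      (Red.bc V.ι (Red.DS U (D.M ⧸ N))).hom := (Over.w _).symm
    rw [h3]
    have : IsIso (((Over.pullbackComp V.ι e).app K).hom ≫ inv κ).left :=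
      inferInstanceAs (IsIso ((Over.forget _).map (((Over.pullbackComp V.ι e).app K).hom ≫ inv κ)))
    infer_instance
  · have hMi : IsMonHom D.i := D.maximalTorus.1
    have hfg : AddGroup.FG (D.M ⧸ N) := by
      have : AddGroup.FG D.M := Module.Finite.iff_addGroup_fg.mp inferInstance
      exact QuotientAddGroup.fg N
    have hMT := K21.MultLoc.isMultTypeFT_bc V.ι (K21.MultLoc.isMultTypeFT_DS (S := U) (D.M ⧸ N) hfg)
    have i4 : LocallyOfFiniteType (Red.bc V.ι (Red.bc e G')).hom := by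
      have := hG'.2.1
      have : LocallyOfFiniteType (Red.bc e G').hom := inferInstanceAs (LocallyOfFiniteType (pullback.snd _ _))
      exact inferInstanceAs (LocallyOfFiniteType (pullback.snd _ _))
    have h1 := S5256.central_of_fields (Red.bc V.ι (Red.DS U (D.M ⧸ N))) (Red.bc V.ι (Red.bc e G')) hMT
      ((Over.pullback V.ι).map (k0 D N ≫ D.i)) (fun F _ t X a g h => by
        rw [← hκ, ← Category.assoc]
        exact (((hc.bc e).bc V.ι) F t X a (h ≫ κ) g).symm)
    refine cenOver_comp e V.ι (cenOver_of_bc V.ι fun X x g => ?_)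
    have h2 := h1 X g (x ≫ inv κ)
    rw [← hκ, Category.assoc, IsIso.inv_hom_id_assoc] at h2
    exact h2.symm

end main

end K217.CentKer
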