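import Groth.Agent.SGA3x.K6.DualMT
import Groth.Agent.Sga3B.RedBcAny636
import Groth.Agent.Sga3B.AlgBc2
import Groth.Agent.Sga3B.TorusEtSplit
import Groth.Agent.S3972
import Groth.Agent.Sga3C.CWFam
import Mathlib.AlgebraicGeometry.Sites.Fpqc

/-!
# Representability of character functors through a quotient

* `exists_desc`: descent of morphisms over `S` along an effective epimorphism;
* `representsHom_of_quot`: if every family of homomorphisms `G ⊗ T ⟶ H` kills the kernel of `p : G ⟶ C`, a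
  representing object of `Hom(C, H)` represents `Hom(G, H)`;
* `exists_fpqc`: a pointwise étale-local property stable under base change holds fpqc-locally;
* `exists_dual_fpqc`: the dual of a quasi-isotrivial group of multiplicative type is fpqc-locally constant;
* `eq_one_of_semisimple`: families of homomorphisms from a semisimple group to a commutative group are trivial.
-/

set_option autoImplicit false
open CategoryTheory MonoidalCategory CartesianMonoidalCategory MonObj GrpObj AlgebraicGeometry Limits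
universe u

namespace K217.CharRep
open Groth.Agent.Sga3B Groth.Agent.Sga3B.BcPts Groth.Agent.Sga3B.IsoFam

variable {S : Scheme.{u}}

/-- Descent of a morphism over `S` along an effective epimorphism. -/
theorem exists_desc {X Y Z : Over S} (f : X ⟶ Y) [EffectiveEpi f.left] (φ : X ⟶ Z)
    (h : ∀ (W : Over S) (a b : W ⟶ X), a ≫ f = b ≫ f → a ≫ φ = b ≫ φ) : ∃ φ' : Y ⟶ Z, f ≫ φ' = φ := by
  have key : ∀ {W : Scheme.{u}} (g₁ g₂ : W ⟶ X.left), g₁ ≫ f.left = g₂ ≫ f.left → g₁ ≫ φ.left = g₂ ≫ φ.left := by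
    intro W g₁ g₂ hg
    have h1 : g₂ ≫ X.hom = g₁ ≫ X.hom := by
      rw [← Over.w f, ← Category.assoc, ← hg, Category.assoc]
    have h2 := h (Over.mk (g₁ ≫ X.hom)) (Over.homMk g₁ rfl) (Over.homMk g₂ h1) (by
      ext1
      exact hg)
    exact congrArg (fun k => k.left) h2
  refine ⟨Over.homMk (EffectiveEpi.desc f.left φ.left key) ?_, ?_⟩
  · rw [← cancel_epi f.left, ← Category.assoc, EffectiveEpi.fac, Over.w, Over.w]
  · ext1
    exact EffectiveEpi.fac f.left φ.left key

/-- The base change of a smooth surjective morphism of group schemes is an effective epimorphism. -/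
theorem effectiveEpi_whisker {G C : Over S} (p : G ⟶ C) [Flat p.left] [LocallyOfFinitePresentation p.left]
    [Surjective p.left] (T : Over S) : EffectiveEpi (p ▷ T).left := by
  have h1 : IsPullback (p ▷ T).left (fst G T).left (fst C T).left p.left :=
    (Groth.Agent.Sga3C.CWFam.isPullback_whiskerRight p T).map (Over.forget S)
  have h2 : Flat (p ▷ T).left := MorphismProperty.of_isPullback h1.flip inferInstance
  have h3 : LocallyOfFinitePresentation (p ▷ T).left := MorphismProperty.of_isPullback h1.flip inferInstance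
  have h4 : Surjective (p ▷ T).left := MorphismProperty.of_isPullback h1.flip inferInstance
  infer_instance

/-- A morphism over `S` whose underlying morphism is an epimorphism is an epimorphism. -/
theorem epi_of_left {X Y : Over S} (f : X ⟶ Y) [EffectiveEpi f.left] : Epi f := by
  have : Epi ((Over.forget S).map f) := inferInstanceAs (Epi f.left)
  exact (Over.forget S).epi_of_epi_map this

/-- Points of `C` lift to `G` after a flat cover. -/
theorem exists_lift_cover {G C : Over S} (p : G ⟶ C) [Flat p.left] [LocallyOfFinitePresentation p.left]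
    [Surjective p.left] {X : Over S} (c : X ⟶ C) :
    ∃ (X' : Over S) (q : X' ⟶ X) (g : X' ⟶ G), Flat q.left ∧ LocallyOfFinitePresentation q.left ∧
      Surjective q.left ∧ q ≫ c = g ≫ p := by
  have h1 : IsPullback (pullback.fst c p).left (pullback.snd c p).left c.left p.left :=
    (IsPullback.of_hasPullback c p).map (Over.forget S)
  exact ⟨_, pullback.fst c p, pullback.snd c p, MorphismProperty.of_isPullback h1.flip inferInstance,
    MorphismProperty.of_isPullback h1.flip inferInstance, MorphismProperty.of_isPullback h1.flip inferInstance,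
    pullback.condition⟩

variable {G C H : Over S} [GrpObj G] [GrpObj C] [GrpObj H]

/-- A family of homomorphisms killing the kernel of `p` factors through `p ▷ T`. -/
theorem exists_factor (p : G ⟶ C) [IsMonHom p] [Flat p.left] [LocallyOfFinitePresentation p.left]
    [Surjective p.left] {T : Over S} (φ : G ⊗ T ⟶ H) (hφ : AutFam.IsHomFamily G H φ)
    (hk : ∀ (X : Over S) (g : X ⟶ G) (t : X ⟶ T), g ≫ p = 1 → lift g t ≫ φ = 1) :
    ∃ φ' : C ⊗ T ⟶ H, (p ▷ T) ≫ φ' = φ := by
  have := effectiveEpi_whisker p T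
  refine exists_desc (p ▷ T) φ (fun W a b hab => ?_)
  have h1 : a ≫ snd G T = b ≫ snd G T := by
    have h2 := congrArg (fun k => k ≫ snd C T) hab
    simpa using h2
  have h2 : (a ≫ fst G T) ≫ p = (b ≫ fst G T) ≫ p := by
    have h3 := congrArg (fun k => k ≫ fst C T) hab
    simpa using h3
  have h3 : ((a ≫ fst G T) * (b ≫ fst G T)⁻¹) ≫ p = 1 := by
    rw [MonObj.mul_comp, GrpObj.inv_comp, h2, mul_inv_cancel]
  have h4 := hk W _ (a ≫ snd G T) h3
  have h5 := hφ W ((a ≫ fst G T) * (b ≫ fst G T)⁻¹) (b ≫ fst G T) (a ≫ snd G T)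
  rw [inv_mul_cancel_right, h4, _root_.one_mul, h1] at h5
  have h6 : ∀ c : W ⟶ G ⊗ T, lift (c ≫ fst G T) (c ≫ snd G T) = c := fun c => by ext <;> simp
  rw [← h6 a, ← h6 b, h1, h5]

/-- If all families of homomorphisms `G ⊗ T ⟶ H` kill the kernel of `p : G ⟶ C`, a representing pair of
`Hom(C, H)` gives one of `Hom(G, H)`. -/
theorem representsHom_of_quot (p : G ⟶ C) [IsMonHom p] [Flat p.left] [LocallyOfFinitePresentation p.left]
    [Surjective p.left]
    (hk : ∀ (T : Over S) (φ : G ⊗ T ⟶ H), AutFam.IsHomFamily G H φ →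
      ∀ (X : Over S) (g : X ⟶ G) (t : X ⟶ T), g ≫ p = 1 → lift g t ≫ φ = 1)
    {A : Over S} {υ : C ⊗ A ⟶ H} (hυ : AutFam.RepresentsHom C H A υ) :
    AutFam.RepresentsHom G H A ((p ▷ A) ≫ υ) := by
  refine ⟨fun X g₁ g₂ t => ?_, fun T φ hφ => ?_⟩
  · simp only [lift_whiskerRight_assoc, MonObj.mul_comp]
    exact hυ.1 X _ _ t
  · obtain ⟨φ', hφ'⟩ := exists_factor p φ hφ (hk T φ hφ)
    have := effectiveEpi_whisker p T
    have hepi : Epi (p ▷ T) := epi_of_left _
    have hhom : AutFam.IsHomFamily C H φ' := by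
      intro X c₁ c₂ t
      obtain ⟨X₁, q₁, g₁, _, _, _, h1⟩ := exists_lift_cover p c₁
      obtain ⟨X₂, q₂, g₂, _, _, _, h2⟩ := exists_lift_cover p (q₁ ≫ c₂)
      have h3 := epi_of_left q₁
      have h4 := epi_of_left q₂
      rw [← cancel_epi q₁, ← cancel_epi q₂]
      simp only [← Category.assoc, comp_lift, MonObj.comp_mul]
      rw [Category.assoc q₂ q₁ c₁, h1, Category.assoc q₂ q₁ c₂, h2, ← Category.assoc, ← MonObj.mul_comp]
      have h5 : ∀ (g : X₂ ⟶ G) (u : X₂ ⟶ T), lift (g ≫ p) u ≫ φ' = lift g u ≫ φ := fun g u => by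
        rw [← hφ', lift_whiskerRight_assoc]
      rw [h5, h5, h5]
      exact hφ _ _ _ _
    obtain ⟨a, ha, hu⟩ := hυ.2 T φ' hhom
    refine ⟨a, ?_, fun b hb => hu b ?_⟩
    · dsimp only
      rw [← hφ', ← ha, ← Category.assoc, ← Category.assoc, whisker_exchange]
    · dsimp only at hb ⊢
      rw [← cancel_epi (p ▷ T), hφ', ← hb, ← Category.assoc, ← Category.assoc, whisker_exchange]

/-- Base changes of commutative groups are commutative. -/
theorem comm_bc {A : Over S} [GrpObj A] (hA : ∀ (X : Over S) (a b : X ⟶ A), a * b = b * a) {S' : Scheme.{u}}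
    (f : S' ⟶ S) (X : Over S') (a b : X ⟶ Red.bc f A) : a * b = b * a := by
  apply (bcMulEquiv f X A).symm.injective
  rw [map_mul, map_mul, hA]

/-- A homomorphism from a semisimple group to a commutative group is trivial. -/
theorem hom_eq_one_of_semisimple {D A : Over S} [GrpObj D] [GrpObj A] (hD : Red.IsSemisimple D)
    (hA : ∀ (X : Over S) (a b : X ⟶ A), a * b = b * a) (f : D ⟶ A) [IsMonHom f] : f = 1 := by
  obtain ⟨C, _, f₀, D', _, d, -, -, -, -, hd, -, -, -, hk, -, hi⟩ :=
    Groth.Agent.S3972.result D ⟨hD.1, hD.2.1, fun s => (hD.2.2 s).1⟩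
  have := hi hD
  have h1 := hk A f hA
  rw [← cancel_epi d, h1, MonObj.comp_one]

/-- A family of homomorphisms from a semisimple group to a commutative group is trivial. -/
theorem eq_one_of_semisimple {D A : Over S} [GrpObj D] [GrpObj A] (hD : Red.IsSemisimple D)
    (hA : ∀ (X : Over S) (a b : X ⟶ A), a * b = b * a) {T : Over S} (φ : D ⊗ T ⟶ A)
    (hφ : AutFam.IsHomFamily D A φ) (X : Over S) (x : X ⟶ D) (t : X ⟶ T) : lift x t ≫ φ = 1 := by
  have := isMonHom_unfam hφ
  have h1 := hom_eq_one_of_semisimple (RedBcAny636.isSemisimple_bc T.hom hD) (comm_bc hA T.hom) (unfam φ)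
  let i : (Over.map T.hom).obj (Over.mk t.left) ≅ X := overIso (f := T.hom) t
  have h2 := comp_unfam φ (bcEquiv T.hom _ D (i.hom ≫ x))
  rw [h1, MonObj.comp_one, Equiv.symm_apply_apply] at h2
  have h3 : lift (i.hom ≫ x) (st (Over.mk t.left)) ≫ φ = 1 := by
    apply (bcMulEquiv T.hom _ A).injective
    rw [map_one]
    exact h2.symm
  have h4 : i.hom ≫ t = st (Over.mk t.left) := by
    ext1
    exact Category.id_comp _
  rw [← h4, ← comp_lift, Category.assoc] at h3
  rw [← cancel_epi i.hom, h3, MonObj.comp_one]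

/-- Transport of a pointwise étale-local property stable under base change to the fpqc topology. -/
theorem exists_fpqc {P : ∀ (S' : Scheme.{u}), (S' ⟶ S) → Prop}
    (hP : ∀ (S' S'' : Scheme.{u}) (f : S' ⟶ S) (v : S'' ⟶ S'), P S' f → P S'' (v ≫ f))
    (h : TwC.Locally S TwC.Topology.etale P) : TwC.Locally S TwC.Topology.fpqc P := by
  choose V f hf hs hp using h
  have hf' : ∀ s, Etale (f s) := hf
  let F : (∐ V) ⟶ S := Sigma.desc f
  have hF : Etale F := by
    have := IsZariskiLocalAtSource.iff_of_openCover (P := @Etale) (sigmaOpenCover V) (f := F)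
    rw [this]
    intro s
    have : (sigmaOpenCover V).f s ≫ F = f s := Sigma.ι_desc _ _
    rw [this]
    exact hf s
  have hsurj : Surjective F := by
    refine ⟨fun s => ?_⟩
    obtain ⟨x, hx⟩ := hs s
    refine ⟨Sigma.ι V s x, ?_⟩
    rw [← Scheme.Hom.comp_apply, Sigma.ι_desc]
    exact hx
  refine ⟨∐ V, F, inferInstance, hsurj, fun W hW => AlgBc.qc_cover_of_isOpenMap F F.isOpenMap W hW, fun x => ?_⟩
  obtain ⟨s, y, rfl⟩ := (sigmaOpenCover V).exists_eq x
  let U : (∐ V).Opens := (Sigma.ι V s).opensRange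
  refine ⟨U, ⟨y, rfl⟩, ?_⟩
  have h1 : U.ι ≫ F = ((Sigma.ι V s).isoOpensRange.inv) ≫ f s := by
    rw [Iso.eq_inv_comp, ← Category.assoc, Scheme.Hom.isoOpensRange_hom_ι]
    exact Sigma.ι_desc _ _
  rw [h1]
  exact hP _ _ _ _ (hp s)

/-- If `H` becomes diagonalisable over `f`, the base change of its dual is constant. -/
theorem exists_const {H D : Over S} [GrpObj H] [GrpObj D] {υ : H ⊗ D ⟶ Red.Gm S}
    (hD : AutFam.RepresentsHom H (Red.Gm S) D υ)
    (hbil : ∀ (X : Over S) (h : X ⟶ H) (a b : X ⟶ D), lift h (a * b) ≫ υ = (lift h a ≫ υ) * (lift h b ≫ υ))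
    {S' : Scheme.{u}} (f : S' ⟶ S) {M : Type} [AddCommGroup M]
    (e : Grp.mk (Red.bc f H) ≅ Grp.mk (Red.DS S' M)) :
    ∃ (I : Type u) (_ : Group I) (e : Red.bc f D ≅ TwC.const S' I), TwC.IsConstGrp I (Red.bc f D) e := by
  obtain ⟨υ', h1, h2⟩ := K6.HomGrp.exists_bc_bil hD hbil f
  let a : Red.bc f H ≅ Red.DS S' M := (Grp.forget _).mapIso e
  let b : Red.bc f (Red.DS S ℤ) ≅ Red.DS S' ℤ := (Grp.forget _).mapIso (TorusAlgClosed.dsBcIso f ℤ)
  have ha : IsMonHom a.hom := e.hom.hom.isMonHom_hom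
  have hb : IsMonHom b.hom := (TorusAlgClosed.dsBcIso f ℤ).hom.hom.isMonHom_hom
  have ha' : IsMonHom a.symm.hom := inferInstanceAs (IsMonHom a.inv)
  have hb' : IsMonHom b.symm.hom := inferInstanceAs (IsMonHom b.inv)
  have h3 : AutFam.RepresentsHom (Red.DS S' M) (Red.DS S' ℤ) (Red.bc f D)
      ((a.symm.hom ▷ Red.bc f D) ≫ υ' ≫ b.symm.inv) :=
    HomFun898.representsHom_of_iso a.symm b.symm h1
  have h4 : K6.HomGrp.IsBil ((a.symm.hom ▷ Red.bc f D) ≫ υ' ≫ b.symm.inv) :=
    h2.of_iso a.symm.hom b.hom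
  obtain ⟨ε, hε⟩ := K6.DualMT.exists_const_iso h3 h4
  exact ⟨ULift.{u} (Multiplicative (ℤ →+ M)), inferInstance, _, K6.DualMT.isConstGrp_reindex MulEquiv.ulift.symm hε⟩

/-- **The dual of a quasi-isotrivial group of multiplicative type is a twisted constant group.** -/
theorem exists_dual_fpqc {H : Over S} [GrpObj H]
    (hH : TwC.Locally S TwC.Topology.etale (fun S' f => ∃ (M : Type) (_ : AddCommGroup M),
      Nonempty (Grp.mk (Red.bc f H) ≅ Grp.mk (Red.DS S' M)))) :
    ∃ (D : Over S) (_ : GrpObj D) (υ : H ⊗ D ⟶ Red.Gm S), AutFam.RepresentsHom H (Red.Gm S) D υ ∧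
      (∀ (X : Over S) (h : X ⟶ H) (a b : X ⟶ D), lift h (a * b) ≫ υ = (lift h a ≫ υ) * (lift h b ≫ υ)) ∧
      TwC.IsTwConstGrp TwC.Topology.fpqc D := by
  obtain ⟨D, _, υ, hD, hbil, -⟩ := K6.DualMT.exists_dual ℤ hH
  refine ⟨D, inferInstance, υ, hD, hbil, ?_⟩
  obtain ⟨S', F, h1, h2, h3, h4⟩ := exists_fpqc (P := fun S' f => ∃ (M : Type) (_ : AddCommGroup M),
      Nonempty (Grp.mk (Red.bc f H) ≅ Grp.mk (Red.DS S' M))) (fun S' S'' f v ⟨M, _, ⟨e⟩⟩ =>
        ⟨M, inferInstance, ⟨BcIso.bcCompIso v f H ≪≫ BcIso.bcMapIso v e ≪≫ TorusAlgClosed.dsBcIso v M⟩⟩) hH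
  refine ⟨S', F, h1, h2, h3, fun s' => ?_⟩
  obtain ⟨U, hU, M, _, ⟨e⟩⟩ := h4 s'
  exact ⟨U, hU, exists_const hD hbil _ e⟩

/-- The dual of a torus is a twisted constant group. -/
theorem exists_dual_torus {H : Over S} [GrpObj H] (hH : Red.IsTorus H) :
    ∃ (D : Over S) (_ : GrpObj D) (υ : H ⊗ D ⟶ Red.Gm S), AutFam.RepresentsHom H (Red.Gm S) D υ ∧
      (∀ (X : Over S) (h : X ⟶ H) (a b : X ⟶ D), lift h (a * b) ≫ υ = (lift h a ≫ υ) * (lift h b ≫ υ)) ∧
      TwC.IsTwConstGrp TwC.Topology.fpqc D := by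
  apply exists_dual_fpqc
  intro s
  obtain ⟨B, _, v, r, hv, hs, h⟩ := TorusEtSplit.exists_etale_split H hH s
  exact ⟨_, v, hv, hs, _, _, h⟩

/-- **Duals through a quotient**: if `p : G ⟶ C` is a flat surjective homomorphism onto a torus and families of
characters of `G` kill its kernel, the functor of characters of `G` is a twisted constant group. -/
theorem exists_dual_of_quot {G C : Over S} [GrpObj G] [GrpObj C] (hC : Red.IsTorus C) (p : G ⟶ C) [IsMonHom p]
    [Flat p.left] [LocallyOfFinitePresentation p.left] [Surjective p.left]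
    (hk : ∀ (T : Over S) (φ : G ⊗ T ⟶ Red.Gm S), AutFam.IsHomFamily G (Red.Gm S) φ →
      ∀ (X : Over S) (g : X ⟶ G) (t : X ⟶ T), g ≫ p = 1 → lift g t ≫ φ = 1) :
    ∃ (A : Over S) (_ : GrpObj A) (υ : G ⊗ A ⟶ Red.Gm S), AutFam.RepresentsHom G (Red.Gm S) A υ ∧
      (∀ (X : Over S) (g : X ⟶ G) (a b : X ⟶ A), lift g (a * b) ≫ υ = (lift g a ≫ υ) * (lift g b ≫ υ)) ∧
      TwC.IsTwConstGrp TwC.Topology.fpqc A := by
  obtain ⟨A, _, υ, h1, h2, h3⟩ := exists_dual_torus hC
  refine ⟨A, inferInstance, (p ▷ A) ≫ υ, representsHom_of_quot p hk h1, fun X g a b => ?_, h3⟩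
  simp only [lift_whiskerRight_assoc]
  exact h2 X _ a b

end K217.CharRep
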