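import Groth.Agent.Red.K217.RedNeutral

/-!
# The locus of connected fibres of a group scheme
-/

set_option autoImplicit false
universe u

open CategoryTheory CategoryTheory.Limits MonoidalCategory CartesianMonoidalCategory MonObj GrpObj AlgebraicGeometry

namespace K217.ConnFib

open Groth.Agent Groth.Agent.Sga3.H778.NeutralPts

variable {S : Scheme.{u}}

/-- A fibre of a group scheme is connected iff it is contained in the neutral set. -/
theorem isConnected_iff (G : Over S) [GrpObj G] (s : S) :
    _root_.IsConnected (G.hom ⁻¹' {s}) ↔ ∀ x : G.left, G.hom x = s → x ∈ SGA3x.neutralSet G := by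
  have hs : unitSec G s ∈ G.hom ⁻¹' {s} := hom_unitSec G s
  rw [neutralSet_eq]
  constructor
  · rintro h x rfl
    simp only [MoreMor.sectionComponents, Set.mem_ofPred_eq]
    rw [h.isPreconnected.connectedComponentIn hs]
    rfl
  · intro h
    have h1 : G.hom ⁻¹' {s} ⊆ connectedComponentIn (G.hom ⁻¹' {s}) (unitSec G s) := by
      intro x hx
      have hx' := h x hx
      have hx'' : G.hom x = s := hx
      simp only [MoreMor.sectionComponents, Set.mem_ofPred_eq] at hx'
      rw [hx''] at hx'
      exact hx'
    have h2 : connectedComponentIn (G.hom ⁻¹' {s}) (unitSec G s) = G.hom ⁻¹' {s} :=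
      Set.Subset.antisymm (connectedComponentIn_subset _ _) h1
    rw [← h2]
    exact isConnected_connectedComponentIn_iff.mpr hs

theorem compl_eq_image (G : Over S) [GrpObj G] :
    {s : S | _root_.IsConnected (G.hom ⁻¹' {s})}ᶜ = G.hom '' (SGA3x.neutralSet G)ᶜ := by
  ext s
  rw [Set.mem_compl_iff, Set.mem_setOf_eq, isConnected_iff]
  push Not
  constructor
  · rintro ⟨x, hx, hx'⟩
    exact ⟨x, hx', hx⟩
  · rintro ⟨x, hx, hx'⟩
    exact ⟨x, hx', hx⟩

/-- If the neutral set is closed in the smooth group scheme `G`, the locus of connected fibres is closed. -/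
theorem isClosed_setOf (G : Over S) [GrpObj G] [Smooth G.hom] (h : IsClosed (SGA3x.neutralSet G)) :
    IsClosed {s : S | _root_.IsConnected (G.hom ⁻¹' {s})} := by
  rw [← isOpen_compl_iff, compl_eq_image]
  exact G.hom.isOpenMap _ h.isOpen_compl

end K217.ConnFib
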