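import Groth.Agent.Red.K217.MTorBc
import Groth.Agent.RedSub.K197.Rad
import Groth.Agent.RedSub.K197.LocP

/-!
# The normaliser of a critical torus is the normaliser of its centraliser
-/

set_option autoImplicit false
open CategoryTheory MonoidalCategory CartesianMonoidalCategory MonObj GrpObj AlgebraicGeometry Limits
universe u

namespace K217.CritNorm
open Groth.Agent Groth.Agent.Sga3B Groth.Agent.Sga3B.DSPts

variable {S S' : Scheme.{u}} {G Q Z ZZ N : Over S} [GrpObj G] [GrpObj Q] [GrpObj Z] [GrpObj ZZ] [GrpObj N]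

/-- A section normalising the reductive subgroup `Z` normalises its radical. -/
theorem core (hZ : Red.IsReductive Z) (z : Z ⟶ G) [IsMonHom z] [Mono z] (jz : ZZ ⟶ Z) (hZZ : Red.IsCentre jz)
    (q' : Q ⟶ ZZ) (hq : Red.IsMaximalTorus q') (g : 𝟙_ (Over S) ⟶ G)
    (h1 : ∀ (X : Over S) (y : X ⟶ Z), ∃ y' : X ⟶ Z, (toUnit X ≫ g) * (y ≫ z) * (toUnit X ≫ g)⁻¹ = y' ≫ z)
    (h2 : ∀ (X : Over S) (y : X ⟶ Z), ∃ y' : X ⟶ Z, (toUnit X ≫ g)⁻¹ * (y ≫ z) * (toUnit X ≫ g) = y' ≫ z)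
    (X : Over S) (x : X ⟶ Q) : ∃ x' : X ⟶ Q,
      (toUnit X ≫ g) * (x ≫ q' ≫ jz ≫ z) * (toUnit X ≫ g)⁻¹ = x' ≫ q' ≫ jz ≫ z := by
  have m1 := hq.1
  have m2 := hZZ.1
  have m3 := hZZ.2.1
  have m4 := hq.2.1
  obtain ⟨c₁, hc₁⟩ := h1 Q (q' ≫ jz)
  have e1 : ∀ (Y : Over S) (y : Y ⟶ Q), y ≫ c₁ ≫ z =
      (toUnit Y ≫ g) * (y ≫ q' ≫ jz ≫ z) * (toUnit Y ≫ g)⁻¹ := by
    intro Y y
    rw [← hc₁, MonObj.comp_mul, MonObj.comp_mul, GrpObj.comp_inv, ← Category.assoc y (toUnit Q), toUnit_unique (y ≫ toUnit Q) (toUnit Y),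
      Category.assoc q' jz z]
  have e2 : IsMonHom c₁ := Sga3B.IsoFam.isMonHom_of_mul _ fun Y a b => by
    have h1 : ((a * b) ≫ c₁) ≫ z = (a ≫ c₁ ≫ z) * (b ≫ c₁ ≫ z) := by
      have h2 : (a * b) ≫ q' ≫ jz ≫ z = (a ≫ q' ≫ jz ≫ z) * (b ≫ q' ≫ jz ≫ z) := MonObj.mul_comp _ _ _
      rw [Category.assoc, e1, e1, e1, h2]
      group
    rw [← cancel_mono z, h1, MonObj.mul_comp, Category.assoc, Category.assoc]
  obtain ⟨c₂, hc₂⟩ := (hZZ.2.2 Q c₁).2 fun X' y h => by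
    rw [Category.comp_id, ← cancel_mono z, MonObj.mul_comp, MonObj.mul_comp, Category.assoc, e1]
    obtain ⟨h', hh'⟩ := h2 X' h
    have e3 := K197.RadSplit.central_of_isCentre hZZ (y ≫ q') X' (𝟙 _) h'
    have e4 := congrArg (fun t => t ≫ z) e3
    simp only [MonObj.mul_comp, Category.assoc, Category.id_comp] at e4
    rw [← hh'] at e4
    have e5 : h ≫ z = (toUnit X' ≫ g) * ((toUnit X' ≫ g)⁻¹ * (h ≫ z) * (toUnit X' ≫ g)) * (toUnit X' ≫ g)⁻¹ := by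
      group
    rw [e5]
    calc _ = (toUnit X' ≫ g) * ((y ≫ q' ≫ jz ≫ z) * ((toUnit X' ≫ g)⁻¹ * (h ≫ z) * (toUnit X' ≫ g))) * (toUnit X' ≫ g)⁻¹ := by group
      _ = _ := by rw [e4]; group
  have e6 : IsMonHom c₂ := K197.RadSplit.isMonHom_of_comp c₂ jz (hc₂.symm ▸ e2)
  obtain ⟨c₃, hc₃⟩ := K197.Rad.exists_le_rad hZ hZZ hq hq.2.2.1 c₂
  refine ⟨x ≫ c₃, ?_⟩
  rw [← e1, Category.assoc, reassoc_of% hc₃, reassoc_of% hc₂]


/-- The unit over `X'`, viewed over `S`, is `X'`. -/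
noncomputable def unitIso (X : Over S) : (Over.map X.hom).obj (𝟙_ (Over X.left)) ≅ X :=
  Over.isoMk (Iso.refl _) (by simp)

/-- **The normaliser of a critical torus is the normaliser of its centraliser.** -/
theorem isNormalizerOf (hZ : Red.IsReductive Z) (z : Z ⟶ G) (q : Q ⟶ G) (hz : Red.IsCentralizerOf q z)
    (jz : ZZ ⟶ Z) (hZZ : Red.IsCentre jz) (hm : SGA3x.IsMultTypeFT ZZ)
    (q' : Q ⟶ ZZ) (hq' : q' ≫ jz ≫ z = q) (hq : Red.IsMaximalTorus q')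
    (nG : N ⟶ G) (hN : Red.IsNormalizerOf q nG) : Red.IsNormalizerOf z nG := by
  have i1 := hz.1
  have i2 := hz.2.1
  refine ⟨hN.1, hN.2.1, fun X g => (hN.2.2 X g).trans ⟨fun hg X' x h => ?_, fun hg X' x h => ?_⟩⟩
  · constructor
    · obtain ⟨w, hw⟩ := (hz.2.2 X' ((x ≫ g) * (h ≫ z) * (x ≫ g)⁻¹)).2 fun X'' y t => by
        obtain ⟨t', ht'⟩ := (hg X'' (y ≫ x) t).2
        have e1 := (hz.2.2 X'' ((y ≫ h) ≫ z)).1 ⟨_, rfl⟩ X'' (𝟙 _) t'
        rw [← ht', Category.id_comp, Category.assoc] at e1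
        rw [MonObj.comp_mul, MonObj.comp_mul, GrpObj.comp_inv]
        simp only [Category.assoc] at e1 ⊢
        calc _ = (y ≫ x ≫ g) * ((y ≫ h ≫ z) * ((y ≫ x ≫ g)⁻¹ * (t ≫ q) * (y ≫ x ≫ g))) * (y ≫ x ≫ g)⁻¹ := by group
          _ = _ := by rw [e1]; group
      exact ⟨w, hw.symm⟩
    · obtain ⟨w, hw⟩ := (hz.2.2 X' ((x ≫ g)⁻¹ * (h ≫ z) * (x ≫ g))).2 fun X'' y t => by
        obtain ⟨t', ht'⟩ := (hg X'' (y ≫ x) t).1
        have e1 := (hz.2.2 X'' ((y ≫ h) ≫ z)).1 ⟨_, rfl⟩ X'' (𝟙 _) t'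
        rw [← ht', Category.id_comp, Category.assoc] at e1
        rw [MonObj.comp_mul, MonObj.comp_mul, GrpObj.comp_inv]
        simp only [Category.assoc] at e1 ⊢
        calc _ = (y ≫ x ≫ g)⁻¹ * ((y ≫ h ≫ z) * ((y ≫ x ≫ g) * (t ≫ q) * (y ≫ x ≫ g)⁻¹)) * (y ≫ x ≫ g) := by group
          _ = _ := by rw [e1]; group
      exact ⟨w, hw.symm⟩
  · let f := X'.hom
    let g₀ : X' ⟶ G := x ≫ g
    let gt : 𝟙_ (Over X'.left) ⟶ Red.bc f G := bcEquiv f _ G ((unitIso X').hom ≫ g₀)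
    have hgt : ∀ Y : Over X'.left, toUnit Y ≫ gt = bcEquiv f Y G ((Over.map f).map (toUnit Y) ≫ (unitIso X').hom ≫ g₀) :=
      fun Y => bcEquiv_naturality _ _ _ _
    have hR : Red.IsReductive (Red.bc f Z) := Sga3B.RedBcAny636.isReductive_bc f hZ
    have hC : Red.IsCentre ((Over.pullback f).map jz) := K197.LocP.isCentre_bc f hZZ
    have hT : Red.IsMaximalTorus ((Over.pullback f).map q') := MTorBc.isMaximalTorus_bc f hm hq
    have m1 : Mono ((Over.pullback f).map z) := inferInstance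
    have key : ∀ (Y : Over X'.left) (y : Y ⟶ Red.bc f Z), (∃ y' : Y ⟶ Red.bc f Z, (toUnit Y ≫ gt) * (y ≫ (Over.pullback f).map z) * (toUnit Y ≫ gt)⁻¹ = y' ≫ (Over.pullback f).map z) ∧
        (∃ y' : Y ⟶ Red.bc f Z, (toUnit Y ≫ gt)⁻¹ * (y ≫ (Over.pullback f).map z) * (toUnit Y ≫ gt) = y' ≫ (Over.pullback f).map z) := by
      intro Y y
      obtain ⟨⟨a, ha⟩, b, hb⟩ := hg ((Over.map f).obj Y) ((Over.map f).map (toUnit Y) ≫ (unitIso X').hom ≫ x) ((bcEquiv f Y Z).symm y)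
      have e1 : y ≫ (Over.pullback f).map z = bcEquiv f Y G ((bcEquiv f Y Z).symm y ≫ z) := by
        rw [← bcEquiv_comp, MulEquiv.apply_symm_apply]
      refine ⟨⟨bcEquiv f Y Z a, ?_⟩, ⟨bcEquiv f Y Z b, ?_⟩⟩
      · rw [bcEquiv_comp, ← ha, hgt, e1, map_mul, map_mul, map_inv, Category.assoc, Category.assoc]
      · rw [bcEquiv_comp, ← hb, hgt, e1, map_mul, map_mul, map_inv, Category.assoc, Category.assoc]
    have e2 : bcEquiv f _ Q ((unitIso X').hom ≫ h) ≫ (Over.pullback f).map q' ≫ (Over.pullback f).map jz ≫ (Over.pullback f).map z =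
        bcEquiv f _ G ((unitIso X').hom ≫ h ≫ q) := by
      rw [← Functor.map_comp, ← Functor.map_comp, hq', bcEquiv_comp, Category.assoc]
    have e3 : toUnit (𝟙_ (Over X'.left)) ≫ gt = gt := by
      rw [toUnit_unique (toUnit (𝟙_ (Over X'.left))) (𝟙 _), Category.id_comp]
    have e4 : ∀ w : 𝟙_ (Over X'.left) ⟶ Red.bc f Q, w ≫ (Over.pullback f).map q' ≫ (Over.pullback f).map jz ≫ (Over.pullback f).map z =
        bcEquiv f _ G ((bcEquiv f _ Q).symm w ≫ q) := by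
      intro w
      rw [← Functor.map_comp, ← Functor.map_comp, hq', ← bcEquiv_comp, MulEquiv.apply_symm_apply]
    constructor
    · obtain ⟨w, hw⟩ := core hR ((Over.pullback f).map z) ((Over.pullback f).map jz) hC ((Over.pullback f).map q') hT gt
        (fun Y y => (key Y y).1) (fun Y y => (key Y y).2) _ (bcEquiv f _ Q ((unitIso X').hom ≫ h))
      rw [e2, e3, e4, ← map_mul, ← map_inv, ← map_mul] at hw
      have h5 := (bcEquiv f _ G).injective hw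
      refine ⟨(unitIso X').inv ≫ (bcEquiv f _ Q).symm w, ?_⟩
      rw [Category.assoc, ← h5, MonObj.comp_mul, MonObj.comp_mul, GrpObj.comp_inv, Iso.inv_hom_id_assoc, Iso.inv_hom_id_assoc]
    · obtain ⟨w, hw⟩ := core hR ((Over.pullback f).map z) ((Over.pullback f).map jz) hC ((Over.pullback f).map q') hT gt⁻¹
        (fun Y y => by simpa only [GrpObj.comp_inv, _root_.inv_inv] using (key Y y).2)
        (fun Y y => by simpa only [GrpObj.comp_inv, _root_.inv_inv] using (key Y y).1) _ (bcEquiv f _ Q ((unitIso X').hom ≫ h))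
      rw [GrpObj.comp_inv, _root_.inv_inv, e2, e3, e4, ← map_inv, ← map_mul, ← map_mul] at hw
      have h5 := (bcEquiv f _ G).injective hw
      refine ⟨(unitIso X').inv ≫ (bcEquiv f _ Q).symm w, ?_⟩
      rw [Category.assoc, ← h5, MonObj.comp_mul, MonObj.comp_mul, GrpObj.comp_inv, Iso.inv_hom_id_assoc, Iso.inv_hom_id_assoc]

end K217.CritNorm
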