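import Groth.Prelude.Def_Red2
import Mathlib.RingTheory.AdjoinRoot
import Mathlib.RingTheory.Flat.FaithfullyFlat.Basic
import Mathlib.RingTheory.RingHom.FaithfullyFlat

/-!
# A flat cover with a unit `z` such that `z² - 1` is a unit
-/

set_option autoImplicit false
universe u
open CategoryTheory MonoidalCategory CartesianMonoidalCategory MonObj GrpObj AlgebraicGeometry Limits

namespace K217.GoldCover

open Polynomial

abbrev R0 := ULift.{u} ℤ

instance : IsDomain R0.{u} := MulEquiv.isDomain ℤ (ULift.ringEquiv (R := ℤ)).toMulEquiv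

/-- `ℤ[z]/(z² - z - 1)` -/
noncomputable abbrev A0 : Type u := AdjoinRoot (X ^ 2 - X - 1 : (R0.{u})[X])

lemma monic0 : (X ^ 2 - X - 1 : (R0.{u})[X]).Monic := by
  have : (X ^ 2 - X - 1 : (R0.{u})[X]) = X ^ 2 - (X + 1) := by ring
  rw [this]
  apply monic_X_pow_sub
  rw [show (X + 1 : (R0.{u})[X]) = X + C 1 by simp, degree_X_add_C]
  norm_num

lemma natDegree0 : (X ^ 2 - X - 1 : (R0.{u})[X]).natDegree = 2 := by
  have : (X ^ 2 - X - 1 : (R0.{u})[X]) = X ^ 2 - (X + C 1) := by simp; ring
  rw [this]
  apply natDegree_eq_of_degree_eq_some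
  rw [degree_sub_eq_left_of_degree_lt]
  · simp only [degree_X_pow, Nat.cast_ofNat]
  · simp only [degree_X_pow, degree_X_add_C]
    norm_num

instance : Module.Free R0.{u} A0.{u} := monic0.free_adjoinRoot

instance : Nontrivial A0.{u} := by
  have h : (X ^ 2 - X - 1 : (R0.{u})[X]).degree ≠ 0 := by
    rw [degree_eq_natDegree monic0.ne_zero, natDegree0]; norm_num
  exact AdjoinRoot.nontrivial _ h

instance : Module.FaithfullyFlat R0.{u} A0.{u} := inferInstance

lemma root_mul : (AdjoinRoot.root (X ^ 2 - X - 1 : (R0.{u})[X])) * (AdjoinRoot.root (X ^ 2 - X - 1 : (R0.{u})[X])) =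
    AdjoinRoot.root (X ^ 2 - X - 1 : (R0.{u})[X]) + 1 := by
  have h := AdjoinRoot.eval₂_root (X ^ 2 - X - 1 : (R0.{u})[X])
  simp only [eval₂_sub, eval₂_pow, eval₂_X, eval₂_one] at h
  linear_combination h

/-- the structure morphism of `Spec A0` -/
noncomputable def p0 : Spec (CommRingCat.of A0.{u}) ⟶ Spec (CommRingCat.of R0.{u}) :=
  Spec.map (CommRingCat.ofHom (algebraMap R0.{u} A0.{u}))

instance : Flat p0.{u} := by
  rw [p0, Flat.SpecMap_iff]
  have h : Module.Flat R0.{u} A0.{u} := inferInstance
  exact RingHom.flat_algebraMap_iff.mpr h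

instance : Surjective p0.{u} := by
  have h : Module.FaithfullyFlat R0.{u} A0.{u} := inferInstance
  have := (RingHom.faithfullyFlat_algebraMap_iff (R := R0.{u}) (S := A0.{u})).mpr h
  refine ⟨?_⟩
  exact (RingHom.FaithfullyFlat.iff_flat_and_comap_surjective.mp this).2

variable (S : Scheme.{u})

/-- the cover -/
noncomputable def cov : Over S := Over.mk (pullback.fst (specULiftZIsTerminal.from S) p0)

instance : Flat (cov S).hom := inferInstanceAs (Flat (pullback.fst _ _))

instance : Surjective (cov S).hom := inferInstanceAs (Surjective (pullback.fst _ _))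

/-- the unit -/
noncomputable def zz : Γ((cov S).left, ⊤) :=
  (pullback.snd (specULiftZIsTerminal.from S) p0).appTop.hom
    ((Scheme.ΓSpecIso (CommRingCat.of A0.{u})).inv.hom (AdjoinRoot.root _))

/-- the ring homomorphism giving `zz` -/
noncomputable def zHom : A0.{u} →+* Γ((cov S).left, ⊤) :=
  (pullback.snd (specULiftZIsTerminal.from S) p0).appTop.hom.comp
    ((Scheme.ΓSpecIso (CommRingCat.of A0.{u})).inv.hom)

lemma zz_eq : zz S = zHom S (AdjoinRoot.root _) := rfl

lemma zz_mul : zz S * zz S = zz S + 1 := by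
  rw [zz_eq, ← map_mul, root_mul, map_add, map_one]

lemma zz_mul' : zz S * (zz S - 1) = 1 := by
  linear_combination zz_mul S

lemma zz_sq_sub : zz S ^ 2 - 1 = zz S := by
  linear_combination zz_mul S

/-- `zz` as a unit -/
noncomputable def zu : (Γ((cov S).left, ⊤))ˣ where
  val := zz S
  inv := zz S - 1
  val_inv := zz_mul' S
  inv_val := by rw [mul_comm]; exact zz_mul' S

lemma epi_fst {X Y : Over S} (f g : X ⟶ Y) (h : fst X (cov S) ≫ f = fst X (cov S) ≫ g) : f = g := by
  have h1 : (fst X (cov S)).left = pullback.fst X.hom (cov S).hom := rfl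
  have h2 : Flat (fst X (cov S)).left := by rw [h1]; infer_instance
  have h3 : Surjective (fst X (cov S)).left := by rw [h1]; infer_instance
  have h4 : Epi (fst X (cov S)).left := Flat.epi_of_flat_of_surjective _
  ext1
  rw [← cancel_epi (fst X (cov S)).left]
  exact congrArg (fun t => t.left) h

lemma epi_toUnit {Y : Over S} (f g : 𝟙_ (Over S) ⟶ Y) (h : toUnit (cov S) ≫ f = toUnit (cov S) ≫ g) : f = g := by
  have h1 : (toUnit (cov S)).left = (cov S).hom := by
    have := Over.w (toUnit (cov S))
    exact (Category.comp_id _).symm.trans this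
  have h2 : Flat (toUnit (cov S)).left := by rw [h1]; exact inferInstanceAs (Flat (cov S).hom)
  have h3 : Surjective (toUnit (cov S)).left := by rw [h1]; exact inferInstanceAs (Surjective (cov S).hom)
  have h4 : Epi (toUnit (cov S)).left := Flat.epi_of_flat_of_surjective _
  ext1
  rw [← cancel_epi (toUnit (cov S)).left]
  exact congrArg (fun t => t.left) h

end K217.GoldCover
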