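import Groth.Agent.Sga3.H813.Neutral
import Groth.Agent.Sga3.H816.NeutralRed
import Groth.Agent.Localalg.GrpSchPts
import Groth.Agent.Sga3B.RadOpen.Transport

/-!
# The identity component of a smooth group scheme and of its geometric fibres
-/

set_option autoImplicit false
universe u

open CategoryTheory CategoryTheory.Limits MonoidalCategory CartesianMonoidalCategory MonObj GrpObj AlgebraicGeometry

namespace K217.IdComp

open Groth.Agent Groth.Agent.Localalg.GrpSchPts

/-- A homomorphism from a connected group scheme over a field to `N` factors through every open subgroup scheme. -/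
theorem range_subset {K : Type u} [Field K] {H G N : Over (Spec (CommRingCat.of K))} [GrpObj H] [GrpObj G] [GrpObj N]
    [ConnectedSpace H.left] (v : G ⟶ N) [IsMonHom v] [IsOpenImmersion v.left] (j : H ⟶ N) [IsMonHom j] :
    Set.range j.left ⊆ Set.range v.left := by
  have hO : IsOpen (Set.range v.left) := v.left.isOpenEmbedding.isOpen_range
  have hsub : IsSubgroupSet N (Set.range v.left) := isSubgroupSet_range N v
  have hC : IsClosed (Set.range v.left) := hsub.isClosed_of_isOpen hO
  have hcl : IsClopen (j.left ⁻¹' (Set.range v.left)) :=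
    ⟨hC.preimage j.left.continuous, hO.preimage j.left.continuous⟩
  have hne : (j.left ⁻¹' (Set.range v.left)).Nonempty := by
    let s : Spec (CommRingCat.of K) := IsLocalRing.closedPoint K
    refine ⟨η[H].left s, ?_⟩
    change j.left (η[H].left s) ∈ Set.range v.left
    rw [← Scheme.Hom.comp_apply, ← Over.comp_left, IsMonHom.one_hom]
    exact hsub.one_mem s
  have huniv : j.left ⁻¹' (Set.range v.left) = Set.univ := hcl.eq_univ hne
  rintro _ ⟨x, rfl⟩
  have hx : x ∈ j.left ⁻¹' (Set.range v.left) := by rw [huniv]; trivial
  exact hx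

/-- Two group schemes with the same image under open immersions into a third are isomorphic as groups, over it. -/
theorem exists_grpIso_of_range_eq {S : Scheme.{u}} {U P H : Over S} [GrpObj U] [GrpObj P] [GrpObj H]
    (i : U ⟶ H) [IsMonHom i] [IsOpenImmersion i.left] (j : P ⟶ H) [IsMonHom j] [IsOpenImmersion j.left]
    (h : Set.range i.left = Set.range j.left) :
    ∃ e : Grp.mk U ≅ Grp.mk P, e.hom.hom.hom ≫ j = i := by
  have hi : Mono i := Over.mono_of_mono_left i
  have hj : Mono j := Over.mono_of_mono_left j
  let a : U ⟶ P := Over.homMk (IsOpenImmersion.lift j.left i.left h.subset) (by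
    rw [← Over.w j, IsOpenImmersion.lift_fac_assoc, Over.w])
  let b : P ⟶ U := Over.homMk (IsOpenImmersion.lift i.left j.left h.superset) (by
    rw [← Over.w i, IsOpenImmersion.lift_fac_assoc, Over.w])
  have ha : a ≫ j = i := by
    ext1
    exact IsOpenImmersion.lift_fac _ _ _
  have hb : b ≫ i = j := by
    ext1
    exact IsOpenImmersion.lift_fac _ _ _
  let e : U ≅ P := ⟨a, b, by rw [← cancel_mono i, Category.assoc, hb, ha, Category.id_comp],
    by rw [← cancel_mono j, Category.assoc, ha, hb, Category.id_comp]⟩
  have h1 : η[U] ≫ e.hom = η[P] := by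
    change η[U] ≫ a = η[P]
    rw [← cancel_mono j, Category.assoc, ha, IsMonHom.one_hom, IsMonHom.one_hom]
  have h2 : μ[U] ≫ e.hom = (e.hom ⊗ₘ e.hom) ≫ μ[P] := by
    change μ[U] ≫ a = (a ⊗ₘ a) ≫ μ[P]
    rw [← cancel_mono j, Category.assoc, ha, IsMonHom.mul_hom, Category.assoc, IsMonHom.mul_hom,
      ← Category.assoc, MonoidalCategory.tensorHom_comp_tensorHom, ha]
  exact ⟨Grp.mkIso e h1 h2, ha⟩

/-- Connected open subgroups of a group scheme over a field are isomorphic. -/
theorem exists_grpIso {K : Type u} [Field K] {U P H : Over (Spec (CommRingCat.of K))} [GrpObj U] [GrpObj P] [GrpObj H]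
    (i : U ⟶ H) [IsMonHom i] [IsOpenImmersion i.left] (j : P ⟶ H) [IsMonHom j] [IsOpenImmersion j.left]
    [ConnectedSpace U.left] [ConnectedSpace P.left] :
    ∃ e : Grp.mk U ≅ Grp.mk P, e.hom.hom.hom ≫ j = i :=
  exists_grpIso_of_range_eq i j (Set.Subset.antisymm (range_subset j i) (range_subset i j))

variable {S S' : Scheme.{u}}

/-- The base change of a morphism over `S` is cartesian. -/
theorem isPullback_bc (q : S' ⟶ S) {G H : Over S} (i : G ⟶ H) :
    IsPullback (pullback.fst G.hom q) ((Over.pullback q).map i).left i.left (pullback.fst H.hom q) := by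
  have h2 : IsPullback (pullback.fst G.hom q)
      (((Over.pullback q).map i).left ≫ ((Over.pullback q).obj H).hom) (i.left ≫ H.hom) q := by
    rw [Over.w, Over.w]
    exact IsPullback.of_hasPullback _ _
  refine IsPullback.of_bot h2 ?_ (IsPullback.of_hasPullback _ _)
  exact (pullback.lift_fst _ _ _).symm

instance isOpenImmersion_bc (q : S' ⟶ S) {G H : Over S} (i : G ⟶ H) [IsOpenImmersion i.left] :
    IsOpenImmersion ((Over.pullback q).map i).left :=
  MorphismProperty.of_isPullback (isPullback_bc q i) (inferInstanceAs (IsOpenImmersion i.left))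

/-- The identity component: for a smooth `G` there is an open subgroup `G0`, smooth, quasi-compact and separated, with
geometrically irreducible fibres and image the neutral set; a geometric fibre of `G` has an open subgroup with a property
invariant under isomorphism, implying connectedness, iff the geometric fibre of `G0` has it. -/
theorem exists_open_iff {G G0 : Over S} [GrpObj G] [GrpObj G0] (u : G0 ⟶ G) [IsMonHom u] [IsOpenImmersion u.left]
    [GeometricallyIrreducible G0.hom]
    {K : Type u} [Field K] (t : Spec (CommRingCat.of K) ⟶ S)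
    (P : ∀ (X : Over (Spec (CommRingCat.of K))) [GrpObj X], Prop)
    (hconn : ∀ (X : Over (Spec (CommRingCat.of K))) [GrpObj X], P X → ConnectedSpace X.left)
    (hiso : ∀ (X Y : Over (Spec (CommRingCat.of K))) [GrpObj X] [GrpObj Y], (Grp.mk X ≅ Grp.mk Y) → P X → P Y) :
    (∃ (U : Over (Spec (CommRingCat.of K))) (_ : GrpObj U) (i : U ⟶ Red.bc t G) (_ : IsMonHom i),
      IsOpenImmersion i.left ∧ P U) ↔ P (Red.bc t G0) := by
  constructor
  · rintro ⟨U, _, i, _, h1, h2⟩
    have h3 := hconn U h2
    have h4 : ConnectedSpace (Red.bc t G0).left := Sga3.H813.Neutral.connectedSpace_bc G0 t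
    obtain ⟨e, -⟩ := exists_grpIso i ((Over.pullback t).map u)
    exact hiso _ _ e h2
  · intro h
    exact ⟨Red.bc t G0, inferInstance, (Over.pullback t).map u, inferInstance, inferInstance, h⟩

end K217.IdComp
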