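import Groth.Agent.Ega43.LimDesc
import Mathlib.AlgebraicGeometry.Morphisms.Affine
import Mathlib.AlgebraicGeometry.Limits
import Mathlib.CategoryTheory.Filtered.Basic

/-!
# Open subsets and filtered colimits of rings
-/

set_option autoImplicit false
universe u
open CategoryTheory AlgebraicGeometry CategoryTheory.Limits Opposite

namespace K217.LimKit

open Groth.Agent.Ega43.LimDesc

variable {J : Type u} [Preorder J] [IsDirected J (fun a b => a ≤ b)] (F : J ⥤ CommRingCat.{u}) (c : Cocone F)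

/-- the diagram of spectra -/
noncomputable abbrev D : Jᵒᵖ ⥤ Scheme.{u} := F.op ⋙ Scheme.Spec

/-- the cone of spectra -/
noncomputable abbrev cone : Cone (D F) := Scheme.Spec.mapCone c.op

/-- it is a limit -/
noncomputable def isLimit (hc : IsColimit c) : IsLimit (cone F c) := isLimitOfPreserves Scheme.Spec hc.op

/-- **An open subset whose preimage over the colimit is everything.** -/
theorem exists_top (hc : IsColimit c) (i₀ : J) {Y₀ : Scheme.{u}} (g₀ : Y₀ ⟶ Spec (F.obj i₀)) [QuasiCompact g₀]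
    (U : Y₀.Opens) (hU : (pullback.fst g₀ (Spec.map (c.ι.app i₀))) ⁻¹' (U : Set Y₀) = Set.univ) :
    ∃ (i : J) (h : i₀ ≤ i), (pullback.fst g₀ (Spec.map (F.map (homOfLE h)))) ⁻¹' (U : Set Y₀) = Set.univ := by
  have hne : Nonempty J := ⟨i₀⟩
  have hfil : IsFiltered J := inferInstance
  have hcof : IsCofiltered Jᵒᵖ := inferInstance
  have haff : ∀ (i j : Jᵒᵖ) (f : i ⟶ j), IsAffineHom ((D F).map f) := fun i j f =>
    inferInstanceAs (IsAffineHom (Spec.map (F.map f.unop)))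
  let g : Y₀ ⟶ (D F).obj (op i₀) := g₀
  have hg : QuasiCompact g := inferInstanceAs (QuasiCompact g₀)
  have hcpt : CompactSpace Y₀ := QuasiCompact.compactSpace_of_compactSpace g₀
  let U' : ((bc (D F) g).obj (Over.mk (𝟙 (op i₀)))).Opens := bcSnd (D F) g _ ⁻¹ᵁ U
  have h1 : (bcCone (D F) (cone F c) g).π.app (Over.mk (𝟙 (op i₀))) ⁻¹ᵁ U' = ⊤ := by
    change (bcCone (D F) (cone F c) g).π.app (Over.mk (𝟙 (op i₀))) ⁻¹ᵁ (bcSnd (D F) g _ ⁻¹ᵁ U) = ⊤
    rw [← Scheme.Hom.comp_preimage, bcCone_π_snd]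
    ext x
    simp only [SetLike.mem_coe, TopologicalSpace.Opens.coe_top, Set.mem_univ, iff_true]
    let e := pullbackSymmetry (Spec.map (c.ι.app i₀)) g₀
    have h2 : e.hom x ∈ (pullback.fst g₀ (Spec.map (c.ι.app i₀))) ⁻¹' (U : Set Y₀) := hU ▸ Set.mem_univ _
    have h3 : (pullback.fst g₀ (Spec.map (c.ι.app i₀))) (e.hom x) = bcPtSnd (D F) (cone F c) g x := by
      rw [← Scheme.Hom.comp_apply, pullbackSymmetry_hom_comp_fst]
      rfl
    change bcPtSnd (D F) (cone F c) g x ∈ U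
    rw [← h3]
    exact h2
  obtain ⟨j, f, hj⟩ := exists_map_eq_top (bc (D F) g) (bcCone (D F) (cone F c) g)
    (bcIsLimit (D F) (cone F c) g (isLimit F c hc)) U' h1
  have hle : i₀ ≤ j.left.unop := leOfHom j.hom.unop
  refine ⟨j.left.unop, hle, ?_⟩
  have h4 : bcSnd (D F) g j ⁻¹ᵁ U = ⊤ := by
    rw [← bc_map_snd (D F) g f, Scheme.Hom.comp_preimage]
    exact hj
  ext y
  simp only [Set.mem_preimage, SetLike.mem_coe, Set.mem_univ, iff_true]
  let e := pullbackSymmetry g₀ (Spec.map (F.map (homOfLE hle)))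
  have h5 : e.hom y ∈ ((bcSnd (D F) g j ⁻¹ᵁ U : (bc (D F) g).obj j |>.Opens) : Set ((bc (D F) g).obj j)) := by
    rw [h4]
    trivial
  have h6 : bcSnd (D F) g j (e.hom y) = (pullback.fst g₀ (Spec.map (F.map (homOfLE hle)))) y := by
    have : e.hom ≫ bcSnd (D F) g j = pullback.fst g₀ (Spec.map (F.map (homOfLE hle))) :=
      pullbackSymmetry_hom_comp_snd _ _
    rw [← this, Scheme.Hom.comp_apply]
    rfl
  rw [← h6]
  exact h5

/-- the special case of the base -/
theorem exists_base_top (hc : IsColimit c) (i₀ : J) (U : (Spec (F.obj i₀)).Opens)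
    (hU : (Spec.map (c.ι.app i₀)) ⁻¹' (U : Set (Spec (F.obj i₀))) = Set.univ) :
    ∃ (i : J) (h : i₀ ≤ i), (Spec.map (F.map (homOfLE h))) ⁻¹' (U : Set (Spec (F.obj i₀))) = Set.univ := by
  obtain ⟨i, h, hi⟩ := exists_top F c hc i₀ (𝟙 (Spec (F.obj i₀))) U (by
    ext x
    simp only [Set.mem_preimage, SetLike.mem_coe, Set.mem_univ, iff_true]
    have h1 : pullback.fst (𝟙 (Spec (F.obj i₀))) (Spec.map (c.ι.app i₀)) =
      pullback.snd (𝟙 (Spec (F.obj i₀))) (Spec.map (c.ι.app i₀)) ≫ Spec.map (c.ι.app i₀) := by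
      rw [← pullback.condition, Category.comp_id]
    rw [h1, Scheme.Hom.comp_apply]
    have h2 : (pullback.snd (𝟙 (Spec (F.obj i₀))) (Spec.map (c.ι.app i₀))) x ∈
      (Spec.map (c.ι.app i₀)) ⁻¹' (U : Set (Spec (F.obj i₀))) := hU ▸ Set.mem_univ _
    exact h2)
  refine ⟨i, h, ?_⟩
  ext x
  simp only [Set.mem_preimage, SetLike.mem_coe, Set.mem_univ, iff_true]
  have h1 : (pullback.lift (Spec.map (F.map (homOfLE h))) (𝟙 _) (by simp) :
      Spec (F.obj i) ⟶ pullback (𝟙 (Spec (F.obj i₀))) (Spec.map (F.map (homOfLE h)))) x ∈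
      (pullback.fst (𝟙 (Spec (F.obj i₀))) (Spec.map (F.map (homOfLE h)))) ⁻¹' (U : Set (Spec (F.obj i₀))) :=
    hi ▸ Set.mem_univ _
  rw [Set.mem_preimage, ← Scheme.Hom.comp_apply, pullback.lift_fst] at h1
  exact h1

end K217.LimKit
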