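import Groth.Agent.SGA3x.K7.DSProp
import Groth.Agent.SGA3x.K10.MTLoc
import Groth.Agent.RedSub.K197.RadSplit
import Groth.Agent.Sga3.H827.DSFlat
import Groth.Agent.Sga3B.MaxTorBc636
import Groth.Agent.Red.K217.CharRep
import Groth.Agent.Books.AlgPts

/-!
# Maximal tori of groups of multiplicative type are stable under arbitrary base change
-/

set_option autoImplicit false
open CategoryTheory MonoidalCategory CartesianMonoidalCategory MonObj GrpObj AlgebraicGeometry Limits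
universe u

namespace K217.MTorBc
open Groth.Agent Groth.Agent.Sga3B Groth.Agent.Sga3B.DSPts Groth.Agent.Sga3B.RedIso Groth.Agent.Sga3B.BcNat
open Groth.Agent.Sga3B.AlgBc K217.CharRep

variable {S S' : Scheme.{u}}

/-- The `n`-th powers of all points of `Z` lie in `T`. -/
def PowIn {T Z : Over S} [GrpObj Z] (n : ℕ) (i : T ⟶ Z) : Prop :=
  ∀ (X : Over S) (z : X ⟶ Z), ∃ t : X ⟶ T, t ≫ i = z ^ n

theorem powIn_bc {T Z : Over S} [GrpObj T] [GrpObj Z] {n : ℕ} {i : T ⟶ Z} (h : PowIn n i) (f : S' ⟶ S) :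
    PowIn n ((Over.pullback f).map i) := by
  intro X z
  obtain ⟨t, ht⟩ := h _ ((DSPts.bcEquiv f X Z).symm z)
  refine ⟨DSPts.bcEquiv f X T t, ?_⟩
  rw [DSPts.bcEquiv_comp, ht, map_pow, MulEquiv.apply_symm_apply]

theorem dsChar_pow {X : Over S} {M : Type} [AddCommGroup M] (x : X ⟶ Red.DS S M) (n : ℕ) :
    dsChar (x ^ n) = (dsChar x) ^ n :=
  map_pow (dsEquiv X M).symm x n

/-- The `n`-th power map of `D(M)` is `D(n)`. -/
theorem id_pow_DS (M : Type) [AddCommGroup M] (n : ℕ) :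
    (𝟙 (Red.DS S M)) ^ n = Red.DSmap S (n • AddMonoidHom.id M) := by
  rw [← Category.id_comp (Red.DSmap S (n • AddMonoidHom.id M))]
  apply (dsEquiv _ M).symm.injective
  change dsChar _ = dsChar _
  rw [dsChar_pow, dsChar_DSmap]
  ext m
  change (dsChar _ _) ^ n = dsChar _ _
  rw [← map_pow]
  rfl

/-- The `n`-th power map of a split torus is an effective epimorphism. -/
theorem effectiveEpi_pow {T : Over S} [GrpObj T] {M : Type} [AddCommGroup M] (e : Grp.mk T ≅ Grp.mk (Red.DS S M))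
    (n : ℕ) (hM : ∀ m : M, n • m = 0 → m = 0) : EffectiveEpi ((𝟙 T) ^ n : T ⟶ T).left := by
  let E : T ≅ Red.DS S M := (Grp.forget _).mapIso e
  have hE : IsMonHom E.hom := inferInstanceAs (IsMonHom e.hom.hom.hom)
  have hinj : Function.Injective (n • AddMonoidHom.id M : M →+ M) := by
    rw [injective_iff_map_eq_zero]
    intro m hm
    exact hM m hm
  have h1 : (𝟙 T) ^ n = E.hom ≫ Red.DSmap S (n • AddMonoidHom.id M) ≫ E.inv := by
    rw [← id_pow_DS, ← Category.assoc, MonObj.comp_pow, Category.comp_id, MonObj.pow_comp, E.hom_inv_id]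
  rw [h1]
  have h2 := Groth.Agent.Sga3.H827.DSFlat.flat_DSmap (S := S) (φ := (n • AddMonoidHom.id M : M →+ M)) hinj
  have h3 := Groth.Agent.Sga3.H827.DSFlat.surjective_DSmap (S := S) (φ := (n • AddMonoidHom.id M : M →+ M)) hinj
  have h4 := Groth.Agent.Sga3.H827.DSFlat.isAffineHom_DSmap (S := S) (φ := (n • AddMonoidHom.id M : M →+ M))
  have h5 : IsIso E.hom.left := inferInstanceAs (IsIso ((Over.forget _).map E.hom))
  have h6 : IsIso E.inv.left := inferInstanceAs (IsIso ((Over.forget _).map E.inv))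
  change EffectiveEpi (E.hom.left ≫ (Red.DSmap S (n • AddMonoidHom.id M)).left ≫ E.inv.left)
  infer_instance

/-- Extraction of roots: if the `n`-th power of `i : T ⟶ Z` factors through `j`, so does `i`. -/
theorem fac_of_pow {T Y Z : Over S} [GrpObj T] [GrpObj Z] {M : Type} [AddCommGroup M]
    (e : Grp.mk T ≅ Grp.mk (Red.DS S M)) (n : ℕ) (hM : ∀ m : M, n • m = 0 → m = 0) (i : T ⟶ Z) (j : Y ⟶ Z)
    [Mono j] (w : T ⟶ Y) (hw : w ≫ j = ((𝟙 T) ^ n) ≫ i) : ∃ w' : T ⟶ Y, w' ≫ j = i := by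
  have h1 := effectiveEpi_pow e n hM
  have h2 := epi_of_left ((𝟙 T) ^ n : T ⟶ T)
  obtain ⟨w', hw'⟩ := exists_desc ((𝟙 T) ^ n : T ⟶ T) w (fun W a b hab => by
    rw [← cancel_mono j, Category.assoc, Category.assoc, hw, ← Category.assoc, hab, Category.assoc])
  refine ⟨w', ?_⟩
  rw [← cancel_epi ((𝟙 T) ^ n : T ⟶ T), ← Category.assoc, hw', hw]

/-- A finitely generated group: its torsion subgroup is killed by an integer, the quotient is finite free. -/
theorem exists_tors (N : Type) [AddCommGroup N] [AddGroup.FG N] :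
    ∃ N₀ : AddSubgroup N, Module.Free ℤ (N ⧸ N₀) ∧ Module.Finite ℤ (N ⧸ N₀) ∧
      ∃ n : ℕ, 0 < n ∧ ∀ m ∈ N₀, n • m = 0 := by
  have hfin : Module.Finite ℤ N := Module.Finite.iff_addGroup_fg.2 inferInstance
  let N₁ : Submodule ℤ N := Submodule.torsion ℤ N
  have h1 : Module.Finite ℤ N₁ := inferInstance
  have h2 : Module.IsTorsion ℤ N₁ := Submodule.torsion_isTorsion
  have h3 := Submodule.annihilator_top_inter_nonZeroDivisors (R := ℤ) (M := N₁) h2
  obtain ⟨a, ha1, ha2⟩ := h3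
  have h4 : Module.Free ℤ (N ⧸ N₁) := inferInstance
  have h5 : Module.Finite ℤ (N ⧸ N₁) := inferInstance
  refine ⟨N₁.toAddSubgroup, h4, h5, a.natAbs, Int.natAbs_pos.2 (nonZeroDivisors.ne_zero ha2), fun m hm => ?_⟩
  have h6 : a • (⟨m, hm⟩ : N₁) = 0 := Submodule.mem_annihilator.1 ha1 _ trivial
  have h7 : a • m = 0 := congrArg Subtype.val h6
  rcases Int.natAbs_eq a with h | h
  · rw [h] at h7
    exact_mod_cast h7
  · rw [h, neg_smul, neg_eq_zero] at h7
    exact_mod_cast h7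

/-- Over a base where a group of multiplicative type and a maximal torus of it are split, a power of every point lies
in the torus. -/
theorem powIn_of_split {T Z : Over S} [GrpObj T] [GrpObj Z] {N M : Type} [AddCommGroup N] [AddGroup.FG N]
    [AddCommGroup M] (hM : ∀ (n : ℕ), 0 < n → ∀ m : M, n • m = 0 → m = 0)
    (e : Grp.mk Z ≅ Grp.mk (Red.DS S N)) (e' : Grp.mk T ≅ Grp.mk (Red.DS S M)) {i : T ⟶ Z}
    (hi : Red.IsMaximalTorus i) : ∃ n : ℕ, 0 < n ∧ PowIn n i := by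
  obtain ⟨N₀, hfree, hfin, n, hn, hN⟩ := exists_tors N
  let E : Z ≅ Red.DS S N := (Grp.forget _).mapIso e
  have hE : IsMonHom E.hom := inferInstanceAs (IsMonHom e.hom.hom.hom)
  have hE' : IsMonHom E.inv := inferInstance
  have hm1 : IsMonHom (Red.DSmap S (QuotientAddGroup.mk' N₀)) := BorSpan613.isMonHom_DSmap S _
  have hm2 : Mono (Red.DSmap S (QuotientAddGroup.mk' N₀)) :=
    BorSpan613.mono_DSmap S _ (QuotientAddGroup.mk'_surjective _)
  let J : Red.DS S (N ⧸ N₀) ⟶ Z := Red.DSmap S (QuotientAddGroup.mk' N₀) ≫ E.inv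
  have hJ : PowIn n J := by
    intro X z
    let χ : Multiplicative N →* Γ(X.left, ⊤) := dsChar ((z ≫ E.hom) ^ n)
    have hχ : ∀ m ∈ N₀, χ (Multiplicative.ofAdd m) = 1 := by
      intro m hm
      change dsChar ((z ≫ E.hom) ^ n) _ = 1
      rw [dsChar_pow]
      change (dsChar (z ≫ E.hom) (Multiplicative.ofAdd m)) ^ n = 1
      rw [← map_pow, ← ofAdd_nsmul, hN m hm, ofAdd_zero, map_one]
    let χ' : Multiplicative (N ⧸ N₀) →* Γ(X.left, ⊤) :=
      MonoidHom.toAdditiveRight.symm (QuotientAddGroup.lift N₀ (MonoidHom.toAdditiveRight χ) (fun m hm => hχ m hm))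
    refine ⟨dsEquiv X _ χ', ?_⟩
    have h1 : dsEquiv X _ χ' ≫ Red.DSmap S (QuotientAddGroup.mk' N₀) = (z ≫ E.hom) ^ n := by
      rw [dsEquiv_DSmap]
      apply (dsEquiv _ N).symm.injective
      rw [MulEquiv.symm_apply_apply]
      ext m
      rfl
    rw [← Category.assoc, h1, MonObj.pow_comp, Category.assoc, E.hom_inv_id, Category.comp_id]
  have hi1 := hi.1
  obtain ⟨w, hw⟩ := hJ T i
  obtain ⟨w', hw'⟩ := fac_of_pow e' n (hM n hn) i J w (by
    rw [hw, MonObj.pow_comp, Category.id_comp])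
  have hT : Red.IsTorus (Red.DS S (N ⧸ N₀)) := K197.RadSplit.isTorus_DS S (N ⧸ N₀)
  have := K197.RadSplit.isIso_of_max i hi hT w' J hw'
  refine ⟨n, hn, fun X z => ?_⟩
  obtain ⟨t, ht⟩ := hJ X z
  refine ⟨t ≫ inv w', ?_⟩
  rw [← ht, ← hw', Category.assoc, IsIso.inv_hom_id_assoc]

theorem smul_free_pi {r : ℕ} (n : ℕ) (hn : 0 < n) (m : Fin r → ℤ) (h : n • m = 0) : m = 0 := by
  funext a
  have h1 := congrFun h a
  simp only [Pi.smul_apply, Pi.zero_apply, nsmul_eq_mul] at h1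
  rcases mul_eq_zero.1 h1 with h2 | h2
  · exact absurd (by exact_mod_cast h2) hn.ne'
  · exact h2

/-- Over an algebraically closed field, a torus containing a power of every point is maximal. -/
theorem isMaxTorOver_of_powIn {K : Type u} [Field K] [IsAlgClosed K] {T Z : Over (Spec (CommRingCat.of K))}
    [GrpObj T] [GrpObj Z] {i : T ⟶ Z} [Mono i] {n : ℕ} (hn : 0 < n) (h : PowIn n i) : IsMaxTorOver i := by
  intro T' _ j _ _ f hT' hf
  obtain ⟨r, ⟨e⟩⟩ := TorusAlgClosed.exists_isSplitTorusWith hT'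
  obtain ⟨t, ht⟩ := h T' j
  obtain ⟨w, hw⟩ := fac_of_pow e n (fun m hm => smul_free_pi n hn m hm) j i t (by
    rw [ht, MonObj.pow_comp, Category.id_comp])
  refine ⟨w, ?_, ?_⟩
  · rw [← cancel_mono i, Category.assoc, hw, hf, Category.id_comp]
  · rw [← cancel_mono j, Category.assoc, hf, hw, Category.id_comp]

/-- Over an algebraically closed field, a power of every point of a group of multiplicative type lies in its maximal
torus. -/
theorem powIn_of_isMaximalTorus {K : Type u} [Field K] [IsAlgClosed K] {T Z : Over (Spec (CommRingCat.of K))}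
    [GrpObj T] [GrpObj Z] (hZ : SGA3x.IsMultTypeFT Z) {i : T ⟶ Z} (hi : Red.IsMaximalTorus i) :
    ∃ n : ℕ, 0 < n ∧ PowIn n i := by
  obtain ⟨B, _, v, N, _, hv, ⟨y, hy⟩, hN, ⟨e⟩⟩ := K10.MTLoc.exists_etale_split hZ (IsLocalRing.closedPoint K)
  let V : Over (Spec (CommRingCat.of K)) := Over.mk v
  have hV : LocallyOfFiniteType V.hom := inferInstanceAs (LocallyOfFiniteType v)
  obtain ⟨x', -⟩ := Groth.Agent.Books.AlgPts.exists_pt_mem (X := V) (U := Set.univ) ⟨y, trivial⟩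
    isOpen_univ.isLocallyClosed
  let x : Spec (CommRingCat.of K) ⟶ Spec (CommRingCat.of B) := x'.left
  have hx : x ≫ v = 𝟙 _ := Over.w x'
  obtain ⟨r, ⟨e'⟩⟩ := TorusAlgClosed.exists_isSplitTorusWith hi.2.2.1
  have eZ : Grp.mk Z ≅ Grp.mk (Red.DS (Spec (CommRingCat.of K)) N) :=
    (BcIso.bcIdIso Z).symm ≪≫ BcIso.bcCongrIso hx.symm Z ≪≫ BcIso.bcCompIso x v Z ≪≫ BcIso.bcMapIso x e ≪≫
      TorusAlgClosed.dsBcIso x N
  exact powIn_of_split (fun n hn m hm => smul_free_pi n hn m hm) eZ e' hi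

/-- **Maximal tori of groups of multiplicative type are stable under arbitrary base change.** -/
theorem isMaximalTorus_bc (f : S' ⟶ S) {T Z : Over S} [GrpObj T] [GrpObj Z] (hZ : SGA3x.IsMultTypeFT Z) {i : T ⟶ Z}
    (hi : Red.IsMaximalTorus i) : Red.IsMaximalTorus ((Over.pullback f).map i) := by
  have h1 : IsMonHom i := hi.1
  have h2 : Mono i := hi.2.1
  refine ⟨inferInstance, inferInstance, TorusBc.isTorus_bc f hi.2.2.1, fun s' => ?_⟩
  obtain ⟨θ, hθ⟩ := MaxTorBc636.exists_geomPt f s'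
  have h3 := AlgBc.isMaximalTorus_bc (Red.geomPt (f s')) hi
  obtain ⟨n, hn, h4⟩ := powIn_of_isMaximalTorus (K10.MTLoc.bc (Red.geomPt (f s')) hZ) h3
  have h6 := isMaxTorOver_of_powIn hn (powIn_bc h4 θ)
  exact isMaxTorOver_of_arrow (fibIso hθ T).symm (fibIso hθ Z).symm (fib_arrow hθ i) h6

end K217.MTorBc
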