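import Groth.Agent.Ega43.LimitDescendCompare
import Groth.Agent.Ega43.LimCompare
import Groth.Agent.Sga3.H806.ApproxProp
import Groth.Agent.Sga3.H806.SmoothDescend

/-!
# Noetherian approximation of smooth affine group schemes
-/

set_option autoImplicit false
universe u
open CategoryTheory MonoidalCategory CartesianMonoidalCategory MonObj GrpObj AlgebraicGeometry Limits Opposite

namespace K217.NoethAffSm

open Groth.Agent Groth.Agent.Smoothlim.LimBase

/-- quasi-compact, quasi-separated and locally of finite presentation -/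
abbrev QQ : MorphismProperty Scheme.{u} := @LocallyOfFinitePresentation ⊓ @QuasiCompact ⊓ @QuasiSeparated

theorem descendsAffine_of_descends {P : MorphismProperty Scheme.{u}} [P.RespectsIso]
    (h : Ega43.LimDesc.Descends P) : DescendsAffine QQ.{u} P := by
  intro α _ _ _ F c hc B t ht b hb X f hQ hP
  obtain ⟨⟨h1, h2⟩, h3⟩ := hQ
  have hfil : IsFiltered α := inferInstance
  have hcof : IsCofiltered αᵒᵖ := inferInstance
  let D : αᵒᵖ ⥤ Scheme.{u} := F.op ⋙ Scheme.Spec
  have haff : ∀ (i j : αᵒᵖ) (f : i ⟶ j), IsAffineHom (D.map f) := fun i j f =>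
    inferInstanceAs (IsAffineHom (Spec.map (F.map f.unop)))
  have i1 : ∀ i, CompactSpace (D.obj i) := fun i => inferInstanceAs (CompactSpace (Spec (F.obj i.unop)))
  have i2 : ∀ i, QuasiSeparatedSpace (D.obj i) := fun i => inferInstanceAs (QuasiSeparatedSpace (Spec (F.obj i.unop)))
  obtain ⟨j, hj⟩ := Ega43.LimitDescendCompare.descendsLim_of_descends h D (Scheme.Spec.mapCone c.op)
    (isLimitOfPreserves Scheme.Spec hc.op) (B := Spec B) (fun i => Spec.map (t i.unop)) (fun {i j} φ => by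
      change Spec.map (F.map φ.unop) ≫ Spec.map (t j.unop) = Spec.map (t i.unop)
      rw [← Spec.map_comp, ← ht j.unop i.unop (leOfHom φ.unop)]
      rfl) f (Spec.map b) (fun i => by
      change Spec.map (c.ι.app i.unop) ≫ Spec.map (t i.unop) = Spec.map b
      rw [← Spec.map_comp, hb]) (pullback.fst f (Spec.map b)) (pullback.snd f (Spec.map b))
      (IsPullback.of_hasPullback _ _) hP
  exact ⟨j.unop, hj⟩

lemma snd_comp' (P : MorphismProperty Scheme.{u}) [P.IsStableUnderBaseChange] {X₀ Y₀ V W : Scheme.{u}}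
    (f₀ : X₀ ⟶ Y₀) (v : V ⟶ Y₀) (k : W ⟶ V) (v' : W ⟶ Y₀) (hv : k ≫ v = v') (h : P (pullback.snd f₀ v)) :
    P (pullback.snd f₀ v') := by
  subst hv
  exact snd_comp P f₀ v k h

theorem descendsAffine_inf {Q P₁ P₂ : MorphismProperty Scheme.{u}} [P₁.IsStableUnderBaseChange]
    [P₂.IsStableUnderBaseChange] (h₁ : DescendsAffine Q P₁) (h₂ : DescendsAffine Q P₂) :
    DescendsAffine Q (P₁ ⊓ P₂) := by
  intro α _ _ _ F c hc B t ht b hb X f hQ hP
  obtain ⟨i₁, hi₁⟩ := h₁ F c hc t ht b hb f hQ hP.1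
  obtain ⟨i₂, hi₂⟩ := h₂ F c hc t ht b hb f hQ hP.2
  obtain ⟨j, h1, h2⟩ := exists_ge_ge i₁ i₂
  refine ⟨j, ?_, ?_⟩
  · exact snd_comp' P₁ f _ (Spec.map (F.map (homOfLE h1))) _ (by rw [← Spec.map_comp, ht]) hi₁
  · exact snd_comp' P₂ f _ (Spec.map (F.map (homOfLE h2))) _ (by rw [← Spec.map_comp, ht]) hi₂

theorem DescendsAffine.of_le {Q Q' P : MorphismProperty Scheme.{u}} (h : DescendsAffine Q P) (hle : Q' ≤ Q) :
    DescendsAffine Q' P := by
  intro α _ _ _ F c hc B t ht b hb X f hQ hP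
  exact h F c hc t ht b hb f (hle _ hQ) hP

/-- **Noetherian approximation of smooth affine group schemes.** -/
theorem exists_noetherian {R : Type u} [CommRing R] (X : Over (Spec (CommRingCat.of R))) [GrpObj X]
    [hs : Smooth X.hom] [ha : IsAffineHom X.hom] :
    ∃ (R₀ : Subalgebra ℤ R) (G : Over (Spec (CommRingCat.of R₀))) (_ : GrpObj G), R₀.FG ∧
      Smooth G.hom ∧ IsAffineHom G.hom ∧
      Nonempty (Grp.mk (Red.bc (Spec.map (CommRingCat.ofHom R₀.val.toRingHom)) G) ≅ Grp.mk X) := by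
  obtain ⟨R₀, G, hG, h1, h2, h3, h4, h5, h6⟩ := Sga3.H806.ApproxProp.exists_noetherian_prop
    (P := @Smooth ⊓ @IsAffineHom) (Q := QQ.{u}) (fun f h1 h2 h3 => ⟨⟨h1, h2⟩, h3⟩)
    (descendsAffine_inf (DescendsAffine.of_le Groth.Agent.Sga3.H806.SmoothDescend.descendsAffine_smooth
      (fun _ _ _ h => h.1)) (descendsAffine_of_descends Ega43.LimCompare.descends_isAffineHom)) X ⟨hs, ha⟩
  exact ⟨R₀, G, hG, h1, h5.1, h5.2, h6⟩

end K217.NoethAffSm
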