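import Groth.Agent.Sga3B.AlgBc2
import Groth.Prelude.Def_Red2

/-!
# Restriction to open subschemes of reductive groups, semisimple groups and maximal tori, pointwise
-/

set_option autoImplicit false
universe u

open CategoryTheory MonoidalCategory CartesianMonoidalCategory MonObj GrpObj AlgebraicGeometry

namespace K217.Pointwise

open Groth.Agent.Sga3B Groth.Agent.Sga3B.RedIso Groth.Agent.Sga3B.BcNat Groth.Agent.Sga3B.AlgBc

variable {S : Scheme.{u}}

/-- `G` is reductive over the open `U` iff its geometric fibres at the points of `U` are (for `G` affine and smooth). -/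
theorem isReductive_restrict (G : Over S) [GrpObj G] (hGa : IsAffineHom G.hom) (hG : Smooth G.hom)
    (U : S.Opens)
    (h : ∀ s ∈ U, Red.IsReductiveOver (AlgebraicClosure (S.residueField s)) (Red.geomFibre s G)) :
    Red.IsReductive (Red.bc U.ι G) := by
  refine ⟨MorphismProperty.pullback_snd (P := @IsAffineHom) _ _ hGa,
    MorphismProperty.pullback_snd (P := @Smooth) _ _ hG, fun s => ?_⟩
  exact (isReductiveOver_geomFibre_bc_iff U.ι s).2 (h _ s.2)

theorem isSemisimple_restrict (G : Over S) [GrpObj G] (hGa : IsAffineHom G.hom) (hG : Smooth G.hom)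
    (U : S.Opens)
    (h : ∀ s ∈ U, Red.IsSemisimpleOver (AlgebraicClosure (S.residueField s)) (Red.geomFibre s G)) :
    Red.IsSemisimple (Red.bc U.ι G) := by
  refine ⟨MorphismProperty.pullback_snd (P := @IsAffineHom) _ _ hGa,
    MorphismProperty.pullback_snd (P := @Smooth) _ _ hG, fun s => ?_⟩
  exact (isSemisimpleOver_geomFibre_bc_iff U.ι s).2 (h _ s.2)

/-- The geometric fibre condition of a maximal torus over `U` at a point of `U`. -/
theorem isMaxTorOver_of_restrict {G T : Over S} [GrpObj G] [GrpObj T] {i : T ⟶ G} {U : S.Opens}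
    (h : Red.IsMaximalTorus ((Over.pullback U.ι).map i)) (s : S) (hs : s ∈ U) :
    IsMaxTorOver ((Over.pullback (Red.geomPt s)).map i) :=
  (isMaxTorOver_geomFibre_bc_iff U.ι (⟨s, hs⟩ : U)).1 (h.2.2.2 ⟨s, hs⟩)

theorem isMaximalTorus_restrict {G T : Over S} [GrpObj G] [GrpObj T] (i : T ⟶ G) [IsMonHom i] [Mono i]
    (hT : Red.IsTorus T) (U : S.Opens)
    (h : ∀ s ∈ U, IsMaxTorOver ((Over.pullback (Red.geomPt s)).map i)) :
    Red.IsMaximalTorus ((Over.pullback U.ι).map i) := by
  refine ⟨inferInstance, inferInstance, TorusBc.isTorus_bc _ hT, fun s => ?_⟩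
  exact (isMaxTorOver_geomFibre_bc_iff U.ι s).2 (h _ s.2)

end K217.Pointwise
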