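import Groth.Agent.Red.K217.QFam

/-!
# The lifting axiom for automorphisms of an affine group scheme
-/

set_option autoImplicit false
universe u

open CategoryTheory MonoidalCategory CartesianMonoidalCategory MonObj GrpObj AlgebraicGeometry
open Polynomial

namespace K217.QAx

open K217.QPatchAlg K217.QPatchTensor K217.QPatchGeo K217.QFam K217.QFun
open Groth.Agent.Books.AffBridge Groth.Agent.Sga3B.AffPts

variable {A : Type u} [CommRing A] (H : Over (Spec (CommRingCat.of A))) [GrpObj H]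

/-- Automorphisms of `H` over algebras. -/
noncomputable def autF : GrpFun A where
  obj D _ _ := IsoF H H (SpecOver A D)
  grp D _ _ := inferInstance
  map σ := IsoF.pullHom (specMap A σ)
  map_comp σ τ x := by
    change IsoF.pull (specMap A (τ.comp σ)) x = IsoF.pull (specMap A τ) (IsoF.pull (specMap A σ) x)
    rw [specMap_comp, IsoF.pull_pull]
  map_id {D} _ _ x := by
    change IsoF.pull (specMap A (AlgHom.id A D)) x = x
    have h : specMap A (AlgHom.id A D) = 𝟙 _ := specMap_id A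
    rw [h, IsoF.pull_id]

section alg

variable {D D' : Type u} [CommRing D] [CommRing D'] [Algebra A D] [Algebra A D'] [Algebra D D'] [IsScalarTower A D D']

theorem ev0_scl (c : D) : (ev0 A D).comp (sclA (A := A) c) = ev0 A D := by
  refine AlgHom.ext fun p => ?_
  rw [AlgHom.comp_apply, ev0_apply, ev0_apply]
  change (scl c p).coeff 0 = _
  rw [coeff_scl, pow_zero, _root_.mul_one]

theorem map_scl' (c : D) : (Polynomial.mapAlgHom (IsScalarTower.toAlgHom A D D')).comp (sclA (A := A) c) =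
    (sclA (A := A) (algebraMap D D' c)).comp (Polynomial.mapAlgHom (IsScalarTower.toAlgHom A D D')) :=
  AlgHom.ext fun p => map_scl (D' := D') c p

theorem ev0_map : (ev0 A D').comp (Polynomial.mapAlgHom (IsScalarTower.toAlgHom A D D')) =
    (IsScalarTower.toAlgHom A D D').comp (ev0 A D) := by
  refine AlgHom.ext fun p => ?_
  rw [AlgHom.comp_apply, AlgHom.comp_apply, ev0_apply, ev0_apply]
  exact Polynomial.coeff_map _ 0

theorem scl_scl (c d : D) : (sclA (A := A) c).comp (sclA (A := A) d) = sclA (A := A) (c * d) :=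
  AlgHom.ext fun p => (scl_mul c d p).symm

end alg

section geo

variable {G : Over (Spec (CommRingCat.of A))} {D D' : Type u} [CommRing D] [CommRing D'] [Algebra A D] [Algebra A D']

theorem pull_pull {K : Over (Spec (CommRingCat.of A))} {D'' : Type u} [CommRing D''] [Algebra A D''] (σ : D →ₐ[A] D') (τ : D' →ₐ[A] D'')
    (φ : G ⊗ SpecOver A D ⟶ K) : (G ◁ specMap A τ) ≫ (G ◁ specMap A σ) ≫ φ = (G ◁ specMap A (τ.comp σ)) ≫ φ := by
  rw [specMap_comp, MonoidalCategory.whiskerLeft_comp, Category.assoc]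

/-- the two sides of multiplicativity -/
noncomputable def mu1 {T : Over (Spec (CommRingCat.of A))} (φ : H ⊗ T ⟶ H) : (H ⊗ H) ⊗ T ⟶ H :=
  lift ((fst _ _ ≫ fst _ _) * (fst _ _ ≫ snd _ _)) (snd _ _) ≫ φ

/-- the two sides of multiplicativity -/
noncomputable def mu2 {T : Over (Spec (CommRingCat.of A))} (φ : H ⊗ T ⟶ H) : (H ⊗ H) ⊗ T ⟶ H :=
  (lift (fst _ _ ≫ fst _ _) (snd _ _) ≫ φ) * (lift (fst _ _ ≫ snd _ _) (snd _ _) ≫ φ)

theorem pull_mu1 {T T' : Over (Spec (CommRingCat.of A))} (f : T' ⟶ T) (φ : H ⊗ T ⟶ H) :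
    ((H ⊗ H) ◁ f) ≫ mu1 H φ = mu1 H ((H ◁ f) ≫ φ) := by
  rw [mu1, mu1, lift_pull, ← Category.assoc, comp_lift, MonObj.comp_mul, whiskerLeft_snd]
  simp only [whiskerLeft_fst_assoc]

theorem pull_mu2 {T T' : Over (Spec (CommRingCat.of A))} (f : T' ⟶ T) (φ : H ⊗ T ⟶ H) :
    ((H ⊗ H) ◁ f) ≫ mu2 H φ = mu2 H ((H ◁ f) ≫ φ) := by
  rw [mu2, mu2, lift_pull, lift_pull, MonObj.comp_mul, ← Category.assoc, ← Category.assoc, comp_lift, comp_lift,
    whiskerLeft_snd]
  simp only [whiskerLeft_fst_assoc]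

theorem isHomFamily_iff {T : Over (Spec (CommRingCat.of A))} (φ : H ⊗ T ⟶ H) :
    AutFam.IsHomFamily H H φ ↔ mu1 H φ = mu2 H φ := by
  constructor
  · intro h
    exact h _ _ _ _
  · intro h X g₁ g₂ t
    have h1 := congrArg (fun k => lift (lift g₁ g₂) t ≫ k) h
    simp only [mu1, mu2, MonObj.comp_mul, ← Category.assoc, comp_lift, lift_fst, lift_snd] at h1
    exact h1

end geo

/-- **The lifting axiom holds.** -/
theorem axQ [IsAffine H.left] [LocallyOfFinitePresentation H.hom] : AxQ (autF H) := by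
  intro D D' _ _ _ _ _ _ f _ θ hθ
  let θ' : IsoF H H (SpecOver A D'[X]) := θ
  let φ : H ⊗ SpecOver A D'[X] ⟶ H := θ'.1
  let ψ : H ⊗ SpecOver A D'[X] ⟶ H := θ'.inv.1
  have hφψ : comp φ ψ = fst _ _ := θ'.comp_inv
  have hψφ : comp ψ φ = fst _ _ := θ'.inv_comp
  have hφ : mu1 H φ = mu2 H φ := (isHomFamily_iff H φ).1 θ'.2.1
  have hφ0 : (H ◁ specMap A (ev0 A D')) ≫ φ = fst _ _ := congrArg Subtype.val hθ
  have hψ0 : (H ◁ specMap A (ev0 A D')) ≫ ψ = fst _ _ := by
    have h1 := congrArg (fun k => (H ◁ specMap A (ev0 A D')) ≫ k) hφψ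
    simp only [QFam.pull_comp, hφ0, fst_comp, whiskerLeft_fst] at h1
    exact h1
  obtain ⟨M₁, h1⟩ := exists_lift (D := D) (D' := D') f φ (fst _ _) (by rw [hφ0, whiskerLeft_fst])
  obtain ⟨M₂, h2⟩ := exists_lift (D := D) (D' := D') f ψ (fst _ _) (by rw [hψ0, whiskerLeft_fst])
  obtain ⟨φ', hφ'0, hφ'⟩ := h1 (max M₁ M₂) (le_max_left _ _)
  obtain ⟨ψ', hψ'0, hψ'⟩ := h2 (max M₁ M₂) (le_max_right _ _)
  have hHH : IsAffine (H ⊗ H).left := by
    have : IsAffineHom H.hom := inferInstance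
    change IsAffine (Limits.pullback H.hom H.hom)
    infer_instance
  obtain ⟨M₃, h3⟩ := exists_scl_eq (D := D) (D' := D') f (comp φ' ψ') (fst _ _)
    (by rw [QFam.pull_comp, hφ'0, hψ'0, fst_comp, whiskerLeft_fst])
    (by rw [QFam.pull_comp, hφ', hψ', ← QFam.pull_comp, hφψ, whiskerLeft_fst, whiskerLeft_fst])
  obtain ⟨M₄, h4⟩ := exists_scl_eq (D := D) (D' := D') f (comp ψ' φ') (fst _ _)
    (by rw [QFam.pull_comp, hφ'0, hψ'0, fst_comp, whiskerLeft_fst])
    (by rw [QFam.pull_comp, hφ', hψ', ← QFam.pull_comp, hψφ, whiskerLeft_fst, whiskerLeft_fst])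
  obtain ⟨M₅, h5⟩ := exists_scl_eq (D := D) (D' := D') f (mu1 H φ') (mu2 H φ')
    (by rw [pull_mu1, pull_mu2, hφ'0]
        exact (isHomFamily_iff H _).1 (isIsoFamily_fst _).1)
    (by rw [pull_mu1, pull_mu2, hφ', ← pull_mu1, ← pull_mu2, hφ])
  let N := max M₃ (max M₄ M₅)
  have e3 := h3 N (le_max_left _ _)
  have e4 := h4 N ((le_max_left _ _).trans (le_max_right _ _))
  have e5 := h5 N ((le_max_right _ _).trans (le_max_right _ _))
  rw [QFam.pull_comp, whiskerLeft_fst] at e3 e4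
  rw [pull_mu1, pull_mu2] at e5
  refine ⟨N + max M₁ M₂, ⟨_, isIsoFamily_of ((isHomFamily_iff H _).2 e5) _ e3 e4⟩, ?_⟩
  apply Subtype.ext
  change (H ◁ specMap A (Polynomial.mapAlgHom (IsScalarTower.toAlgHom A D D'))) ≫
    (H ◁ specMap A (sclA (A := A) (f ^ N))) ≫ φ' = (H ◁ specMap A (sclA (A := A) (algebraMap D D' f ^ (N + max M₁ M₂)))) ≫ φ
  rw [pull_pull, map_scl', ← pull_pull, hφ', pull_pull, scl_scl, map_pow, pow_add]

end K217.QAx
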