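import Groth.Agent.Red.K217.QPatchTensor
import Mathlib.RingTheory.MvPolynomial.Localization

/-!
# Quillen patching, abstract form for a group valued functor on algebras
-/

set_option autoImplicit false
universe u

open Polynomial

namespace K217.QFun

open K217.QPatchAlg K217.QPatchTensor

/-- A group valued functor on `A`-algebras. -/
structure GrpFun (A : Type u) [CommRing A] where
  /-- values -/
  obj : (D : Type u) → [CommRing D] → [Algebra A D] → Type u
  /-- group structure -/
  grp : (D : Type u) → [CommRing D] → [Algebra A D] → Group (obj D)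
  /-- maps -/
  map : {D D' : Type u} → [CommRing D] → [CommRing D'] → [Algebra A D] → [Algebra A D'] → (D →ₐ[A] D') →
    (obj D →* obj D')
  map_comp : ∀ {D D' D'' : Type u} [CommRing D] [CommRing D'] [CommRing D''] [Algebra A D] [Algebra A D']
    [Algebra A D''] (σ : D →ₐ[A] D') (τ : D' →ₐ[A] D'') (x : obj D), map (τ.comp σ) x = map τ (map σ x)
  map_id : ∀ {D : Type u} [CommRing D] [Algebra A D] (x : obj D), map (AlgHom.id A D) x = x

attribute [instance] GrpFun.grp

variable {A : Type u} [CommRing A] (F : GrpFun A)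

/-- The lifting axiom. -/
def AxQ : Prop := ∀ (D D' : Type u) [CommRing D] [CommRing D'] [Algebra A D] [Algebra A D'] [Algebra D D']
  [IsScalarTower A D D'] (f : D) [IsLocalization.Away f D'] (θ : F.obj D'[X]), F.map (ev0 A D') θ = 1 →
    ∃ (N : ℕ) (θ' : F.obj D[X]), F.map (Polynomial.mapAlgHom (IsScalarTower.toAlgHom A D D')) θ' =
      F.map (sclA (A := A) (algebraMap D D' f ^ N)) θ

variable (n : Type u)

section defs

variable (A) (R : Type u) [CommRing R] [Algebra A R]

/-- evaluation at `0` -/
noncomputable def z0 : MvPolynomial n R →ₐ[A] R := (MvPolynomial.aeval (fun _ => (0 : R))).restrictScalars A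

/-- constants -/
noncomputable def cst : R →ₐ[A] MvPolynomial n R := IsScalarTower.toAlgHom A R (MvPolynomial n R)

variable {R}

/-- scaling of all variables -/
noncomputable def sc (c : R) : MvPolynomial n R →ₐ[A] MvPolynomial n R :=
  (MvPolynomial.aeval (fun i => MvPolynomial.C c * MvPolynomial.X i)).restrictScalars A

theorem sc_one : sc A n (1 : R) = AlgHom.id A _ := by
  apply AlgHom.coe_ringHom_injective
  refine MvPolynomial.ringHom_ext (fun r => ?_) (fun i => ?_)
  · simp [sc]
  · simp [sc]

theorem sc_zero : sc A n (0 : R) = (cst A n R).comp (z0 A n R) := by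
  apply AlgHom.coe_ringHom_injective
  refine MvPolynomial.ringHom_ext (fun r => ?_) (fun i => ?_)
  · simp [sc, cst, z0, MvPolynomial.algebraMap_eq]
  · simp [sc, cst, z0]

theorem z0_cst : (z0 A n R).comp (cst A n R) = AlgHom.id A _ := by
  ext r
  simp [z0, cst, MvPolynomial.algebraMap_eq]

theorem z0_sc (c : R) : (z0 A n R).comp (sc A n c) = z0 A n R := by
  apply AlgHom.coe_ringHom_injective
  refine MvPolynomial.ringHom_ext (fun r => ?_) (fun i => ?_)
  · simp [sc, z0]
  · simp [sc, z0]

end defs

section res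

variable (A) (R R' : Type u) [CommRing R] [CommRing R'] [Algebra A R] [Algebra A R'] [Algebra R R'] [IsScalarTower A R R']

/-- change of coefficients -/
noncomputable def res : MvPolynomial n R →ₐ[A] MvPolynomial n R' := MvPolynomial.mapAlgHom (IsScalarTower.toAlgHom A R R')

end res

section Q

variable (R R' : Type u) [CommRing R] [CommRing R'] [Algebra A R] [Algebra A R'] [Algebra R R'] [IsScalarTower A R R']

attribute [local instance] MvPolynomial.algebraMvPolynomial

/-- `x ↦ y x` -/
noncomputable def uu (A : Type u) [CommRing A] [Algebra A R'] : MvPolynomial n R' →ₐ[A] (MvPolynomial (Option n) R')[X] :=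
  (MvPolynomial.aeval (R := R') (fun i => Polynomial.C (MvPolynomial.X none * MvPolynomial.X (some i)))).restrictScalars A

/-- `x ↦ (y + z) x` -/
noncomputable def vv (A : Type u) [CommRing A] [Algebra A R'] : MvPolynomial n R' →ₐ[A] (MvPolynomial (Option n) R')[X] :=
  (MvPolynomial.aeval (R := R') (fun i => (Polynomial.C (MvPolynomial.X none) + Polynomial.X) *
    Polynomial.C (MvPolynomial.X (some i)))).restrictScalars A

/-- `y ↦ a, z ↦ c` -/
noncomputable def ww (A : Type u) [CommRing A] [Algebra A R] (a c : R) : (MvPolynomial (Option n) R)[X] →ₐ[A] MvPolynomial n R where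
  __ := Polynomial.eval₂RingHom
    (MvPolynomial.aeval (R := R) (fun o : Option n => o.elim (MvPolynomial.C a) MvPolynomial.X)).toRingHom (MvPolynomial.C c)
  commutes' r := by
    change Polynomial.eval₂ _ _ (algebraMap A _ r) = _
    rw [Polynomial.algebraMap_apply, Polynomial.eval₂_C]
    exact ((MvPolynomial.aeval (R := R) (fun o : Option n => o.elim (MvPolynomial.C a)
      MvPolynomial.X)).restrictScalars A).commutes r

theorem ww_C (a c : R) (p : MvPolynomial (Option n) R) :
    ww n R A a c (Polynomial.C p) = MvPolynomial.aeval (R := R) (fun o : Option n => o.elim (MvPolynomial.C a) MvPolynomial.X) p := by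
  change Polynomial.eval₂ _ _ (Polynomial.C p) = _
  rw [Polynomial.eval₂_C]
  rfl

theorem ww_X (a c : R) : ww n R A a c Polynomial.X = MvPolynomial.C c := by
  change Polynomial.eval₂ _ _ (Polynomial.X) = _
  rw [Polynomial.eval₂_X]

theorem ww_uu (a c : R') : (ww n R' A a c).comp (uu n R' A) = sc A n a := by
  apply AlgHom.coe_ringHom_injective
  refine MvPolynomial.ringHom_ext (fun r => ?_) (fun i => ?_)
  · simp [sc, uu, ww_C, Polynomial.algebraMap_apply, MvPolynomial.algebraMap_eq]
  · simp [sc, uu, ww_C]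

theorem ww_vv (a c : R') : (ww n R' A a c).comp (vv n R' A) = sc A n (a + c) := by
  apply AlgHom.coe_ringHom_injective
  refine MvPolynomial.ringHom_ext (fun r => ?_) (fun i => ?_)
  · simp [sc, vv, ww_C, Polynomial.algebraMap_apply, MvPolynomial.algebraMap_eq]
  · simp [sc, vv, ww_C, ww_X]

theorem ev0_uu : (ev0 A (MvPolynomial (Option n) R')).comp (uu n R' A) = (ev0 A (MvPolynomial (Option n) R')).comp (vv n R' A) := by
  apply AlgHom.coe_ringHom_injective
  refine MvPolynomial.ringHom_ext (fun r => ?_) (fun i => ?_)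
  · simp [uu, vv, ev0_apply, Polynomial.algebraMap_apply, MvPolynomial.algebraMap_eq]
  · simp [uu, vv, ev0_apply]

theorem ww_scl (a c d : R') : (ww n R' A a c).comp (sclA (A := A) (MvPolynomial.C d)) = ww n R' A a (d * c) := by
  apply AlgHom.coe_ringHom_injective
  refine Polynomial.ringHom_ext' ?_ ?_
  · refine MvPolynomial.ringHom_ext (fun r => ?_) (fun i => ?_)
    · simp [scl, ww_C]
    · simp [scl, ww_C]
  · simp [scl, ww_C, ww_X]

instance : IsScalarTower A (MvPolynomial (Option n) R) (MvPolynomial (Option n) R') :=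
  IsScalarTower.of_algebraMap_eq fun a => by
    rw [MvPolynomial.algebraMap_def, MvPolynomial.algebraMap_apply, MvPolynomial.algebraMap_apply, MvPolynomial.map_C,
      ← IsScalarTower.algebraMap_apply]

theorem res_ww (a c : R) : (res A n R R').comp (ww n R A a c) = (ww n R' A (algebraMap R R' a) (algebraMap R R' c)).comp
    (Polynomial.mapAlgHom (IsScalarTower.toAlgHom A (MvPolynomial (Option n) R) (MvPolynomial (Option n) R'))) := by
  apply AlgHom.coe_ringHom_injective
  refine Polynomial.ringHom_ext' ?_ ?_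
  · refine MvPolynomial.ringHom_ext (fun r => ?_) (fun i => ?_)
    · simp [res, ww_C]
    · cases i <;> simp [res, ww_C]
  · simp [res, ww_X]

/-- **Quillen's lemma.** -/
theorem exists_lift (hF : AxQ F) (f : R) [IsLocalization.Away f R'] (θ : F.obj (MvPolynomial n R')) :
    ∃ N : ℕ, ∀ a c : R, ∃ β : F.obj (MvPolynomial n R),
      F.map (res A n R R') β = (F.map (sc A n (algebraMap R R' a)) θ)⁻¹ *
        F.map (sc A n (algebraMap R R' a + algebraMap R R' f ^ N * algebraMap R R' c)) θ := by
  have hloc : IsLocalization.Away (MvPolynomial.C f : MvPolynomial (Option n) R) (MvPolynomial (Option n) R') := by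
    have h := MvPolynomial.isLocalization (σ := Option n) (Submonoid.powers f) R'
    rw [Submonoid.map_powers] at h
    exact h
  obtain ⟨N, Ψ', h⟩ := hF (MvPolynomial (Option n) R) (MvPolynomial (Option n) R') (MvPolynomial.C f)
    ((F.map (uu n R' A) θ)⁻¹ * F.map (vv n R' A) θ) (by
      rw [map_mul, map_inv, ← F.map_comp, ← F.map_comp, ev0_uu, inv_mul_cancel])
  refine ⟨N, fun a c => ⟨F.map (ww n R A a c) Ψ', ?_⟩⟩
  rw [← F.map_comp, res_ww, F.map_comp, h, ← F.map_comp]
  rw [show algebraMap (MvPolynomial (Option n) R) (MvPolynomial (Option n) R') (MvPolynomial.C f) ^ N =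
    MvPolynomial.C (algebraMap R R' f ^ N) by
      rw [MvPolynomial.algebraMap_def, MvPolynomial.map_C, map_pow], ww_scl, map_mul, map_inv, ← F.map_comp,
      ← F.map_comp, ww_uu, ww_vv]

end Q

section patch

variable (R Rf Rg Rfg : Type u) [CommRing R] [CommRing Rf] [CommRing Rg] [CommRing Rfg] [Algebra A R] [Algebra A Rf]
  [Algebra A Rg] [Algebra A Rfg] [Algebra R Rf] [Algebra R Rg] [Algebra R Rfg] [Algebra Rf Rfg] [Algebra Rg Rfg]
  [IsScalarTower A Rf Rfg] [IsScalarTower A Rg Rfg] [IsScalarTower R Rf Rfg] [IsScalarTower R Rg Rfg]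

/-- **Patching.** -/
theorem exists_patch (hF : AxQ F) (f g : R) (hfg : IsCoprime f g) [IsLocalization.Away (algebraMap R Rf g) Rfg]
    [IsLocalization.Away (algebraMap R Rg f) Rfg] (θ : F.obj (MvPolynomial n Rfg)) (hθ : F.map (z0 A n Rfg) θ = 1) :
    ∃ (α : F.obj (MvPolynomial n Rf)) (β : F.obj (MvPolynomial n Rg)),
      θ = F.map (res A n Rf Rfg) α * F.map (res A n Rg Rfg) β := by
  obtain ⟨N₁, h1⟩ := exists_lift F n Rg Rfg hF (algebraMap R Rg f) θ
  obtain ⟨N₂, h2⟩ := exists_lift F n Rf Rfg hF (algebraMap R Rf g) θ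
  obtain ⟨u, v, huv⟩ := (hfg.pow_left (m := N₁)).pow_right (n := N₂)
  obtain ⟨α, hα⟩ := h2 0 (algebraMap R Rf v)
  obtain ⟨β, hβ⟩ := h1 (algebraMap R Rg (v * g ^ N₂)) (algebraMap R Rg u)
  refine ⟨α, β, ?_⟩
  have h3 := congrArg (algebraMap R Rfg) huv
  simp only [map_add, map_mul, map_pow, map_one] at h3
  rw [hα, hβ, map_zero, zero_add, sc_zero, F.map_comp, hθ, map_one, inv_one, one_mul]
  simp only [← IsScalarTower.algebraMap_apply, map_mul, map_pow]
  rw [mul_comm (algebraMap R Rfg g ^ N₂), mul_inv_cancel_left,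
    show algebraMap R Rfg v * algebraMap R Rfg g ^ N₂ + algebraMap R Rfg f ^ N₁ * algebraMap R Rfg u = 1 by
      rw [← h3]; ring, sc_one]
  exact (F.map_id θ).symm

end patch

end K217.QFun
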