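import Groth.Agent.Red.K217.QPatchGeo
import Groth.Agent.Red.K217.QFun
import Groth.Agent.Sga3B.RepDescent8

/-!
# Composition of families of isomorphisms of group schemes
-/

set_option autoImplicit false
universe u

open CategoryTheory MonoidalCategory CartesianMonoidalCategory MonObj GrpObj AlgebraicGeometry

namespace K217.QFam

open Groth.Agent.Sga3B.BcPts Groth.Agent.Sga3B.RepDescent

variable {S : Scheme.{u}} {G H K L : Over S}

/-- composition of families -/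
noncomputable def comp {T : Over S} (φ : G ⊗ T ⟶ H) (ψ : H ⊗ T ⟶ K) : G ⊗ T ⟶ K := lift φ (snd G T) ≫ ψ

theorem lift_comp {X T : Over S} (φ : G ⊗ T ⟶ H) (ψ : H ⊗ T ⟶ K) (g : X ⟶ G) (t : X ⟶ T) :
    lift g t ≫ comp φ ψ = lift (lift g t ≫ φ) t ≫ ψ := by
  rw [comp, ← Category.assoc, comp_lift, lift_snd]

theorem ext_pts {T : Over S} {φ ψ : G ⊗ T ⟶ H}
    (h : ∀ (X : Over S) (g : X ⟶ G) (t : X ⟶ T), lift g t ≫ φ = lift g t ≫ ψ) : φ = ψ := by
  have h1 := h _ (fst _ _) (snd _ _)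
  rwa [lift_fst_snd, Category.id_comp, Category.id_comp] at h1

theorem comp_assoc {T : Over S} (φ : G ⊗ T ⟶ H) (ψ : H ⊗ T ⟶ K) (χ : K ⊗ T ⟶ L) :
    comp (comp φ ψ) χ = comp φ (comp ψ χ) :=
  ext_pts fun X g t => by rw [lift_comp, lift_comp, lift_comp, lift_comp]

theorem fst_comp {T : Over S} (ψ : G ⊗ T ⟶ H) : comp (fst G T) ψ = ψ :=
  ext_pts fun X g t => by rw [lift_comp, lift_fst]

theorem comp_fst {T : Over S} (φ : G ⊗ T ⟶ H) : comp φ (fst H T) = φ :=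
  ext_pts fun X g t => by rw [lift_comp, lift_fst]

theorem pull_comp {T T' : Over S} (f : T' ⟶ T) (φ : G ⊗ T ⟶ H) (ψ : H ⊗ T ⟶ K) :
    (G ◁ f) ≫ comp φ ψ = comp ((G ◁ f) ≫ φ) ((H ◁ f) ≫ ψ) :=
  ext_pts fun X g t => by
    rw [lift_comp, ← Category.assoc, ← Category.assoc, ← Category.assoc, lift_whiskerLeft, lift_whiskerLeft, lift_comp]

theorem lift_pull {X T T' : Over S} (f : T' ⟶ T) (φ : G ⊗ T ⟶ H) (g : X ⟶ G) (t : X ⟶ T') :
    lift g t ≫ (G ◁ f) ≫ φ = lift g (t ≫ f) ≫ φ := by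
  rw [← Category.assoc, lift_whiskerLeft]

section toV

variable {V : Scheme.{u}} (v : V ⟶ S)

theorem toV_comp {T : Over V} (φ : G ⊗ (Over.map v).obj T ⟶ H) (ψ : H ⊗ (Over.map v).obj T ⟶ K) :
    toV v (comp φ ψ) = comp (toV v φ) (toV v ψ) :=
  ext_pts fun X g t => by
    rw [lift_comp, lift_toV, lift_comp, lift_toV, lift_toV, Equiv.symm_apply_apply]

end toV

theorem comp_inverse {T : Over S} {φ : G ⊗ T ⟶ H} {ψ : H ⊗ T ⟶ G} (h : comp φ ψ = fst G T) (X : Over S) (g : X ⟶ G)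
    (t : X ⟶ T) : lift (lift g t ≫ φ) t ≫ ψ = g := by
  rw [← lift_comp, h, lift_fst]

variable [GrpObj G] [GrpObj H] [GrpObj K]

theorem isIsoFamily_of {T : Over S} {φ : G ⊗ T ⟶ H} (h : AutFam.IsHomFamily G H φ) (ψ : H ⊗ T ⟶ G)
    (h1 : comp φ ψ = fst G T) (h2 : comp ψ φ = fst H T) : AutFam.IsIsoFamily G H φ :=
  ⟨h, ψ, comp_inverse h1, comp_inverse h2⟩

theorem exists_inverse {T : Over S} {φ : G ⊗ T ⟶ H} (h : AutFam.IsIsoFamily G H φ) :
    ∃ ψ : H ⊗ T ⟶ G, AutFam.IsIsoFamily H G ψ ∧ comp φ ψ = fst G T ∧ comp ψ φ = fst H T := by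
  obtain ⟨h1, ψ, h2, h3⟩ := h
  refine ⟨ψ, ⟨?_, φ, h3, h2⟩, ext_pts fun X g t => ?_, ext_pts fun X g t => ?_⟩
  · intro X g₁ g₂ t
    have h4 := h1 X (lift g₁ t ≫ ψ) (lift g₂ t ≫ ψ) t
    rw [h3, h3] at h4
    rw [← h4, h2]
  · rw [lift_comp, h2, lift_fst]
  · rw [lift_comp, h3, lift_fst]

theorem isHomFamily_comp {T : Over S} {φ : G ⊗ T ⟶ H} {ψ : H ⊗ T ⟶ K} (hφ : AutFam.IsHomFamily G H φ)
    (hψ : AutFam.IsHomFamily H K ψ) : AutFam.IsHomFamily G K (comp φ ψ) := by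
  intro X g₁ g₂ t
  rw [lift_comp, lift_comp, lift_comp, hφ, hψ]

theorem isIsoFamily_comp {T : Over S} {φ : G ⊗ T ⟶ H} {ψ : H ⊗ T ⟶ K} (hφ : AutFam.IsIsoFamily G H φ)
    (hψ : AutFam.IsIsoFamily H K ψ) : AutFam.IsIsoFamily G K (comp φ ψ) := by
  obtain ⟨φ', -, h1, h2⟩ := exists_inverse hφ
  obtain ⟨ψ', -, h3, h4⟩ := exists_inverse hψ
  refine isIsoFamily_of (isHomFamily_comp hφ.1 hψ.1) (comp ψ' φ') ?_ ?_
  · rw [comp_assoc, ← comp_assoc ψ, h3, fst_comp, h1]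
  · rw [comp_assoc, ← comp_assoc φ', h2, fst_comp, h4]

theorem isIsoFamily_fst (T : Over S) : AutFam.IsIsoFamily G G (fst G T) :=
  isIsoFamily_of (fun X g₁ g₂ t => by rw [lift_fst, lift_fst, lift_fst]) (fst G T) (fst_comp _) (fst_comp _)

variable (G H) in
/-- families of isomorphisms -/
def IsoF (T : Over S) : Type u := {φ : G ⊗ T ⟶ H // AutFam.IsIsoFamily G H φ}

/-- the inverse family -/
noncomputable def IsoF.inv {T : Over S} (φ : IsoF G H T) : IsoF H G T :=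
  ⟨(exists_inverse φ.2).choose, (exists_inverse φ.2).choose_spec.1⟩

theorem IsoF.comp_inv {T : Over S} (φ : IsoF G H T) : comp φ.1 φ.inv.1 = fst G T := (exists_inverse φ.2).choose_spec.2.1

theorem IsoF.inv_comp {T : Over S} (φ : IsoF G H T) : comp φ.inv.1 φ.1 = fst H T := (exists_inverse φ.2).choose_spec.2.2

/-- composition -/
noncomputable def IsoF.comp {T : Over S} (φ : IsoF G H T) (ψ : IsoF H K T) : IsoF G K T :=
  ⟨QFam.comp φ.1 ψ.1, isIsoFamily_comp φ.2 ψ.2⟩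

/-- pull back -/
noncomputable def IsoF.pull {T T' : Over S} (f : T' ⟶ T) (φ : IsoF G H T) : IsoF G H T' :=
  ⟨(G ◁ f) ≫ φ.1, Groth.Agent.Sga3B.IsoFam.isIsoFamily_pull φ.2 f⟩

theorem IsoF.pull_comp {T T' : Over S} (f : T' ⟶ T) (φ : IsoF G H T) (ψ : IsoF H K T) :
    (φ.comp ψ).pull f = (φ.pull f).comp (ψ.pull f) := Subtype.ext (QFam.pull_comp f φ.1 ψ.1)

theorem IsoF.pull_id {T : Over S} (φ : IsoF G H T) : φ.pull (𝟙 T) = φ :=
  Subtype.ext (by change (G ◁ 𝟙 T) ≫ φ.1 = φ.1; rw [MonoidalCategory.whiskerLeft_id, Category.id_comp])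

theorem IsoF.pull_pull {T T' T'' : Over S} (f : T' ⟶ T) (g : T'' ⟶ T') (φ : IsoF G H T) :
    φ.pull (g ≫ f) = (φ.pull f).pull g :=
  Subtype.ext (by
    change (G ◁ (g ≫ f)) ≫ φ.1 = (G ◁ g) ≫ (G ◁ f) ≫ φ.1
    rw [MonoidalCategory.whiskerLeft_comp, Category.assoc])

noncomputable instance {T : Over S} : Group (IsoF G G T) where
  mul φ ψ := φ.comp ψ
  one := ⟨fst G T, isIsoFamily_fst T⟩
  inv φ := φ.inv
  mul_assoc φ ψ χ := Subtype.ext (comp_assoc _ _ _)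
  one_mul φ := Subtype.ext (fst_comp _)
  mul_one φ := Subtype.ext (comp_fst _)
  inv_mul_cancel φ := Subtype.ext φ.inv_comp

theorem IsoF.mul_def {T : Over S} (φ ψ : IsoF G G T) : φ * ψ = φ.comp ψ := rfl

theorem IsoF.one_val {T : Over S} : (1 : IsoF G G T).1 = fst G T := rfl

/-- pull back as a homomorphism -/
noncomputable def IsoF.pullHom {T T' : Over S} (f : T' ⟶ T) : IsoF G G T →* IsoF G G T' where
  toFun := IsoF.pull f
  map_one' := Subtype.ext (by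
    change (G ◁ f) ≫ fst G T = fst G T'
    rw [whiskerLeft_fst])
  map_mul' φ ψ := IsoF.pull_comp f φ ψ

end K217.QFam
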