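import Groth.Agent.Red.K217.QTors

/-!
# Quillen patching for group schemes over affine space: gluing
-/

set_option autoImplicit false
universe u

open CategoryTheory MonoidalCategory CartesianMonoidalCategory MonObj GrpObj AlgebraicGeometry Opposite

namespace K217.QGlue

open K217.QPatchAlg K217.QPatchTensor K217.QPatchGeo K217.QFam K217.QFun K217.QAx K217.QKap K217.QTors
open Groth.Agent.Books.AffBridge Groth.Agent.Sga3B.AffPts Groth.Agent.Sga3B.BcPts Groth.Agent.Sga3B.RepDescent

section general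

variable {S : Scheme.{u}} {G H : Over S} [GrpObj G] [GrpObj H]

/-- Gluing of two families. -/
theorem glue2 {T T₁ T₂ T₁₂ : Over S} (f₁ : T₁ ⟶ T) (f₂ : T₂ ⟶ T) [Mono f₁] [Mono f₂] (hf₁ : Etale f₁.left)
    (hf₂ : Etale f₂.left) (hcov : ∀ t : T.left, (∃ t', f₁.left t' = t) ∨ (∃ t', f₂.left t' = t)) (i₁ : T₁₂ ⟶ T₁)
    (i₂ : T₁₂ ⟶ T₂) (hfac : ∀ (R : Over S) (a : R ⟶ T₁) (b : R ⟶ T₂), a ≫ f₁ = b ≫ f₂ →
      ∃ c : R ⟶ T₁₂, c ≫ i₁ = a ∧ c ≫ i₂ = b) (φ : IsoF G H T₁) (ψ : IsoF G H T₂)
    (h : φ.pull i₁ = ψ.pull i₂) : ∃ χ : IsoF G H T, χ.pull f₁ = φ ∧ χ.pull f₂ = ψ := by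
  let T' : ULift.{u} Bool → Over S := fun b => match b.down with
    | true => T₁
    | false => T₂
  let f : ∀ b, T' b ⟶ T := fun b => match b with
    | ⟨true⟩ => f₁
    | ⟨false⟩ => f₂
  let x : ∀ b, (isomF G H).obj (op (T' b)) := fun b => match b with
    | ⟨true⟩ => φ
    | ⟨false⟩ => ψ
  obtain ⟨χ, hχ, -⟩ := isEtSheaf_isomF G H T' f (fun b => match b with
    | ⟨true⟩ => hf₁
    | ⟨false⟩ => hf₂) (fun t => by
      rcases hcov t with ⟨t', h'⟩ | ⟨t', h'⟩
      · exact ⟨⟨true⟩, t', h'⟩
      · exact ⟨⟨false⟩, t', h'⟩) x (by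
      rintro ⟨_ | _⟩ ⟨_ | _⟩ R a b hab
      · have : a = b := (cancel_mono f₂).1 hab
        rw [this]
      · obtain ⟨c, hc, hc'⟩ := hfac R b a hab.symm
        change IsoF.pull a ψ = IsoF.pull b φ
        rw [← hc, ← hc', IsoF.pull_pull, IsoF.pull_pull, h]
      · obtain ⟨c, hc, hc'⟩ := hfac R a b hab
        change IsoF.pull a φ = IsoF.pull b ψ
        rw [← hc, ← hc', IsoF.pull_pull, IsoF.pull_pull, h]
      · have : a = b := (cancel_mono f₁).1 hab
        rw [this])
  exact ⟨χ, hχ ⟨true⟩, hχ ⟨false⟩⟩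

/-- Families over an empty scheme. -/
theorem nonempty_of_isEmpty {T : Over S} (hT : IsEmpty T.left) : Nonempty (IsoF G H T) := by
  obtain ⟨χ, -, -⟩ := isEtSheaf_isomF G H (T := T) (fun i : PEmpty.{u + 1} => i.elim) (fun i => i.elim) (fun i => i.elim)
    (fun t => hT.elim t) (fun i => i.elim) (fun i => i.elim)
  exact ⟨χ⟩

end general

section loc

variable (A : Type u) [CommRing A] (n : Type u) {R R' : Type u} [CommRing R] [CommRing R'] [Algebra A R] [Algebra A R']
  [Algebra R R'] [IsScalarTower A R R'] (f : R) [IsLocalization.Away f R']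

attribute [local instance] MvPolynomial.algebraMvPolynomial

include f in
theorem away_mv : IsLocalization.Away (MvPolynomial.C f : MvPolynomial n R) (MvPolynomial n R') := by
  have h := MvPolynomial.isLocalization (σ := n) (Submonoid.powers f) R'
  rw [Submonoid.map_powers] at h
  exact h

theorem tm_left : (tm A n (IsScalarTower.toAlgHom A R R')).left =
    Spec.map (CommRingCat.ofHom (algebraMap (MvPolynomial n R) (MvPolynomial n R'))) := rfl

include f in
theorem isOpenImmersion_tm : IsOpenImmersion (tm A n (IsScalarTower.toAlgHom A R R')).left := by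
  rw [tm_left]
  have := away_mv n (R' := R') f
  exact IsOpenImmersion.of_isLocalization (MvPolynomial.C f : MvPolynomial n R)

theorem range_tm : Set.range (tm A n (IsScalarTower.toAlgHom A R R')).left =
    (PrimeSpectrum.basicOpen (MvPolynomial.C f : MvPolynomial n R) : Set (PrimeSpectrum (MvPolynomial n R))) := by
  rw [tm_left]
  have := away_mv n (R' := R') f
  exact PrimeSpectrum.localization_away_comap_range _ (MvPolynomial.C f : MvPolynomial n R)

end loc

section glue

variable (A : Type u) [CommRing A] (n : Type u) (R Rf Rg Rfg : Type u) [CommRing R] [CommRing Rf] [CommRing Rg] [CommRing Rfg]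
  [Algebra A R] [Algebra A Rf]
  [Algebra A Rg] [Algebra A Rfg] [Algebra R Rf] [Algebra R Rg] [Algebra R Rfg] [Algebra Rf Rfg] [Algebra Rg Rfg]
  [IsScalarTower A R Rf] [IsScalarTower A R Rg]
  [IsScalarTower A Rf Rfg] [IsScalarTower A Rg Rfg] [IsScalarTower R Rf Rfg] [IsScalarTower R Rg Rfg]
  {G H : Over (Aff A n)} [GrpObj G] [GrpObj H]

theorem exists_glue (f g : R) (hfg : IsCoprime f g) [IsLocalization.Away f Rf] [IsLocalization.Away g Rg]
    [IsLocalization.Away (algebraMap R Rf g) Rfg]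
    (φ : IsoF G H (T A n Rf)) (ψ : IsoF G H (T A n Rg))
    (h : φ.pull (tm A n (IsScalarTower.toAlgHom A Rf Rfg)) = ψ.pull (tm A n (IsScalarTower.toAlgHom A Rg Rfg))) :
    Nonempty (IsoF G H (T A n R)) := by
  have h1 := isOpenImmersion_tm A n (R := R) (R' := Rf) f
  have h2 := isOpenImmersion_tm A n (R := R) (R' := Rg) g
  have h3 := isOpenImmersion_tm A n (R := Rf) (R' := Rfg) (algebraMap R Rf g)
  have m1 : Mono (tm A n (IsScalarTower.toAlgHom A R Rf)) := Over.mono_of_mono_left _
  have m2 : Mono (tm A n (IsScalarTower.toAlgHom A R Rg)) := Over.mono_of_mono_left _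
  have hcomp : tm A n (IsScalarTower.toAlgHom A Rf Rfg) ≫ tm A n (IsScalarTower.toAlgHom A R Rf) =
      tm A n (IsScalarTower.toAlgHom A Rg Rfg) ≫ tm A n (IsScalarTower.toAlgHom A R Rg) := by
    apply Over.OverMorphism.ext
    change Spec.map _ ≫ Spec.map _ = Spec.map _ ≫ Spec.map _
    rw [← Spec.map_comp, ← CommRingCat.ofHom_comp, ← Spec.map_comp, ← CommRingCat.ofHom_comp]
    congr 2
    refine MvPolynomial.ringHom_ext (fun r => ?_) (fun i => ?_)
    · simp [← IsScalarTower.algebraMap_apply]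
    · simp
  obtain ⟨χ, -, -⟩ := glue2 (tm A n (IsScalarTower.toAlgHom A R Rf)) (tm A n (IsScalarTower.toAlgHom A R Rg))
    inferInstance inferInstance (fun t => by
      change (t ∈ Set.range _) ∨ (t ∈ Set.range _)
      rw [range_tm A n f, range_tm A n g]
      by_contra hc
      push Not at hc
      obtain ⟨u, v, huv⟩ := hfg
      have h4 : MvPolynomial.C f ∈ (t : PrimeSpectrum (MvPolynomial n R)).asIdeal := by
        by_contra hn
        exact hc.1 hn
      have h5 : MvPolynomial.C g ∈ (t : PrimeSpectrum (MvPolynomial n R)).asIdeal := by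
        by_contra hn
        exact hc.2 hn
      apply (t : PrimeSpectrum (MvPolynomial n R)).2.ne_top
      rw [Ideal.eq_top_iff_one, ← MvPolynomial.C_1, ← huv, MvPolynomial.C_add, MvPolynomial.C_mul, MvPolynomial.C_mul]
      exact Ideal.add_mem _ (Ideal.mul_mem_left _ _ h4) (Ideal.mul_mem_left _ _ h5))
    (tm A n (IsScalarTower.toAlgHom A Rf Rfg)) (tm A n (IsScalarTower.toAlgHom A Rg Rfg)) (by
      intro W a b hab
      have h6 : Set.range a.left ⊆ Set.range (tm A n (IsScalarTower.toAlgHom A Rf Rfg)).left := by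
        rw [range_tm A n (algebraMap R Rf g)]
        rintro _ ⟨w, rfl⟩
        have h7 : (a.left ≫ (tm A n (IsScalarTower.toAlgHom A R Rf)).left) w ∈
            Set.range (tm A n (IsScalarTower.toAlgHom A R Rg)).left := by
          have h8 : a.left ≫ (tm A n (IsScalarTower.toAlgHom A R Rf)).left =
            b.left ≫ (tm A n (IsScalarTower.toAlgHom A R Rg)).left := congrArg (·.left) hab
          rw [h8, Scheme.Hom.comp_apply]
          exact ⟨_, rfl⟩
        rw [range_tm A n g, Scheme.Hom.comp_apply] at h7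
        have h9 : MvPolynomial.map (algebraMap R Rf) (MvPolynomial.C g) = MvPolynomial.C (σ := n) (algebraMap R Rf g) :=
          MvPolynomial.map_C _ _
        change MvPolynomial.C (algebraMap R Rf g) ∉ (a.left w : PrimeSpectrum (MvPolynomial n Rf)).asIdeal
        rw [← h9]
        exact h7
      let c : W ⟶ T A n Rfg := Over.homMk (IsOpenImmersion.lift (tm A n (IsScalarTower.toAlgHom A Rf Rfg)).left a.left h6) (by
        rw [← Over.w (tm A n (IsScalarTower.toAlgHom A Rf Rfg)), IsOpenImmersion.lift_fac_assoc, Over.w])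
      have hc : c ≫ tm A n (IsScalarTower.toAlgHom A Rf Rfg) = a :=
        Over.OverMorphism.ext (IsOpenImmersion.lift_fac _ _ _)
      refine ⟨c, hc, ?_⟩
      rw [← cancel_mono (tm A n (IsScalarTower.toAlgHom A R Rg)), Category.assoc, ← hcomp, reassoc_of% hc, hab]) φ ψ h
  exact ⟨χ⟩

end glue

end K217.QGlue
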