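import Groth.Agent.Red.K217.QFam

/-!
# Pulling back along a section
-/

set_option autoImplicit false
universe u

open CategoryTheory MonoidalCategory CartesianMonoidalCategory MonObj GrpObj AlgebraicGeometry

namespace K217.QKap

open K217.QFam Groth.Agent.Sga3B.BcPts Groth.Agent.Sga3B.RepDescent

variable {S X : Scheme.{u}} {p : X ⟶ S} {o : S ⟶ X} (h : o ≫ p = 𝟙 S)

/-- identification -/
noncomputable def iota (Y : Over S) : Y ≅ (Over.map p).obj ((Over.map o).obj Y) :=
  Over.isoMk (Iso.refl _) (by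
    change 𝟙 _ ≫ (Y.hom ≫ o) ≫ p = Y.hom
    rw [Category.id_comp, Category.assoc, h, Category.comp_id])

theorem iota_left (Y : Over S) : (iota h Y).hom.left = 𝟙 _ := rfl

theorem iota_nat {Y Y' : Over S} (f : Y' ⟶ Y) :
    f ≫ (iota h Y).hom = (iota h Y').hom ≫ (Over.map p).map ((Over.map o).map f) := by
  apply Over.OverMorphism.ext
  change f.left ≫ 𝟙 _ = 𝟙 _ ≫ f.left
  rw [Category.id_comp, Category.comp_id]

variable (G : Over S)

/-- points of `o^* p^* G` are points of `G` -/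
noncomputable def kapE (Y : Over S) : (Y ⟶ Red.bc o (Red.bc p G)) ≃ (Y ⟶ G) :=
  ((bcEquiv o Y (Red.bc p G)).symm.trans (bcEquiv p _ G).symm).trans ((iota h Y).homFromEquiv.symm)

theorem kapE_apply {Y : Over S} (a : Y ⟶ Red.bc o (Red.bc p G)) :
    kapE h G Y a = (iota h Y).hom ≫ (bcEquiv p _ G).symm ((bcEquiv o Y (Red.bc p G)).symm a) := rfl

theorem comp_kapE {Y Y' : Over S} (f : Y' ⟶ Y) (a : Y ⟶ Red.bc o (Red.bc p G)) :
    kapE h G Y' (f ≫ a) = f ≫ kapE h G Y a := by
  rw [kapE_apply, kapE_apply, comp_bcEquiv_symm, comp_bcEquiv_symm, ← Category.assoc, ← Category.assoc, iota_nat]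

theorem kapE_mul [GrpObj G] {Y : Over S} (a b : Y ⟶ Red.bc o (Red.bc p G)) :
    kapE h G Y (a * b) = kapE h G Y a * kapE h G Y b := by
  rw [kapE_apply, kapE_apply, kapE_apply]
  have h1 : (bcEquiv o Y (Red.bc p G)).symm (a * b) = (bcEquiv o Y (Red.bc p G)).symm a *
    (bcEquiv o Y (Red.bc p G)).symm b := (bcMulEquiv o Y (Red.bc p G)).symm.map_mul _ _
  have h2 : ∀ c d : (Over.map o).obj Y ⟶ Red.bc p G, (bcEquiv p _ G).symm (c * d) = (bcEquiv p _ G).symm c *
    (bcEquiv p _ G).symm d := fun c d => (bcMulEquiv p _ G).symm.map_mul _ _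
  rw [h1, h2, MonObj.comp_mul]

/-- `o^* p^* G ≅ G` -/
noncomputable def kap : Red.bc o (Red.bc p G) ≅ G where
  hom := kapE h G _ (𝟙 _)
  inv := (kapE h G _).symm (𝟙 _)
  hom_inv_id := by
    apply (kapE h G _).injective
    rw [comp_kapE, Equiv.apply_symm_apply, Category.comp_id]
  inv_hom_id := by
    rw [← comp_kapE, Category.comp_id, Equiv.apply_symm_apply]

theorem comp_kap {Y : Over S} (a : Y ⟶ Red.bc o (Red.bc p G)) : a ≫ (kap h G).hom = kapE h G Y a := by
  change a ≫ kapE h G _ (𝟙 _) = _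
  rw [← comp_kapE, Category.comp_id]

instance isMonHom_kap [GrpObj G] : IsMonHom (kap h G).hom :=
  Groth.Agent.Sga3B.IsoFam.isMonHom_of_mul _ fun T x y => by
    rw [comp_kap, comp_kap, comp_kap, kapE_mul]

variable {G}

/-- **Restriction to the section** of a family of endomorphisms of `p^* G` coming from `S`. -/
theorem toV_toV_kap {H : Over S} {T : Over X} {T₀ : Over S} (z : (Over.map o).obj T₀ ⟶ T)
    (γ : G ⊗ (Over.map p).obj T ⟶ H) {Y : Over S} (a : Y ⟶ Red.bc o (Red.bc p G)) (t : Y ⟶ T₀) :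
    (lift a t ≫ toV o ((Red.bc p G ◁ z) ≫ toV p γ)) ≫ (kap h H).hom =
      lift (a ≫ (kap h G).hom) (t ≫ (iota h T₀).hom ≫ (Over.map p).map z) ≫ γ := by
  rw [comp_kap, lift_toV, kapE_apply, Equiv.symm_apply_apply, lift_pull, lift_toV, Equiv.symm_apply_apply,
    ← Category.assoc, comp_lift, comp_kap, kapE_apply, Functor.map_comp, ← Category.assoc, ← iota_nat,
    Category.assoc]

end K217.QKap
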