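import Groth.Agent.Red.K217.QGlue

/-!
# Quillen patching for group schemes over affine space
-/

set_option autoImplicit false
universe u

open CategoryTheory MonoidalCategory CartesianMonoidalCategory MonObj GrpObj AlgebraicGeometry Opposite
open scoped TensorProduct

namespace K217.QMain

open K217.QPatchAlg K217.QPatchTensor K217.QPatchGeo K217.QFam K217.QFun K217.QAx K217.QKap K217.QTors K217.QGlue
open Groth.Agent.Books.AffBridge Groth.Agent.Sga3B.AffPts Groth.Agent.Sga3B.BcPts Groth.Agent.Sga3B.RepDescent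
open Groth.Agent.Sga3B.BcIso Groth.Agent.Sga3B.IsoFam

variable (A : Type u) [CommRing A] (n : Type u) (H : Over (Aff A n)) [GrpObj H]

section

variable {D D' : Type u} [CommRing D] [CommRing D'] [Algebra A D] [Algebra A D']

theorem exists_normalized (φ : IsoF H (K0 A n H) (T A n D)) :
    ∃ φ' : IsoF H (K0 A n H) (T A n D), rr A n H φ' = 1 := by
  refine ⟨φ.comp (qq A n H D ((autF (H0 A n H)).map (cst A n D) (rr A n H φ)⁻¹)), ?_⟩
  rw [rr_act, ← (autF (H0 A n H)).map_comp, z0_cst, (autF (H0 A n H)).map_id]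
  exact mul_inv_cancel (rr A n H φ)

theorem comp_assoc' {S : Scheme.{u}} {G₁ G₂ G₃ G₄ : Over S} [GrpObj G₁] [GrpObj G₂] [GrpObj G₃] [GrpObj G₄] {T : Over S}
    (φ : IsoF G₁ G₂ T) (ψ : IsoF G₂ G₃ T) (χ : IsoF G₃ G₄ T) : (φ.comp ψ).comp χ = φ.comp (ψ.comp χ) :=
  Subtype.ext (QFam.comp_assoc _ _ _)

end

section patch

variable (R Rf Rg Rfg : Type u) [CommRing R] [CommRing Rf] [CommRing Rg] [CommRing Rfg]
  [Algebra A R] [Algebra A Rf]
  [Algebra A Rg] [Algebra A Rfg] [Algebra R Rf] [Algebra R Rg] [Algebra R Rfg] [Algebra Rf Rfg] [Algebra Rg Rfg]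
  [IsScalarTower A R Rf] [IsScalarTower A R Rg]
  [IsScalarTower A Rf Rfg] [IsScalarTower A Rg Rfg] [IsScalarTower R Rf Rfg] [IsScalarTower R Rg Rfg]

theorem patch [IsAffine (H0 A n H).left] [LocallyOfFinitePresentation (H0 A n H).hom] (f g : R) (hfg : IsCoprime f g)
    [IsLocalization.Away f Rf] [IsLocalization.Away g Rg]
    [IsLocalization.Away (algebraMap R Rf g) Rfg] [IsLocalization.Away (algebraMap R Rg f) Rfg]
    (h1 : Nonempty (IsoF H (K0 A n H) (T A n Rf))) (h2 : Nonempty (IsoF H (K0 A n H) (T A n Rg))) :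
    Nonempty (IsoF H (K0 A n H) (T A n R)) := by
  obtain ⟨φ₀⟩ := h1
  obtain ⟨ψ₀⟩ := h2
  obtain ⟨φ, hφ⟩ := exists_normalized A n H φ₀
  obtain ⟨ψ, hψ⟩ := exists_normalized A n H ψ₀
  let φ' := φ.pull (tm A n (IsScalarTower.toAlgHom A Rf Rfg))
  let ψ' := ψ.pull (tm A n (IsScalarTower.toAlgHom A Rg Rfg))
  obtain ⟨θ, hθ⟩ := qq_surj A n H (φ'.inv.comp ψ')
  have hφψ : φ'.comp (qq A n H Rfg θ) = ψ' := by
    rw [hθ, ← comp_assoc']
    apply Subtype.ext
    change comp (comp φ'.1 φ'.inv.1) ψ'.1 = ψ'.1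
    rw [IsoF.comp_inv, fst_comp]
  have hr1 : rr A n H φ' = 1 := by
    rw [rr_nat, hφ, map_one]
  have hr2 : rr A n H ψ' = 1 := by
    rw [rr_nat, hψ, map_one]
  have hz : (autF (H0 A n H)).map (z0 A n Rfg) θ = 1 := by
    rw [← hφψ, rr_act, hr1] at hr2
    simpa using hr2
  obtain ⟨α, β, hαβ⟩ := exists_patch (autF (H0 A n H)) n R Rf Rg Rfg (axQ _) f g hfg θ hz
  refine exists_glue A n R Rf Rg Rfg f g hfg (φ.comp (qq A n H Rf α)) (ψ.comp (qq A n H Rg β⁻¹)) ?_
  rw [IsoF.pull_comp, IsoF.pull_comp, qq_nat, qq_nat]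
  change φ'.comp _ = ψ'.comp _
  rw [← hφψ, comp_assoc', ← qq_mul, map_inv]
  congr 2
  change (autF (H0 A n H)).map (res A n Rf Rfg) α = θ * ((autF (H0 A n H)).map (res A n Rg Rfg) β)⁻¹
  rw [hαβ, mul_inv_cancel_right]

end patch

section ideal

variable {A}

theorem nonempty_of_isUnit {D : Type u} [CommRing D] [Algebra A D] (f : A) (hf : IsUnit (algebraMap A D f))
    (h : Nonempty (IsoF H (K0 A n H) (T A n (Localization.Away f)))) : Nonempty (IsoF H (K0 A n H) (T A n D)) := by
  obtain ⟨φ⟩ := h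
  let σ : Localization.Away f →ₐ[A] D := IsLocalization.liftAlgHom (M := Submonoid.powers f) (f := Algebra.ofId A D) (by
    rintro ⟨_, k, rfl⟩
    simpa using hf.pow k)
  exact ⟨φ.pull (tm A n σ)⟩

variable (A) in
theorem nonempty_add [IsAffine (H0 A n H).left] [LocallyOfFinitePresentation (H0 A n H).hom] (f g : A)
    (h1 : Nonempty (IsoF H (K0 A n H) (T A n (Localization.Away f))))
    (h2 : Nonempty (IsoF H (K0 A n H) (T A n (Localization.Away g)))) :
    Nonempty (IsoF H (K0 A n H) (T A n (Localization.Away (f + g)))) := by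
  let R := Localization.Away (f + g)
  let f' : R := algebraMap A R f
  let g' : R := algebraMap A R g
  let Rf := Localization.Away f'
  let Rg := Localization.Away g'
  let _ : Algebra Rg (Rf ⊗[R] Rg) := Algebra.TensorProduct.rightAlgebra
  have hcop : IsCoprime f' g' := by
    have hu : IsUnit (algebraMap A R (f + g)) := IsLocalization.Away.algebraMap_isUnit (f + g)
    obtain ⟨w, hw⟩ := hu.exists_left_inv
    refine ⟨w, w, ?_⟩
    rw [← hw, map_add, _root_.mul_add]
  have t1 : IsScalarTower A Rf (Rf ⊗[R] Rg) := inferInstance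
  have t2 : IsScalarTower R Rg (Rf ⊗[R] Rg) := inferInstance
  have t3 : IsScalarTower A Rg (Rf ⊗[R] Rg) := IsScalarTower.of_algebraMap_eq (R := A) (S := Rg) (A := Rf ⊗[R] Rg) fun a => by
    rw [IsScalarTower.algebraMap_apply A R Rg, ← IsScalarTower.algebraMap_apply R Rg (Rf ⊗[R] Rg),
      IsScalarTower.algebraMap_apply A Rf (Rf ⊗[R] Rg) a, IsScalarTower.algebraMap_apply A R Rf,
      ← IsScalarTower.algebraMap_apply R Rf (Rf ⊗[R] Rg)]
  exact patch A n H R Rf Rg (Rf ⊗[R] Rg) f' g' hcop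
    (nonempty_of_isUnit n H f (by
      rw [IsScalarTower.algebraMap_apply A R Rf]
      exact IsLocalization.Away.algebraMap_isUnit f') h1)
    (nonempty_of_isUnit n H g (by
      rw [IsScalarTower.algebraMap_apply A R Rg]
      exact IsLocalization.Away.algebraMap_isUnit g') h2)

theorem nonempty_zero : Nonempty (IsoF H (K0 A n H) (T A n (Localization.Away (0 : A)))) := by
  apply nonempty_of_isEmpty
  have h0 : Subsingleton (Localization.Away (0 : A)) := by
    have hu : IsUnit (algebraMap A (Localization.Away (0 : A)) 0) := IsLocalization.Away.algebraMap_isUnit 0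
    rw [map_zero] at hu
    exact subsingleton_of_zero_eq_one (isUnit_zero_iff.1 hu)
  have h1 : Subsingleton (MvPolynomial n (Localization.Away (0 : A))) := inferInstance
  exact (inferInstance : IsEmpty (PrimeSpectrum (MvPolynomial n (Localization.Away (0 : A)))))

theorem nonempty_of_loc [IsAffine (H0 A n H).left] [LocallyOfFinitePresentation (H0 A n H).hom]
    (h : ∀ s : PrimeSpectrum A, ∃ f ∉ s.asIdeal, Nonempty (IsoF H (K0 A n H) (T A n (Localization.Away f)))) :
    Nonempty (IsoF H (K0 A n H) (T A n A)) := by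
  let J : Ideal A :=
    { carrier := {f | Nonempty (IsoF H (K0 A n H) (T A n (Localization.Away f)))}
      add_mem' := fun {f g} h1 h2 => nonempty_add A n H f g h1 h2
      zero_mem' := nonempty_zero n H
      smul_mem' := fun c f hf => nonempty_of_isUnit n H f (by
        have hu : IsUnit (algebraMap A (Localization.Away (c • f)) (c • f)) := IsLocalization.Away.algebraMap_isUnit _
        rw [smul_eq_mul, map_mul] at hu
        exact isUnit_of_mul_isUnit_right hu) hf }
  have hJ : J = ⊤ := by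
    by_contra hne
    obtain ⟨m, hm, hJm⟩ := J.exists_le_maximal hne
    obtain ⟨f, hf, hf'⟩ := h ⟨m, hm.isPrime⟩
    exact hf (hJm hf')
  have h1 : (1 : A) ∈ J := hJ ▸ Submodule.mem_top
  exact nonempty_of_isUnit n H 1 (by simp) h1

variable (A) in
/-- **Main theorem.** -/
theorem nonempty_iso [IsAffineHom H.hom] [LocallyOfFinitePresentation H.hom]
    (h : ∀ s : PrimeSpectrum A, ∃ f ∉ s.asIdeal,
      Nonempty (Grp.mk (Red.bc (T A n (Localization.Away f)).hom H) ≅
        Grp.mk (Red.bc (T A n (Localization.Away f)).hom (K0 A n H)))) :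
    Nonempty (Grp.mk H ≅ Grp.mk (K0 A n H)) := by
  have h1 : IsAffineHom (H0 A n H).hom := by
    change IsAffineHom (Limits.pullback.snd _ _)
    infer_instance
  have h2 : LocallyOfFinitePresentation (H0 A n H).hom := by
    change LocallyOfFinitePresentation (Limits.pullback.snd _ _)
    infer_instance
  have h3 : IsAffine (H0 A n H).left := isAffine_of_isAffineHom (H0 A n H).hom
  obtain ⟨φ⟩ := nonempty_of_loc n H fun s => by
    obtain ⟨f, hf, ⟨e⟩⟩ := h s
    exact ⟨f, hf, ⟨⟨fam e.hom.hom.hom, isIsoFamily_fam e⟩⟩⟩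
  obtain ⟨e, -⟩ := exists_iso_of_isIsoFamily φ.2
  have hid : Spec.map (CommRingCat.ofHom (MvPolynomial.map (σ := n) (algebraMap A A))) = 𝟙 (Aff A n) := by
    rw [← Spec.map_id]
    congr 1
    apply CommRingCat.hom_ext
    exact RingHom.ext fun p => MvPolynomial.map_id p
  let e' : Grp.mk (Red.bc (Spec.map (CommRingCat.ofHom (MvPolynomial.map (σ := n) (algebraMap A A)))) H) ≅
    Grp.mk (Red.bc (Spec.map (CommRingCat.ofHom (MvPolynomial.map (σ := n) (algebraMap A A)))) (K0 A n H)) := e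
  exact ⟨(bcIdIso H).symm ≪≫ bcCongrIso hid.symm H ≪≫ e' ≪≫ bcCongrIso hid _ ≪≫ bcIdIso _⟩

end ideal

end K217.QMain
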