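import Mathlib.RingTheory.FinitePresentation
import Mathlib.RingTheory.Localization.BaseChange
import Mathlib.Algebra.Polynomial.AlgebraMap
import Mathlib.RingTheory.PolynomialAlgebra

/-!
# Quillen patching, algebra part

`B` a finitely presented `A`-algebra, `D → D'` a localization away from `f`.  An `A`-algebra map `B → D'[X]` whose
constant term comes from `D` lifts to `D[X]` after the substitution `X ↦ f ^ N X`, uniquely after a further such
substitution.
-/

set_option autoImplicit false
universe u v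

open Polynomial
open scoped TensorProduct

namespace K217.QPatchAlg

section Scale

variable {D : Type u} [CommRing D]

/-- The substitution `X ↦ c X`. -/
noncomputable def scl (c : D) : D[X] →ₐ[D] D[X] := Polynomial.aeval (C c * X)

theorem coeff_scl (c : D) (p : D[X]) (n : ℕ) : (scl c p).coeff n = p.coeff n * c ^ n := by
  rw [scl, ← Polynomial.comp_eq_aeval, Polynomial.comp_C_mul_X_coeff]

theorem scl_mul (c d : D) (p : D[X]) : scl (c * d) p = scl c (scl d p) := by
  ext n
  rw [coeff_scl, coeff_scl, coeff_scl]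
  ring

theorem scl_X (c : D) : scl c (X : D[X]) = C c * X := by
  rw [scl, aeval_X]

theorem scl_C (c d : D) : scl c (C d : D[X]) = C d := by
  rw [scl, ← Polynomial.algebraMap_eq, AlgHom.commutes]

end Scale

variable {A D D' : Type u} [CommRing A] [CommRing D] [CommRing D'] [Algebra A D] [Algebra A D'] [Algebra D D']
  [IsScalarTower A D D'] (f : D)

section Elt

variable [IsLocalization.Away f D']

theorem exists_pow_mul_eq_zero (d : D) (h : algebraMap D D' d = 0) : ∃ M : ℕ, d * f ^ M = 0 := by
  rw [← map_zero (algebraMap D D')] at h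
  obtain ⟨⟨c, M, rfl⟩, hc⟩ := (IsLocalization.eq_iff_exists (Submonoid.powers f) D').1 h
  exact ⟨M, by simpa [mul_comm] using hc⟩

/-- A polynomial without constant term which is zero after localization is killed by a substitution. -/
theorem exists_scl_eq_zero (p : D[X]) (h0 : p.coeff 0 = 0) (h : p.map (algebraMap D D') = 0) :
    ∃ M : ℕ, ∀ N, M ≤ N → scl (f ^ N) p = 0 := by
  have h1 : ∀ n, ∃ M : ℕ, p.coeff n * f ^ M = 0 := fun n => by
    apply exists_pow_mul_eq_zero (D' := D')
    rw [← Polynomial.coeff_map, h, Polynomial.coeff_zero]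
  choose M hM using h1
  refine ⟨p.support.sup M, fun N hN => ?_⟩
  ext n
  rw [coeff_scl, Polynomial.coeff_zero]
  rcases Nat.eq_zero_or_pos n with rfl | hn
  · rw [h0, zero_mul]
  by_cases hp : n ∈ p.support
  · have h2 : M n ≤ N * n := by
      have h3 : M n ≤ N := (Finset.le_sup (f := M) hp).trans hN
      nlinarith
    rw [← pow_mul, ← Nat.add_sub_cancel' h2, pow_add, ← mul_assoc, hM, zero_mul]
  · rw [Polynomial.notMem_support_iff.1 hp, zero_mul]

end Elt

variable {B : Type u} [CommRing B] [Algebra A B]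

theorem map_scl (c : D) (p : D[X]) :
    (scl c p).map (algebraMap D D') = scl (algebraMap D D' c) (p.map (algebraMap D D')) := by
  ext n
  rw [Polynomial.coeff_map, coeff_scl, coeff_scl, Polynomial.coeff_map, map_mul, map_pow]

/-- The substitution as a map of `A`-algebras. -/
noncomputable abbrev sclA (c : D) : D[X] →ₐ[A] D[X] := (scl c).restrictScalars A

/-- **Uniqueness.** -/
theorem exists_scl_eq [IsLocalization.Away f D'] [Algebra.FiniteType A B] (t₁ t₂ : B →ₐ[A] D[X])
    (h0 : ∀ b, (t₁ b).coeff 0 = (t₂ b).coeff 0)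
    (h : ∀ b, (t₁ b).map (algebraMap D D') = (t₂ b).map (algebraMap D D')) :
    ∃ M : ℕ, ∀ N, M ≤ N → (sclA (A := A) (f ^ N)).comp t₁ = (sclA (A := A) (f ^ N)).comp t₂ := by
  obtain ⟨s, hs⟩ := (inferInstance : Algebra.FiniteType A B).out
  have h1 : ∀ b : B, ∃ M : ℕ, ∀ N, M ≤ N → scl (f ^ N) (t₁ b - t₂ b) = 0 := fun b =>
    exists_scl_eq_zero (D' := D') f _ (by rw [Polynomial.coeff_sub, h0, sub_self])
      (by rw [Polynomial.map_sub, h, sub_self])
  choose M hM using h1
  refine ⟨s.sup M, fun N hN => ?_⟩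
  refine AlgHom.ext_of_adjoin_eq_top hs fun b hb => ?_
  have h2 := hM b N ((Finset.le_sup hb).trans hN)
  rw [map_sub, sub_eq_zero] at h2
  exact h2

theorem exists_lift_mv [IsLocalization.Away f D'] {ι : Type v} [Finite ι] (x : ι → D'[X]) (x₀ : ι → D)
    (h : ∀ i, (x i).coeff 0 = algebraMap D D' (x₀ i)) :
    ∃ N : ℕ, ∃ y : ι → D[X], (∀ i, (y i).coeff 0 = x₀ i) ∧
      ∀ i, (y i).map (algebraMap D D') = scl (algebraMap D D' f ^ N) (x i) := by
  have key : ∀ i, ∃ M : ℕ, ∀ N, M ≤ N → ∃ y : D[X], y.coeff 0 = x₀ i ∧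
      y.map (algebraMap D D') = scl (algebraMap D D' f ^ N) (x i) := by
    intro i
    have h1 : ∀ n : ℕ, ∃ M : ℕ, ∃ d : D, (x i).coeff n * algebraMap D D' f ^ M = algebraMap D D' d := fun n => by
      obtain ⟨⟨d, ⟨_, M, rfl⟩⟩, hd⟩ := IsLocalization.surj (Submonoid.powers f) ((x i).coeff n)
      exact ⟨M, d, by simpa using hd⟩
    choose M d hd using h1
    refine ⟨(x i).support.sup M, fun N hN => ?_⟩
    refine ⟨C (x₀ i) + ∑ n ∈ (x i).support.erase 0, monomial n (d n * f ^ (N * n - M n)), ?_, ?_⟩
    · rw [Polynomial.coeff_add, Polynomial.coeff_C_zero, Polynomial.finset_sum_coeff, Finset.sum_eq_zero, add_zero]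
      intro n hn
      rw [Polynomial.coeff_monomial, if_neg (Finset.ne_of_mem_erase hn)]
    · rw [Polynomial.map_add, Polynomial.map_C, Polynomial.map_sum]
      simp only [Polynomial.map_monomial]
      ext m
      rw [Polynomial.coeff_add, Polynomial.finset_sum_coeff, coeff_scl]
      simp only [Polynomial.coeff_monomial]
      rcases Nat.eq_zero_or_pos m with rfl | hm
      · rw [Polynomial.coeff_C_zero, Finset.sum_eq_zero, add_zero, h, pow_zero, mul_one]
        intro n hn
        rw [if_neg (Finset.ne_of_mem_erase hn)]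
      · rw [Polynomial.coeff_C_ne_zero hm.ne', zero_add]
        by_cases hm' : m ∈ (x i).support
        · rw [Finset.sum_eq_single_of_mem m (Finset.mem_erase.2 ⟨hm.ne', hm'⟩)
            (fun n _ hn => by rw [if_neg hn]), if_pos rfl, map_mul, ← hd, map_pow, mul_assoc, ← pow_add]
          have h2 : M m ≤ N * m := by
            have h3 : M m ≤ N := (Finset.le_sup (f := M) hm').trans hN
            nlinarith
          rw [Nat.add_sub_cancel' h2, pow_mul]
        · rw [Polynomial.notMem_support_iff.1 hm', zero_mul, Finset.sum_eq_zero]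
          intro n hn
          rw [if_neg]
          rintro rfl
          exact hm' (Finset.mem_of_mem_erase hn)
  choose M hM using key
  obtain ⟨_⟩ := nonempty_fintype ι
  have h2 : ∀ i, M i ≤ Finset.univ.sup M := fun i => Finset.le_sup (Finset.mem_univ i)
  choose y hy1 hy2 using fun i => hM i (Finset.univ.sup M) (h2 i)
  exact ⟨_, y, hy1, hy2⟩

/-- **Existence.** -/
theorem exists_lift [IsLocalization.Away f D'] [Algebra.FinitePresentation A B] (t : B →ₐ[A] D'[X])
    (t₀ : B →ₐ[A] D) (h : ∀ b, (t b).coeff 0 = algebraMap D D' (t₀ b)) :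
    ∃ M : ℕ, ∀ N, M ≤ N → ∃ t' : B →ₐ[A] D[X], (∀ b, (t' b).coeff 0 = t₀ b) ∧
      ∀ b, (t' b).map (algebraMap D D') = scl (algebraMap D D' f ^ N) (t b) := by
  obtain ⟨n, g, hg, hk⟩ := Algebra.FinitePresentation.out (R := A) (A := B)
  obtain ⟨N₁, y, hy0, hy⟩ := exists_lift_mv (D' := D') f (fun i => t (g (MvPolynomial.X i)))
    (fun i => t₀ (g (MvPolynomial.X i))) (fun i => h _)
  let s : MvPolynomial (Fin n) A →ₐ[A] D[X] := MvPolynomial.aeval y
  have hs0 : ∀ p, (s p).coeff 0 = t₀ (g p) := by
    intro p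
    have h1 : ((Polynomial.aeval (0 : D)).restrictScalars A).comp s = t₀.comp g := by
      refine MvPolynomial.algHom_ext fun i => ?_
      simp only [AlgHom.comp_apply, AlgHom.restrictScalars_apply, s, MvPolynomial.aeval_X]
      rw [← Polynomial.coeff_zero_eq_aeval_zero, hy0]
    have h2 := congrArg (fun φ => φ p) h1
    simp only [AlgHom.comp_apply, AlgHom.restrictScalars_apply] at h2
    rw [← Polynomial.coeff_zero_eq_aeval_zero] at h2
    exact h2
  have hs : ∀ p, (s p).map (algebraMap D D') = scl (algebraMap D D' f ^ N₁) (t (g p)) := by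
    intro p
    have h1 : (Polynomial.mapAlgHom (IsScalarTower.toAlgHom A D D')).comp s =
        ((sclA (A := A) (algebraMap D D' f ^ N₁)).comp t).comp g := by
      refine MvPolynomial.algHom_ext fun i => ?_
      simp only [AlgHom.comp_apply, AlgHom.restrictScalars_apply, s, MvPolynomial.aeval_X, Polynomial.coe_mapAlgHom]
      exact hy i
    exact congrArg (fun φ => φ p) h1
  -- kill the relations
  obtain ⟨K, hK⟩ := hk
  have h3 : ∀ p : MvPolynomial (Fin n) A, ∃ M : ℕ, p ∈ K → ∀ N, M ≤ N → scl (f ^ N) (s p) = 0 := by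
    intro p
    by_cases hp : p ∈ K
    · have hp' : g p = 0 := by
        have : p ∈ RingHom.ker g.toRingHom := by
          rw [← hK]
          exact Ideal.subset_span hp
        exact this
      obtain ⟨M, hM⟩ := exists_scl_eq_zero (D' := D') f (s p) (by rw [hs0, hp', map_zero])
        (by rw [hs, hp', map_zero, map_zero])
      exact ⟨M, fun _ => hM⟩
    · exact ⟨0, fun h => absurd h hp⟩
  choose M hM using h3
  refine ⟨N₁ + K.sup M, fun N hN => ?_⟩
  have hN' : K.sup M ≤ N - N₁ := by omega
  let s' : MvPolynomial (Fin n) A →ₐ[A] D[X] := (sclA (A := A) (f ^ (N - N₁))).comp s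
  have hker : RingHom.ker g.toRingHom ≤ RingHom.ker s'.toRingHom := by
    rw [← hK, Ideal.span_le]
    intro p hp
    exact hM p hp _ ((Finset.le_sup (f := M) hp).trans hN')
  have hker' : ∀ p, g p = 0 → s' p = 0 := fun p hp => hker hp
  let t' : B →ₐ[A] D[X] :=
    (Ideal.Quotient.liftₐ (RingHom.ker g.toRingHom) s' (fun p hp => hker hp)).comp
      (Ideal.quotientKerAlgEquivOfSurjective (f := g) hg).symm.toAlgHom
  have ht' : ∀ p, t' (g p) = s' p := by
    intro p
    have h4 : (Ideal.quotientKerAlgEquivOfSurjective (f := g) hg).symm (g p) = Ideal.Quotient.mk _ p := by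
      rw [AlgEquiv.symm_apply_eq]
      rfl
    change (Ideal.Quotient.liftₐ (RingHom.ker g.toRingHom) s' (fun p hp => hker hp))
      ((Ideal.quotientKerAlgEquivOfSurjective (f := g) hg).symm (g p)) = s' p
    rw [h4]
    rfl
  refine ⟨t', fun b => ?_, fun b => ?_⟩
  · obtain ⟨p, rfl⟩ := hg b
    rw [ht']
    change (scl _ (s p)).coeff 0 = _
    rw [coeff_scl, pow_zero, mul_one, hs0]
  · obtain ⟨p, rfl⟩ := hg b
    rw [ht']
    change (scl _ (s p)).map _ = _
    rw [map_scl, hs, map_pow, ← scl_mul, ← pow_add, Nat.sub_add_cancel (by omega)]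

end K217.QPatchAlg
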