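import Groth.Agent.Red.K217.QPatchTensor
import Groth.Agent.Sga3B.AffPts

/-!
# Quillen patching, geometric form of the lifting lemma
-/

set_option autoImplicit false
universe u

open CategoryTheory MonoidalCategory CartesianMonoidalCategory AlgebraicGeometry
open Polynomial
open scoped TensorProduct

namespace K217.QPatchGeo

open K217.QPatchAlg K217.QPatchTensor
open Groth.Agent.Books.AffBridge Groth.Agent.Sga3B.AffPts

variable {A : Type u} [CommRing A]

section Tensor

variable (C D : Type u) [CommRing C] [CommRing D] [Algebra A C] [Algebra A D]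

/-- `Spec (C ⊗ D) → Spec C × Spec D`. -/
noncomputable def pr : SpecOver A (C ⊗[A] D) ⟶ SpecOver A C ⊗ SpecOver A D :=
  lift (specMap A Algebra.TensorProduct.includeLeft) (specMap A Algebra.TensorProduct.includeRight)

theorem hom_ext_tensor {C D E : Type u} [CommRing C] [CommRing D] [CommRing E] [Algebra A C] [Algebra A D]
    [Algebra A E] {a b : SpecOver A E ⟶ SpecOver A (C ⊗[A] D)}
    (h1 : a ≫ specMap A Algebra.TensorProduct.includeLeft = b ≫ specMap A Algebra.TensorProduct.includeLeft)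
    (h2 : a ≫ specMap A Algebra.TensorProduct.includeRight = b ≫ specMap A Algebra.TensorProduct.includeRight) :
    a = b := by
  rw [← specMap_specPreimage A a, ← specMap_specPreimage A b] at h1 h2 ⊢
  rw [← specMap_comp, ← specMap_comp] at h1 h2
  congr 1
  exact Algebra.TensorProduct.ext (specMap_injective A h1) (specMap_injective A h2)

instance isIso_pr : IsIso (pr (A := A) C D) := by
  let T := SpecOver A C ⊗ SpecOver A D
  obtain ⟨g₁, hg₁⟩ := (affPt_bijective (A := C) T).2 (fst _ _)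
  obtain ⟨g₂, hg₂⟩ := (affPt_bijective (A := D) T).2 (snd _ _)
  let g : C ⊗[A] D →ₐ[A] Fn T := Algebra.TensorProduct.lift g₁ g₂ (fun _ _ => Commute.all _ _)
  have h1 : affPt T g ≫ specMap A Algebra.TensorProduct.includeLeft = fst _ _ := by
    rw [affPt_specMap, ← hg₁]
    congr 1
    exact Algebra.TensorProduct.lift_comp_includeLeft _ _ (fun _ _ => Commute.all _ _)
  have h2 : affPt T g ≫ specMap A Algebra.TensorProduct.includeRight = snd _ _ := by
    rw [affPt_specMap, ← hg₂]
    congr 1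
    exact Algebra.TensorProduct.lift_comp_includeRight _ _ (fun _ _ => Commute.all _ _)
  refine ⟨affPt T g, ?_, ?_⟩
  · refine hom_ext_tensor ?_ ?_
    · rw [Category.assoc, h1, pr, lift_fst, Category.id_comp]
    · rw [Category.assoc, h2, pr, lift_snd, Category.id_comp]
  · rw [pr]
    apply CartesianMonoidalCategory.hom_ext
    · rw [Category.assoc, lift_fst, h1, Category.id_comp]
    · rw [Category.assoc, lift_snd, h2, Category.id_comp]

theorem specMap_map_pr {D D' : Type u} [CommRing D] [CommRing D'] [Algebra A D] [Algebra A D'] (σ : D →ₐ[A] D') :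
    specMap A (Algebra.TensorProduct.map (AlgHom.id A C) σ) ≫ pr C D =
      pr C D' ≫ (SpecOver A C ◁ specMap A σ) := by
  rw [pr, pr]
  apply CartesianMonoidalCategory.hom_ext
  · rw [Category.assoc, lift_fst, Category.assoc, whiskerLeft_fst, lift_fst, ← specMap_comp]
    congr 1
    exact AlgHom.ext fun c => by simp
  · rw [Category.assoc, lift_snd, Category.assoc, whiskerLeft_snd, lift_snd_assoc, ← specMap_comp, ← specMap_comp]
    congr 1

end Tensor

section Hom

variable {Y X : Over (Spec (CommRingCat.of A))} {C B : Type u} [CommRing C] [CommRing B] [Algebra A C] [Algebra A B]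
  (eY : Y ≅ SpecOver A C) (eX : X ≅ SpecOver A B)

/-- Morphisms `Y × Spec D → X` as algebra maps `B → C ⊗ D`. -/
noncomputable def homE {D : Type u} [CommRing D] [Algebra A D] (φ : Y ⊗ SpecOver A D ⟶ X) : B →ₐ[A] C ⊗[A] D :=
  specPreimage A (pr C D ≫ (eY.inv ▷ SpecOver A D) ≫ φ ≫ eX.hom)

theorem specMap_homE {D : Type u} [CommRing D] [Algebra A D] (φ : Y ⊗ SpecOver A D ⟶ X) :
    specMap A (homE eY eX φ) = pr C D ≫ (eY.inv ▷ SpecOver A D) ≫ φ ≫ eX.hom := specMap_specPreimage _ _

theorem homE_injective {D : Type u} [CommRing D] [Algebra A D] :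
    Function.Injective (homE eY eX : (Y ⊗ SpecOver A D ⟶ X) → (B →ₐ[A] C ⊗[A] D)) := by
  intro φ ψ h
  have h1 := congrArg (specMap A) h
  rw [specMap_homE, specMap_homE, cancel_epi, cancel_epi, cancel_mono] at h1
  exact h1

theorem homE_surjective {D : Type u} [CommRing D] [Algebra A D] :
    Function.Surjective (homE eY eX : (Y ⊗ SpecOver A D ⟶ X) → (B →ₐ[A] C ⊗[A] D)) := by
  intro g
  refine ⟨(eY.hom ▷ SpecOver A D) ≫ CategoryTheory.inv (pr C D) ≫ specMap A g ≫ eX.inv, ?_⟩
  apply specMap_injective A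
  rw [specMap_homE]
  simp [← comp_whiskerRight_assoc]

theorem homE_comp {D D' : Type u} [CommRing D] [CommRing D'] [Algebra A D] [Algebra A D'] (σ : D →ₐ[A] D')
    (φ : Y ⊗ SpecOver A D ⟶ X) :
    homE eY eX ((Y ◁ specMap A σ) ≫ φ) = (Algebra.TensorProduct.map (AlgHom.id A C) σ).comp (homE eY eX φ) := by
  apply specMap_injective A
  have h1 := specMap_homE eY eX ((Y ◁ specMap A σ) ≫ φ)
  have h2 := specMap_homE eY eX φ
  have h3 := specMap_map_pr C σ
  have h4 : (eY.inv ▷ SpecOver A D') ≫ (Y ◁ specMap A σ) = (SpecOver A C ◁ specMap A σ) ≫ (eY.inv ▷ SpecOver A D) :=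
    (whisker_exchange _ _).symm
  rw [h1, specMap_comp, h2, reassoc_of% h3, Category.assoc, reassoc_of% h4]

end Hom

section Main

variable {Y X : Over (Spec (CommRingCat.of A))} [IsAffine Y.left] [IsAffine X.left]
  {D D' : Type u} [CommRing D] [CommRing D'] [Algebra A D] [Algebra A D'] [Algebra D D'] [IsScalarTower A D D']
  (f : D) [IsLocalization.Away f D']

/-- An affine scheme over `Spec A` is the spectrum of an algebra. -/
theorem exists_specOver (X : Over (Spec (CommRingCat.of A))) [IsAffine X.left] :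
    ∃ (B : Type u) (_ : CommRing B) (_ : Algebra A B), Nonempty (X ≅ SpecOver A B) := by
  refine ⟨Fn X, inferInstance, inferInstance, ⟨?_⟩⟩
  have : IsIso (toSpecFn X).left := by
    rw [toSpecFn_left]
    exact IsAffine.affine
  have h : IsIso ((Over.forget _).map (toSpecFn X)) := this
  have := isIso_of_reflects_iso (toSpecFn X) (Over.forget _)
  exact asIso (toSpecFn X)

theorem prop_of_iso {P : MorphismProperty Scheme.{u}} [P.RespectsIso] {S : Scheme.{u}} {X Y : Over S} (e : X ≅ Y)
    (h : P X.hom) : P Y.hom := by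
  rw [← Over.w e.inv]
  have : IsIso e.inv.left := inferInstanceAs (IsIso ((Over.forget S).map e.inv))
  exact (P.cancel_left_of_respectsIso _ _).2 h

/-- **Existence of lifts after a substitution.** -/
theorem exists_lift [LocallyOfFinitePresentation X.hom] (φ : Y ⊗ SpecOver A D'[X] ⟶ X) (φ₀ : Y ⊗ SpecOver A D ⟶ X)
    (h : (Y ◁ specMap A (ev0 A D')) ≫ φ = (Y ◁ specMap A (IsScalarTower.toAlgHom A D D')) ≫ φ₀) :
    ∃ M : ℕ, ∀ N, M ≤ N → ∃ φ' : Y ⊗ SpecOver A D[X] ⟶ X, (Y ◁ specMap A (ev0 A D)) ≫ φ' = φ₀ ∧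
      (Y ◁ specMap A (Polynomial.mapAlgHom (IsScalarTower.toAlgHom A D D'))) ≫ φ' =
        (Y ◁ specMap A (sclA (A := A) (algebraMap D D' f ^ N))) ≫ φ := by
  obtain ⟨C, _, _, ⟨eY⟩⟩ := exists_specOver Y
  obtain ⟨B, _, _, ⟨eX⟩⟩ := exists_specOver X
  have hB : LocallyOfFinitePresentation (SpecOver A B).hom :=
    prop_of_iso (P := @LocallyOfFinitePresentation) eX inferInstance
  have hB' : Algebra.FinitePresentation A B := by
    have h1 : LocallyOfFinitePresentation (Spec.map (CommRingCat.ofHom (algebraMap A B))) := hB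
    rw [HasRingHomProperty.Spec_iff (P := @LocallyOfFinitePresentation)] at h1
    exact RingHom.finitePresentation_algebraMap.1 h1
  obtain ⟨M, hM⟩ := QPatchTensor.exists_lift C f (homE eY eX φ) (homE eY eX φ₀) (by
    rw [← homE_comp, ← homE_comp, h])
  refine ⟨M, fun N hN => ?_⟩
  obtain ⟨t', h1, h2⟩ := hM N hN
  obtain ⟨φ', rfl⟩ := homE_surjective eY eX t'
  refine ⟨φ', ?_, ?_⟩
  · apply homE_injective eY eX
    rw [homE_comp, h1]
  · apply homE_injective eY eX
    rw [homE_comp, h2, homE_comp]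

/-- **Uniqueness of lifts after a substitution.** -/
theorem exists_scl_eq [LocallyOfFiniteType X.hom] (φ₁ φ₂ : Y ⊗ SpecOver A D[X] ⟶ X)
    (h0 : (Y ◁ specMap A (ev0 A D)) ≫ φ₁ = (Y ◁ specMap A (ev0 A D)) ≫ φ₂)
    (h : (Y ◁ specMap A (Polynomial.mapAlgHom (IsScalarTower.toAlgHom A D D'))) ≫ φ₁ =
      (Y ◁ specMap A (Polynomial.mapAlgHom (IsScalarTower.toAlgHom A D D'))) ≫ φ₂) :
    ∃ M : ℕ, ∀ N, M ≤ N → (Y ◁ specMap A (sclA (A := A) (f ^ N))) ≫ φ₁ =
      (Y ◁ specMap A (sclA (A := A) (f ^ N))) ≫ φ₂ := by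
  obtain ⟨C, _, _, ⟨eY⟩⟩ := exists_specOver Y
  obtain ⟨B, _, _, ⟨eX⟩⟩ := exists_specOver X
  have hB : LocallyOfFiniteType (SpecOver A B).hom :=
    prop_of_iso (P := @LocallyOfFiniteType) eX inferInstance
  have hB' : Algebra.FiniteType A B := by
    have h1 : LocallyOfFiniteType (Spec.map (CommRingCat.ofHom (algebraMap A B))) := hB
    rw [HasRingHomProperty.Spec_iff (P := @LocallyOfFiniteType)] at h1
    exact RingHom.finiteType_algebraMap.1 h1
  obtain ⟨M, hM⟩ := QPatchTensor.exists_scl_eq C f (homE eY eX φ₁) (homE eY eX φ₂)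
    (by rw [← homE_comp, ← homE_comp, h0]) (by rw [← homE_comp, ← homE_comp, h])
  refine ⟨M, fun N hN => ?_⟩
  apply homE_injective eY eX
  rw [homE_comp, homE_comp, hM N hN]

end Main

end K217.QPatchGeo
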