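import Groth.Agent.Red.K217.QPatchAlg

/-!
# Quillen patching, algebra part: maps into `C ⊗ D[X]`
-/

set_option autoImplicit false
universe u v

open Polynomial
open scoped TensorProduct

namespace K217.QPatchTensor

open K217.QPatchAlg

section

variable (A C D : Type u) [CommRing A] [CommRing C] [CommRing D] [Algebra A C] [Algebra A D]

/-- Evaluation at `0`. -/
noncomputable def ev0 : D[X] →ₐ[A] D := (Polynomial.aeval (0 : D)).restrictScalars A

theorem ev0_apply (p : D[X]) : ev0 A D p = p.coeff 0 := by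
  rw [ev0, AlgHom.restrictScalars_apply, ← Polynomial.coeff_zero_eq_aeval_zero]

/-- `C ⊗ D[X] → (C ⊗ D)[X]`. -/
noncomputable def toPoly : C ⊗[A] D[X] →ₐ[A] (C ⊗[A] D)[X] :=
  Algebra.TensorProduct.lift
    ((IsScalarTower.toAlgHom A (C ⊗[A] D) (C ⊗[A] D)[X]).comp Algebra.TensorProduct.includeLeft)
    (Polynomial.mapAlgHom Algebra.TensorProduct.includeRight) (fun _ _ => Commute.all _ _)

/-- `(C ⊗ D)[X] → C ⊗ D[X]`. -/
noncomputable def ofPoly : (C ⊗[A] D)[X] →ₐ[A] C ⊗[A] D[X] where
  __ := Polynomial.eval₂RingHom (Algebra.TensorProduct.map (AlgHom.id A C) (IsScalarTower.toAlgHom A D D[X])).toRingHom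
    (1 ⊗ₜ X)
  commutes' a := by
    change Polynomial.eval₂ _ _ (algebraMap A _ a) = _
    rw [Polynomial.algebraMap_apply, Polynomial.eval₂_C]
    exact AlgHom.commutes _ a

theorem ofPoly_apply (p : (C ⊗[A] D)[X]) : ofPoly A C D p =
    Polynomial.eval₂ (Algebra.TensorProduct.map (AlgHom.id A C) (IsScalarTower.toAlgHom A D D[X])).toRingHom
      (1 ⊗ₜ X) p := rfl

theorem toPoly_tmul (c : C) (p : D[X]) :
    toPoly A C D (c ⊗ₜ p) = Polynomial.C (c ⊗ₜ[A] (1 : D)) * p.map (Algebra.TensorProduct.includeRight (R := A) (A := C)).toRingHom := by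
  rw [toPoly, Algebra.TensorProduct.lift_tmul]
  rfl

theorem ofPoly_comp_toPoly : (ofPoly A C D).comp (toPoly A C D) = AlgHom.id A _ := by
  refine Algebra.TensorProduct.ext ?_ ?_
  · ext c
    simp only [AlgHom.comp_apply, Algebra.TensorProduct.includeLeft_apply, AlgHom.id_apply, toPoly_tmul,
      Polynomial.map_one, mul_one, ofPoly_apply]
    rw [Polynomial.eval₂_C]
    simp
  · refine AlgHom.ext fun p => ?_
    simp only [AlgHom.comp_apply, AlgHom.restrictScalars_apply, Algebra.TensorProduct.includeRight_apply,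
      AlgHom.id_apply, toPoly_tmul]
    rw [← Algebra.TensorProduct.one_def, map_one, one_mul]
    induction p using Polynomial.induction_on' with
    | add p q hp hq => rw [Polynomial.map_add, map_add, hp, hq, TensorProduct.tmul_add]
    | monomial n d =>
      rw [Polynomial.map_monomial, ofPoly_apply, Polynomial.eval₂_monomial]
      simp only [AlgHom.toRingHom_eq_coe, RingHom.coe_coe, Algebra.TensorProduct.includeRight_apply,
        Algebra.TensorProduct.map_tmul, AlgHom.id_apply, IsScalarTower.coe_toAlgHom',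
        Algebra.TensorProduct.tmul_pow, one_pow, Algebra.TensorProduct.tmul_mul_tmul, mul_one]
      rw [Polynomial.algebraMap_eq, Polynomial.C_mul_X_pow_eq_monomial]

theorem toPoly_comp_ofPoly : (toPoly A C D).comp (ofPoly A C D) = AlgHom.id A _ := by
  refine AlgHom.ext fun p => ?_
  simp only [AlgHom.comp_apply, AlgHom.id_apply]
  have hC : ∀ z : C ⊗[A] D, toPoly A C D (Algebra.TensorProduct.map (AlgHom.id A C)
      (IsScalarTower.toAlgHom A D D[X]) z) = Polynomial.C z := by
    intro z
    induction z using TensorProduct.induction_on with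
    | zero => simp
    | add x y hx hy => rw [map_add, map_add, hx, hy, Polynomial.C_add]
    | tmul c d =>
      rw [Algebra.TensorProduct.map_tmul, toPoly_tmul]
      simp only [AlgHom.id_apply, IsScalarTower.coe_toAlgHom', Polynomial.algebraMap_eq, Polynomial.map_C,
        AlgHom.toRingHom_eq_coe, RingHom.coe_coe, Algebra.TensorProduct.includeRight_apply]
      rw [← Polynomial.C_mul, Algebra.TensorProduct.tmul_mul_tmul, mul_one, one_mul]
  induction p using Polynomial.induction_on' with
  | add p q hp hq => rw [map_add, map_add, hp, hq]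
  | monomial n z =>
    rw [ofPoly_apply, Polynomial.eval₂_monomial, map_mul, map_pow]
    change toPoly A C D (Algebra.TensorProduct.map _ _ z) * _ = _
    rw [hC, toPoly_tmul]
    simp only [Polynomial.map_X]
    rw [← Algebra.TensorProduct.one_def, map_one, one_mul, Polynomial.C_mul_X_pow_eq_monomial]

theorem toPoly_injective : Function.Injective (toPoly A C D) := by
  intro x y h
  have h1 := congrArg (ofPoly A C D) h
  have h2 := ofPoly_comp_toPoly A C D
  have h3 : ∀ z, ofPoly A C D (toPoly A C D z) = z := fun z => congrArg (fun φ => φ z) h2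
  rw [h3, h3] at h1
  exact h1

end

variable {A : Type u} (C : Type u) {D D' : Type u} [CommRing A] [CommRing C] [CommRing D] [CommRing D'] [Algebra A C] [Algebra A D]
  [Algebra A D']

theorem coeff_zero_toPoly (z : C ⊗[A] D[X]) :
    (toPoly A C D z).coeff 0 = Algebra.TensorProduct.map (AlgHom.id A C) (ev0 A D) z := by
  have h : (ev0 A (C ⊗[A] D)).comp (toPoly A C D) = Algebra.TensorProduct.map (AlgHom.id A C) (ev0 A D) := by
    refine Algebra.TensorProduct.ext ?_ ?_
    · ext c
      simp [toPoly_tmul, ev0_apply]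
    · refine AlgHom.ext fun p => ?_
      simp [toPoly_tmul, ev0_apply, ← Algebra.TensorProduct.one_def]
  have h1 := congrArg (fun φ => φ z) h
  simp only [AlgHom.comp_apply, ev0_apply] at h1
  exact h1

theorem map_toPoly (σ : D →ₐ[A] D') (z : C ⊗[A] D[X]) :
    (toPoly A C D z).map (Algebra.TensorProduct.map (AlgHom.id A C) σ).toRingHom =
      toPoly A C D' (Algebra.TensorProduct.map (AlgHom.id A C) (Polynomial.mapAlgHom σ) z) := by
  have h : (Polynomial.mapAlgHom (Algebra.TensorProduct.map (AlgHom.id A C) σ)).comp (toPoly A C D) =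
      (toPoly A C D').comp (Algebra.TensorProduct.map (AlgHom.id A C) (Polynomial.mapAlgHom σ)) := by
    refine Algebra.TensorProduct.ext ?_ ?_
    · ext c : 1
      simp [toPoly_tmul]
    · refine AlgHom.ext fun p => ?_
      simp only [AlgHom.comp_apply, AlgHom.restrictScalars_apply, Algebra.TensorProduct.includeRight_apply,
        toPoly_tmul, Algebra.TensorProduct.map_tmul, AlgHom.id_apply, Polynomial.coe_mapAlgHom]
      rw [← Algebra.TensorProduct.one_def, map_one, one_mul, ← Algebra.TensorProduct.one_def, map_one, one_mul,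
        Polynomial.map_map, Polynomial.map_map]
      congr 1
  exact congrArg (fun φ => φ z) h

theorem scl_toPoly (c : D) (z : C ⊗[A] D[X]) :
    scl (1 ⊗ₜ c) (toPoly A C D z) = toPoly A C D (Algebra.TensorProduct.map (AlgHom.id A C) (sclA (A := A) c) z) := by
  have h : (sclA (A := A) (1 ⊗ₜ c)).comp (toPoly A C D) =
      (toPoly A C D).comp (Algebra.TensorProduct.map (AlgHom.id A C) (sclA (A := A) c)) := by
    refine Algebra.TensorProduct.ext ?_ ?_
    · ext x : 1
      simp only [AlgHom.comp_apply, Algebra.TensorProduct.includeLeft_apply, toPoly_tmul,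
        Algebra.TensorProduct.map_tmul, AlgHom.id_apply, map_one, AlgHom.restrictScalars_apply, Polynomial.map_one,
        mul_one, scl_C]
    · refine AlgHom.ext fun p => ?_
      simp only [AlgHom.comp_apply, AlgHom.restrictScalars_apply, Algebra.TensorProduct.includeRight_apply,
        toPoly_tmul, Algebra.TensorProduct.map_tmul, AlgHom.id_apply, ← Algebra.TensorProduct.one_def, map_one,
        one_mul]
      ext n
      simp [coeff_scl, Polynomial.coeff_map]
  exact congrArg (fun φ => φ z) h

variable [Algebra D D'] [IsScalarTower A D D'] (f : D)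

/-- The algebra structure of `C ⊗ D'` over `C ⊗ D`. -/
noncomputable abbrev algT : Algebra (C ⊗[A] D) (C ⊗[A] D') :=
  (Algebra.TensorProduct.map (AlgHom.id A C) (IsScalarTower.toAlgHom A D D')).toRingHom.toAlgebra

variable [IsLocalization.Away f D']

theorem isLocalization_tensor : letI := algT (A := A) C (D := D) (D' := D')
    IsLocalization.Away ((1 : C) ⊗ₜ[A] f) (C ⊗[A] D') := by
  let _ := algT (A := A) C (D := D) (D' := D')
  have : IsScalarTower C (C ⊗[A] D) (C ⊗[A] D') := IsScalarTower.of_algebraMap_eq fun c => by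
    change _ = Algebra.TensorProduct.map (AlgHom.id A C) (IsScalarTower.toAlgHom A D D') (c ⊗ₜ 1)
    rw [Algebra.TensorProduct.map_tmul, map_one]
    rfl
  have h := IsLocalization.tensorProduct_tensorProduct_right A C (Submonoid.powers f) D' (by
    ext d
    change Algebra.TensorProduct.map (AlgHom.id A C) (IsScalarTower.toAlgHom A D D') (1 ⊗ₜ d) = _
    rw [Algebra.TensorProduct.map_tmul]
    simp)
  rw [IsLocalization.Away]
  convert h
  rw [Submonoid.map_powers]
  rfl

variable {B : Type u} [CommRing B] [Algebra A B]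

/-- **Existence.** -/
theorem exists_lift [Algebra.FinitePresentation A B] (t : B →ₐ[A] C ⊗[A] D'[X])
    (t₀ : B →ₐ[A] C ⊗[A] D)
    (h : (Algebra.TensorProduct.map (AlgHom.id A C) (ev0 A D')).comp t =
      (Algebra.TensorProduct.map (AlgHom.id A C) (IsScalarTower.toAlgHom A D D')).comp t₀) :
    ∃ M : ℕ, ∀ N, M ≤ N → ∃ t' : B →ₐ[A] C ⊗[A] D[X],
      (Algebra.TensorProduct.map (AlgHom.id A C) (ev0 A D)).comp t' = t₀ ∧
      (Algebra.TensorProduct.map (AlgHom.id A C) (Polynomial.mapAlgHom (IsScalarTower.toAlgHom A D D'))).comp t' =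
        (Algebra.TensorProduct.map (AlgHom.id A C) (sclA (A := A) (algebraMap D D' f ^ N))).comp t := by
  let _ := algT (A := A) C (D := D) (D' := D')
  have hst : IsScalarTower A (C ⊗[A] D) (C ⊗[A] D') := IsScalarTower.of_algebraMap_eq fun a => by
    change _ = Algebra.TensorProduct.map (AlgHom.id A C) (IsScalarTower.toAlgHom A D D') (algebraMap A _ a)
    rw [AlgHom.commutes]
  have hloc := isLocalization_tensor (A := A) C (D := D) (D' := D') f
  obtain ⟨M, hM⟩ := QPatchAlg.exists_lift (A := A) (D := C ⊗[A] D) (D' := C ⊗[A] D') ((1 : C) ⊗ₜ[A] f)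
    ((toPoly A C D').comp t) t₀ (fun b => by
      rw [AlgHom.comp_apply, coeff_zero_toPoly]
      exact congrArg (fun φ => φ b) h)
  refine ⟨M, fun N hN => ?_⟩
  obtain ⟨t', h0, h1⟩ := hM N hN
  have hto : ∀ z, toPoly A C D (ofPoly A C D z) = z := fun z =>
    congrArg (fun φ => φ z) (toPoly_comp_ofPoly A C D)
  refine ⟨(ofPoly A C D).comp t', ?_, ?_⟩
  · refine AlgHom.ext fun b => ?_
    rw [AlgHom.comp_apply, AlgHom.comp_apply, ← coeff_zero_toPoly, hto, h0]
  · refine AlgHom.ext fun b => ?_
    apply toPoly_injective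
    rw [AlgHom.comp_apply, AlgHom.comp_apply, AlgHom.comp_apply, ← map_toPoly, hto, ← scl_toPoly]
    have h2 := h1 b
    have h3 : algebraMap (C ⊗[A] D) (C ⊗[A] D') (1 ⊗ₜ f) ^ N = 1 ⊗ₜ (algebraMap D D' f ^ N) := by
      change (Algebra.TensorProduct.map (AlgHom.id A C) (IsScalarTower.toAlgHom A D D') (1 ⊗ₜ f)) ^ N = _
      rw [Algebra.TensorProduct.map_tmul, Algebra.TensorProduct.tmul_pow, map_one, one_pow]
      rfl
    rw [h3] at h2
    exact h2

/-- **Uniqueness.** -/
theorem exists_scl_eq [Algebra.FiniteType A B] (t₁ t₂ : B →ₐ[A] C ⊗[A] D[X])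
    (h0 : (Algebra.TensorProduct.map (AlgHom.id A C) (ev0 A D)).comp t₁ =
      (Algebra.TensorProduct.map (AlgHom.id A C) (ev0 A D)).comp t₂)
    (h : (Algebra.TensorProduct.map (AlgHom.id A C) (Polynomial.mapAlgHom (IsScalarTower.toAlgHom A D D'))).comp t₁ =
      (Algebra.TensorProduct.map (AlgHom.id A C) (Polynomial.mapAlgHom (IsScalarTower.toAlgHom A D D'))).comp t₂) :
    ∃ M : ℕ, ∀ N, M ≤ N →
      (Algebra.TensorProduct.map (AlgHom.id A C) (sclA (A := A) (f ^ N))).comp t₁ =
      (Algebra.TensorProduct.map (AlgHom.id A C) (sclA (A := A) (f ^ N))).comp t₂ := by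
  let _ := algT (A := A) C (D := D) (D' := D')
  have hst : IsScalarTower A (C ⊗[A] D) (C ⊗[A] D') := IsScalarTower.of_algebraMap_eq fun a => by
    change _ = Algebra.TensorProduct.map (AlgHom.id A C) (IsScalarTower.toAlgHom A D D') (algebraMap A _ a)
    rw [AlgHom.commutes]
  have hloc := isLocalization_tensor (A := A) C (D := D) (D' := D') f
  obtain ⟨M, hM⟩ := QPatchAlg.exists_scl_eq (A := A) (D := C ⊗[A] D) (D' := C ⊗[A] D') ((1 : C) ⊗ₜ[A] f)
    ((toPoly A C D).comp t₁) ((toPoly A C D).comp t₂) (fun b => by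
      rw [AlgHom.comp_apply, AlgHom.comp_apply, coeff_zero_toPoly, coeff_zero_toPoly]
      exact congrArg (fun φ => φ b) h0) (fun b => by
      rw [AlgHom.comp_apply, AlgHom.comp_apply]
      change (toPoly A C D (t₁ b)).map (Algebra.TensorProduct.map (AlgHom.id A C) (IsScalarTower.toAlgHom A D D')).toRingHom =
        (toPoly A C D (t₂ b)).map (Algebra.TensorProduct.map (AlgHom.id A C) (IsScalarTower.toAlgHom A D D')).toRingHom
      rw [map_toPoly, map_toPoly]
      exact congrArg _ (congrArg (fun φ => φ b) h))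
  refine ⟨M, fun N hN => ?_⟩
  have h1 := hM N hN
  refine AlgHom.ext fun b => ?_
  apply toPoly_injective
  rw [AlgHom.comp_apply, AlgHom.comp_apply, ← scl_toPoly, ← scl_toPoly]
  have h2 := congrArg (fun φ => φ b) h1
  simp only [AlgHom.comp_apply, AlgHom.restrictScalars_apply, Algebra.TensorProduct.tmul_pow, one_pow] at h2
  exact h2

end K217.QPatchTensor
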