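import Groth.Agent.Red.K217.QKap
import Groth.Agent.Red.K217.QAx

/-!
# The torsor of isomorphisms between `H` and `p^* o^* H` over affine space
-/

set_option autoImplicit false
universe u

open CategoryTheory MonoidalCategory CartesianMonoidalCategory MonObj GrpObj AlgebraicGeometry Opposite

namespace K217.QTors

open K217.QPatchAlg K217.QPatchTensor K217.QPatchGeo K217.QFam K217.QFun K217.QAx K217.QKap
open Groth.Agent.Books.AffBridge Groth.Agent.Sga3B.AffPts Groth.Agent.Sga3B.BcPts Groth.Agent.Sga3B.RepDescent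

variable (A : Type u) [CommRing A] (n : Type u)

/-- affine space over `Spec A` -/
noncomputable abbrev Aff : Scheme.{u} := Spec (CommRingCat.of (MvPolynomial n A))

/-- projection -/
noncomputable abbrev pp : Aff A n ⟶ Spec (CommRingCat.of A) :=
  Spec.map (CommRingCat.ofHom (algebraMap A (MvPolynomial n A)))

/-- zero section -/
noncomputable abbrev oo : Spec (CommRingCat.of A) ⟶ Aff A n :=
  Spec.map (CommRingCat.ofHom (z0 A n A).toRingHom)

theorem oo_pp : oo A n ≫ pp A n = 𝟙 _ := by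
  rw [← Spec.map_comp, ← CommRingCat.ofHom_comp, ← Spec.map_id]
  congr 1
  ext a
  simp [z0]

section T

variable (D D' : Type u) [CommRing D] [CommRing D'] [Algebra A D] [Algebra A D']

/-- affine space over `D` -/
noncomputable def T : Over (Aff A n) :=
  Over.mk (Spec.map (CommRingCat.ofHom (MvPolynomial.map (σ := n) (algebraMap A D))))

variable {D D'}

/-- change of coefficients -/
noncomputable def tm (σ : D →ₐ[A] D') : T A n D' ⟶ T A n D :=
  Over.homMk (Spec.map (CommRingCat.ofHom (MvPolynomial.mapAlgHom (σ := n) σ).toRingHom)) (by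
    change Spec.map _ ≫ Spec.map _ = Spec.map _
    rw [← Spec.map_comp, ← CommRingCat.ofHom_comp]
    congr 2
    refine MvPolynomial.ringHom_ext (fun r => ?_) (fun i => ?_)
    · simp
    · simp)

variable (D)

/-- the comparison of the two structures over `Spec A` -/
noncomputable def jj : SpecOver A (MvPolynomial n D) ≅ (Over.map (pp A n)).obj (T A n D) :=
  Over.isoMk (Iso.refl _) (by
    change 𝟙 _ ≫ Spec.map _ ≫ Spec.map _ = Spec.map _
    rw [Category.id_comp, ← Spec.map_comp, ← CommRingCat.ofHom_comp]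
    congr 2
    ext a
    simp [MvPolynomial.algebraMap_eq, MvPolynomial.algebraMap_apply])

variable {D}

theorem jj_nat (σ : D →ₐ[A] D') : specMap A (MvPolynomial.mapAlgHom (σ := n) σ) ≫ (jj A n D).hom =
    (jj A n D').hom ≫ (Over.map (pp A n)).map (tm A n σ) := by
  apply Over.OverMorphism.ext
  change (specMap A _).left ≫ 𝟙 _ = 𝟙 _ ≫ Spec.map _
  rw [Category.id_comp, Category.comp_id]
  rfl

theorem jj_nat' (σ : D →ₐ[A] D') : (Over.map (pp A n)).map (tm A n σ) ≫ (jj A n D).inv =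
    (jj A n D').inv ≫ specMap A (MvPolynomial.mapAlgHom (σ := n) σ) := by
  rw [Iso.comp_inv_eq, Category.assoc, jj_nat, Iso.inv_hom_id_assoc]

variable (D)

/-- the zero section -/
noncomputable def zz : (Over.map (oo A n)).obj (SpecOver A D) ⟶ T A n D :=
  Over.homMk (Spec.map (CommRingCat.ofHom (z0 A n D).toRingHom)) (by
    change Spec.map _ ≫ Spec.map _ = Spec.map _ ≫ Spec.map _
    rw [← Spec.map_comp, ← CommRingCat.ofHom_comp, ← Spec.map_comp, ← CommRingCat.ofHom_comp]
    congr 2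
    refine MvPolynomial.ringHom_ext (fun r => ?_) (fun i => ?_)
    · simp [z0]
    · simp [z0])

variable {D} in
theorem zz_nat (σ : D →ₐ[A] D') : zz A n D' ≫ tm A n σ = (Over.map (oo A n)).map (specMap A σ) ≫ zz A n D := by
  apply Over.OverMorphism.ext
  change Spec.map _ ≫ Spec.map _ = Spec.map _ ≫ Spec.map _
  rw [← Spec.map_comp, ← CommRingCat.ofHom_comp, ← Spec.map_comp, ← CommRingCat.ofHom_comp]
  congr 2
  refine MvPolynomial.ringHom_ext (fun r => ?_) (fun i => ?_)
  · simp [z0]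
  · simp [z0]

theorem iota_zz : (iota (oo_pp A n) (SpecOver A D)).hom ≫ (Over.map (pp A n)).map (zz A n D) ≫ (jj A n D).inv =
    specMap A (z0 A n D) := by
  apply Over.OverMorphism.ext
  change 𝟙 _ ≫ Spec.map _ ≫ 𝟙 _ = _
  rw [Category.id_comp, Category.comp_id]
  rfl

end T

section cst

variable {S : Scheme.{u}} {G H : Over S} [GrpObj G] [GrpObj H]

/-- constant families -/
noncomputable def cstF (e : G ≅ H) [IsMonHom e.hom] (T : Over S) : IsoF G H T :=
  ⟨fst G T ≫ e.hom, isIsoFamily_of (fun X g₁ g₂ t => by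
      rw [← Category.assoc, ← Category.assoc, ← Category.assoc, lift_fst, lift_fst, lift_fst, MonObj.mul_comp])
    (fst H T ≫ e.inv)
    (ext_pts fun X g t => by rw [lift_comp, lift_fst_assoc, lift_fst_assoc, lift_fst, Category.assoc, e.hom_inv_id,
      Category.comp_id])
    (ext_pts fun X g t => by rw [lift_comp, lift_fst_assoc, lift_fst_assoc, lift_fst, Category.assoc, e.inv_hom_id,
      Category.comp_id])⟩

/-- conjugation of families by toV -/
noncomputable def toVF {V : Scheme.{u}} (v : V ⟶ S) {T : Over V} (φ : IsoF G H ((Over.map v).obj T)) :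
    IsoF (Red.bc v G) (Red.bc v H) T := ⟨toV v φ.1, isIsoFamily_toV v φ.2⟩

end cst

variable (H : Over (Aff A n)) [GrpObj H]

/-- restriction to the zero section -/
noncomputable abbrev H0 : Over (Spec (CommRingCat.of A)) := Red.bc (oo A n) H

/-- extension to affine space -/
noncomputable abbrev K0 : Over (Aff A n) := Red.bc (pp A n) (H0 A n H)

section main

variable (D D' : Type u) [CommRing D] [CommRing D'] [Algebra A D] [Algebra A D']

/-- automorphisms of `K` -/
noncomputable def qq (γ : (autF (H0 A n H)).obj (MvPolynomial n D)) : IsoF (K0 A n H) (K0 A n H) (T A n D) :=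
  toVF (pp A n) (IsoF.pull (jj A n D).inv γ)

variable {D D'}

theorem qq_mul (γ δ : (autF (H0 A n H)).obj (MvPolynomial n D)) :
    qq A n H D (γ * δ) = (qq A n H D γ).comp (qq A n H D δ) := by
  apply Subtype.ext
  change toV (pp A n) ((H0 A n H ◁ (jj A n D).inv) ≫ comp γ.1 δ.1) = _
  rw [QFam.pull_comp, toV_comp]
  rfl

theorem qq_nat (σ : D →ₐ[A] D') (γ : (autF (H0 A n H)).obj (MvPolynomial n D)) :
    (qq A n H D γ).pull (tm A n σ) = qq A n H D' ((autF (H0 A n H)).map (MvPolynomial.mapAlgHom (σ := n) σ) γ) := by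
  apply Subtype.ext
  change (K0 A n H ◁ tm A n σ) ≫ toV (pp A n) ((H0 A n H ◁ (jj A n D).inv) ≫ γ.1) =
    toV (pp A n) ((H0 A n H ◁ (jj A n D').inv) ≫ (H0 A n H ◁ specMap A (MvPolynomial.mapAlgHom (σ := n) σ)) ≫ γ.1)
  rw [← toV_pull, ← Category.assoc, ← Category.assoc, ← MonoidalCategory.whiskerLeft_comp,
    ← MonoidalCategory.whiskerLeft_comp, jj_nat']

theorem qq_surj (χ : IsoF (K0 A n H) (K0 A n H) (T A n D)) : ∃ γ, qq A n H D γ = χ := by
  refine ⟨IsoF.pull (jj A n D).hom ⟨ofV (pp A n) χ.1, isIsoFamily_ofV (pp A n) χ.2⟩, ?_⟩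
  apply Subtype.ext
  change toV (pp A n) ((H0 A n H ◁ (jj A n D).inv) ≫ (H0 A n H ◁ (jj A n D).hom) ≫ ofV (pp A n) χ.1) = _
  rw [← Category.assoc, ← MonoidalCategory.whiskerLeft_comp, Iso.inv_hom_id, MonoidalCategory.whiskerLeft_id,
    Category.id_comp, toV_ofV]

/-- restriction to the zero section -/
noncomputable def rr (φ : IsoF H (K0 A n H) (T A n D)) : (autF (H0 A n H)).obj D :=
  (toVF (oo A n) (φ.pull (zz A n D))).comp (cstF (kap (oo_pp A n) (H0 A n H)) _)

theorem rr_nat (σ : D →ₐ[A] D') (φ : IsoF H (K0 A n H) (T A n D)) :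
    rr A n H (φ.pull (tm A n σ)) = (autF (H0 A n H)).map σ (rr A n H φ) := by
  apply Subtype.ext
  change comp (toV (oo A n) ((H ◁ zz A n D') ≫ (H ◁ tm A n σ) ≫ φ.1)) (fst _ _ ≫ (kap (oo_pp A n) (H0 A n H)).hom) =
    (H0 A n H ◁ specMap A σ) ≫ comp (toV (oo A n) ((H ◁ zz A n D) ≫ φ.1)) (fst _ _ ≫ (kap (oo_pp A n) (H0 A n H)).hom)
  rw [QFam.pull_comp, ← toV_pull, whiskerLeft_fst_assoc, ← Category.assoc, ← Category.assoc,
    ← MonoidalCategory.whiskerLeft_comp, ← MonoidalCategory.whiskerLeft_comp, zz_nat]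

theorem rr_act (φ : IsoF H (K0 A n H) (T A n D)) (γ : (autF (H0 A n H)).obj (MvPolynomial n D)) :
    rr A n H (φ.comp (qq A n H D γ)) = rr A n H φ * (autF (H0 A n H)).map (z0 A n D) γ := by
  apply Subtype.ext
  apply ext_pts
  intro Y g t
  change lift g t ≫ comp (toV (oo A n) ((H ◁ zz A n D) ≫ comp φ.1 (qq A n H D γ).1)) (fst _ _ ≫ (kap (oo_pp A n) (H0 A n H)).hom) =
    lift g t ≫ comp (comp (toV (oo A n) ((H ◁ zz A n D) ≫ φ.1)) (fst _ _ ≫ (kap (oo_pp A n) (H0 A n H)).hom))
      ((H0 A n H ◁ specMap A (z0 A n D)) ≫ γ.1)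
  rw [lift_comp, lift_comp, lift_comp, lift_fst_assoc, lift_fst_assoc, QFam.pull_comp, toV_comp, lift_comp, lift_pull]
  have h := toV_toV_kap (oo_pp A n) (zz A n D) ((H0 A n H ◁ (jj A n D).inv) ≫ γ.1)
    (lift g t ≫ toV (oo A n) ((H ◁ zz A n D) ≫ φ.1)) t
  refine h.trans ?_
  rw [lift_pull, Category.assoc, Category.assoc, Category.assoc, iota_zz]

end main

end K217.QTors
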