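import Groth.Agent.Sga3.H795.RankEt
import Groth.Agent.Sga3.H799.Bc
import Groth.Agent.Sga3.H784.NAMain
import Groth.Agent.S4136
import Groth.Agent.Sga3.H819.LocalTorus
import Groth.Agent.Sga3B.TorusEtSplit
import Groth.Agent.Red.K217.NoethAffSm

/-!
# Reductive ranks, ranks of tori, base change and quasi-compactness
-/

set_option autoImplicit false
universe u
open CategoryTheory MonoidalCategory CartesianMonoidalCategory MonObj GrpObj AlgebraicGeometry Limits

namespace K217.RankLoc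

open Groth.Agent Groth.Agent.Sga3B Groth.Agent.Sga3B.RedIso Groth.Agent.Sga3B.BcNat
open Groth.Agent.Sga3B.MaxTorBc636 (exists_geomPt)
open Groth.Agent.Sga3.H795.RankEt (exists_nat_of_hasRedRank hasRedRank_of_split)
open Groth.Agent.Sga3.H795.MaxTorDim (topologicalKrullDim_of_split dim_eq_of_isMaximalTorus)

variable {S S' : Scheme.{u}}

section red

variable (G : Over S) [GrpObj G]

/-- reductive ranks under base change -/
theorem hasRedRank_bc [LocallyOfFiniteType G.hom] (f : S' ⟶ S) (s' : S') {r : WithBot ℕ∞}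
    (h : SGA3x.HasRedRank G (f s') r) : SGA3x.HasRedRank (Red.bc f G) s' r := by
  obtain ⟨θ, hθ⟩ := exists_geomPt f s'
  obtain ⟨n, rfl, T, i1, i, hi, hn⟩ := exists_nat_of_hasRedRank h
  have h0 : LocallyOfFiniteType (Red.geomFibre (f s') G).hom :=
    inferInstanceAs (LocallyOfFiniteType (pullback.snd _ _))
  have h1 := Sga3.H799.Bc.isMaximalTorus_bc θ hi
  have h2 : Red.IsMaximalTorus ((Over.pullback θ).map i ≫ (und (fibIso hθ G).symm).hom) :=
    AlgBc.isMaximalTorus_of_arrow (Iso.refl _) (fibIso hθ G).symm (by exact (Category.id_comp _).symm) h1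
  exact hasRedRank_of_split _ h2 (TorusAlgClosed.isSplitTorusWith_bc _ hn)

theorem exists_hasRedRank [LocallyOfFiniteType G.hom] (s : S) : ∃ n : ℕ, SGA3x.HasRedRank G s n := by
  have h0 : LocallyOfFiniteType (Red.geomFibre s G).hom :=
    inferInstanceAs (LocallyOfFiniteType (pullback.snd _ _))
  obtain ⟨T, hT, i, hi⟩ := Sga3.H784.NAMain.exists_isMaximalTorus (Red.geomFibre s G)
  obtain ⟨n, hn, -⟩ := exists_nat_of_hasRedRank (⟨T, hT, i, hi, rfl⟩ : SGA3x.HasRedRank G s _)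
  exact ⟨n, ⟨T, hT, i, hi, hn⟩⟩

theorem hasRedRank_unique [IsAffineHom G.hom] [LocallyOfFiniteType G.hom] {s : S} {r r' : WithBot ℕ∞}
    (h : SGA3x.HasRedRank G s r) (h' : SGA3x.HasRedRank G s r') : r = r' := by
  have h0 : LocallyOfFiniteType (Red.geomFibre s G).hom :=
    inferInstanceAs (LocallyOfFiniteType (pullback.snd _ _))
  have h1 : IsAffineHom (Red.geomFibre s G).hom := inferInstanceAs (IsAffineHom (pullback.snd _ _))
  have h2 : IsAffine (Red.geomFibre s G).left := isAffine_of_isAffineHom (Red.geomFibre s G).hom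
  obtain ⟨T, _, i, hi, rfl⟩ := h
  obtain ⟨T', _, i', hi', rfl⟩ := h'
  exact dim_eq_of_isMaximalTorus _ i hi i' hi'

/-- the locus where the reductive rank is at least `n` -/
def rkGe (n : ℕ) : Set S := {s : S | ∃ r : WithBot ℕ∞, SGA3x.HasRedRank G s r ∧ (n : WithBot ℕ∞) ≤ r}

theorem isOpen_rkGe [IsAffineHom G.hom] [Smooth G.hom] (n : ℕ) : IsOpen (rkGe G n) := S4136.result S G n

theorem preimage_rkGe [IsAffineHom G.hom] [LocallyOfFiniteType G.hom] (f : S' ⟶ S) (n : ℕ) :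
    f ⁻¹' (rkGe G n) = rkGe (Red.bc f G) n := by
  have h0 : LocallyOfFiniteType (Red.bc f G).hom := inferInstanceAs (LocallyOfFiniteType (pullback.snd _ _))
  have h1 : IsAffineHom (Red.bc f G).hom := MorphismProperty.pullback_snd (P := @IsAffineHom) _ _ ‹_›
  ext s'
  constructor
  · rintro ⟨r, hr, hn⟩
    exact ⟨r, hasRedRank_bc G f s' hr, hn⟩
  · rintro ⟨r, hr, hn⟩
    obtain ⟨m, hm⟩ := exists_hasRedRank G (f s')
    have h2 := hasRedRank_unique _ hr (hasRedRank_bc G f s' hm)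
    exact ⟨m, hm, h2 ▸ hn⟩

theorem hasRedRank_of_iso {G G' : Over S} [GrpObj G] [GrpObj G'] (e : Grp.mk G ≅ Grp.mk G') {s : S}
    {r : WithBot ℕ∞} (h : SGA3x.HasRedRank G s r) : SGA3x.HasRedRank G' s r := by
  obtain ⟨T, hT, i, hi, hd⟩ := h
  refine ⟨T, hT, i ≫ (und (BcIso.bcMapIso (Red.geomPt s) e)).hom, ?_, hd⟩
  exact AlgBc.isMaximalTorus_of_arrow (Iso.refl _) (BcIso.bcMapIso (Red.geomPt s) e)
    (by exact (Category.id_comp _).symm) hi

theorem rkGe_of_iso {G G' : Over S} [GrpObj G] [GrpObj G'] (e : Grp.mk G ≅ Grp.mk G') (n : ℕ) :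
    rkGe G n = rkGe G' n := by
  ext s
  exact ⟨fun ⟨r, h, hn⟩ => ⟨r, hasRedRank_of_iso e h, hn⟩, fun ⟨r, h, hn⟩ => ⟨r, hasRedRank_of_iso e.symm h, hn⟩⟩

/-- **Quasi-compactness.** -/
theorem isCompact_rkGe {R : Type u} [CommRing R] (G : Over (Spec (CommRingCat.of R))) [GrpObj G]
    [IsAffineHom G.hom] [Smooth G.hom] (n : ℕ) : IsCompact (rkGe G n) := by
  obtain ⟨R₀, G₀, _, hfg, h1, h2, ⟨e⟩⟩ := NoethAffSm.exists_noetherian G
  rw [← rkGe_of_iso e, ← preimage_rkGe G₀]
  have h3 : Algebra.FiniteType ℤ R₀ := (Subalgebra.fg_iff_finiteType R₀).mp hfg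
  have h4 : IsNoetherianRing R₀ := Algebra.FiniteType.isNoetherianRing ℤ R₀
  have h5 : TopologicalSpace.NoetherianSpace (Spec (CommRingCat.of R₀)) :=
    inferInstanceAs (TopologicalSpace.NoetherianSpace (PrimeSpectrum R₀))
  have h6 : IsCompact (rkGe G₀ n) := TopologicalSpace.NoetherianSpace.isCompact _
  exact QuasiCompact.isCompact_preimage (rkGe G₀ n) (isOpen_rkGe G₀ n) h6

end red

section tor

variable (T : Over S) [GrpObj T]

/-- the rank of a torus at a point -/
def torRk (n : ℕ) : Set S := {s : S | Red.IsSplitTorusWith (Fin n → ℤ) (Red.geomFibre s T)}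

lemma torRk_unique {n m : ℕ} {s : S} (h : s ∈ torRk T n) (h' : s ∈ torRk T m) : n = m := by
  have h1 := topologicalKrullDim_of_split h
  have h2 := topologicalKrullDim_of_split h'
  rw [h1] at h2
  exact_mod_cast h2

lemma exists_torRk (hT : Red.IsTorus T) (s : S) : ∃ n, s ∈ torRk T n :=
  TorusAlgClosed.exists_isSplitTorusWith (TorusBc.isTorus_bc (Red.geomPt s) hT)

lemma torRk_bc (f : S' ⟶ S) {n : ℕ} {s' : S'} (h : f s' ∈ torRk T n) : s' ∈ torRk (Red.bc f T) n := by
  obtain ⟨θ, hθ⟩ := exists_geomPt f s'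
  exact TorusBc.isSplitTorusWith_of_iso (fibIso hθ T).symm (TorusAlgClosed.isSplitTorusWith_bc θ h)

lemma preimage_torRk (hT : Red.IsTorus T) (f : S' ⟶ S) (n : ℕ) : f ⁻¹' (torRk T n) = torRk (Red.bc f T) n := by
  ext s'
  refine ⟨fun h => torRk_bc T f h, fun h => ?_⟩
  obtain ⟨m, hm⟩ := exists_torRk T hT (f s')
  have := torRk_unique _ h (torRk_bc T f hm)
  subst this
  exact hm

theorem isOpen_torRk (hT : Red.IsTorus T) (n : ℕ) : IsOpen (torRk T n) := by
  rw [isOpen_iff_forall_mem_open]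
  intro s hs
  obtain ⟨B, _, v, r, hv, ⟨t, ht⟩, hr⟩ := TorusEtSplit.exists_etale_split T hT s
  have h1 : ∀ t', t' ∈ torRk (Red.bc v T) r := fun t' => TorusAlgClosed.isSplitTorusWith_bc _ hr
  have h2 : ∀ t', v t' ∈ torRk T r := fun t' => by
    have h3 := h1 t'
    rw [← preimage_torRk T hT v] at h3
    exact h3
  have h4 : n = r := torRk_unique T hs (by
    have := h2 t
    rwa [show v t = s from ht] at this)
  subst h4
  refine ⟨Set.range v, ?_, v.isOpenMap.isOpen_range, ⟨t, ht⟩⟩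
  rintro _ ⟨t', rfl⟩
  exact h2 t'

theorem isClosed_torRk (hT : Red.IsTorus T) (n : ℕ) : IsClosed (torRk T n) := by
  rw [← isOpen_compl_iff]
  have h1 : (torRk T n)ᶜ = ⋃ m ∈ {m : ℕ | m ≠ n}, torRk T m := by
    ext s
    simp only [Set.mem_compl_iff, Set.mem_iUnion, exists_prop]
    constructor
    · intro hs
      obtain ⟨m, hm⟩ := exists_torRk T hT s
      exact ⟨m, fun h => hs (h ▸ hm), hm⟩
    · rintro ⟨m, hmn, hm⟩ hn
      exact hmn (torRk_unique T hm hn)
  rw [h1]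
  exact isOpen_biUnion fun m _ => isOpen_torRk T hT m

end tor

end K217.RankLoc
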