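import Groth.Agent.Red.K217.IdComp2
import Groth.Agent.Sga3B.AlgBc2
import Groth.Agent.Etbase.FpqcDescent
import Groth.Agent.S4125
import Groth.Agent.S4127

/-!
# The neutral component of a smooth group scheme whose geometric fibres have reductive identity components
-/

set_option autoImplicit false
universe u

open CategoryTheory CategoryTheory.Limits MonoidalCategory CartesianMonoidalCategory MonObj GrpObj AlgebraicGeometry

namespace K217.RedNeutral

open Groth.Agent

variable {S : Scheme.{u}}

/-- The fibre of `X` at `s` is affine if the geometric fibre is. -/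
theorem isAffine_fibre_of_geomFibre (X : Over S) (s : S) (h : IsAffine (Red.geomFibre s X).left) :
    IsAffine (pullback X.hom (S.fromSpecResidueField s)) := by
  let K := AlgebraicClosure (S.residueField s)
  let p : Spec (CommRingCat.of K) ⟶ Spec (S.residueField s) :=
    Spec.map (CommRingCat.ofHom (algebraMap (S.residueField s) K))
  have h1 : IsAffineHom (pullback.snd (pullback.snd X.hom (S.fromSpecResidueField s)) p) := by
    have h2 : IsAffine (pullback (pullback.snd X.hom (S.fromSpecResidueField s)) p) := by
      have h3 : IsAffine (pullback X.hom (p ≫ S.fromSpecResidueField s)) := h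
      exact .of_isIso (pullbackLeftPullbackSndIso X.hom (S.fromSpecResidueField s) p).hom
    exact isAffineHom_of_isAffine _
  have hsurj : Surjective p := by
    constructor
    intro x
    have : Subsingleton (Spec (S.residueField s)) := inferInstanceAs (Subsingleton (PrimeSpectrum _))
    exact ⟨IsLocalRing.closedPoint K, Subsingleton.elim _ _⟩
  have hflat : Flat p := by
    rw [Flat.SpecMap_iff]
    exact RingHom.flat_algebraMap_iff.2 inferInstance
  have h5 : IsAffineHom (pullback.snd X.hom (S.fromSpecResidueField s)) :=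
    MorphismProperty.of_pullback_snd_of_descendsAlong (P := @IsAffineHom)
      (Q := @Surjective ⊓ @Flat ⊓ @QuasiCompact) (f := pullback.snd X.hom (S.fromSpecResidueField s)) (g := p)
      ⟨⟨hsurj, hflat⟩, inferInstance⟩ h1
  exact isAffine_of_isAffineHom (pullback.snd X.hom (S.fromSpecResidueField s))

/-- A morphism property local on the target may be checked on neighbourhoods. -/
theorem of_nhds {P : MorphismProperty Scheme.{u}} [IsZariskiLocalAtTarget P] {X : Scheme.{u}} (f : X ⟶ S)
    (h : ∀ s : S, ∃ U : S.Opens, s ∈ U ∧ P (pullback.snd f U.ι)) : P f := by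
  apply IsZariskiLocalAtTarget.of_forall_exists_morphismRestrict
  intro s
  obtain ⟨U, hs, hU⟩ := h s
  refine ⟨U, hs, ?_⟩
  rw [← pullbackRestrictIsoRestrict_hom_morphismRestrict] at hU
  exact (P.cancel_left_of_respectsIso _ _).1 hU

/-- Reductivity is local on the base. -/
theorem isReductive_of_nhds (G : Over S) [GrpObj G]
    (h : ∀ s : S, ∃ U : S.Opens, s ∈ U ∧ Red.IsReductive (Red.bc U.ι G)) : Red.IsReductive G := by
  refine ⟨of_nhds _ fun s => ?_, of_nhds _ fun s => ?_, fun s => ?_⟩
  · obtain ⟨U, hs, hU⟩ := h s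
    exact ⟨U, hs, hU.1⟩
  · obtain ⟨U, hs, hU⟩ := h s
    exact ⟨U, hs, hU.2.1⟩
  · obtain ⟨U, hs, hU⟩ := h s
    exact (Sga3B.AlgBc.isReductiveOver_geomFibre_bc_iff U.ι ⟨s, hs⟩).1 (hU.2.2 ⟨s, hs⟩)

/-- The neutral component of a smooth group scheme is reductive if the identity components of the geometric fibres
are. -/
theorem exists_reductive_neutral (G : Over S) [GrpObj G] [Smooth G.hom]
    (h0 : ∀ s : S, ∃ (U : Over (Spec (CommRingCat.of (AlgebraicClosure (S.residueField s))))) (_ : GrpObj U)
      (i : U ⟶ Red.geomFibre s G) (_ : IsMonHom i), IsOpenImmersion i.left ∧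
        Red.IsReductiveOver (AlgebraicClosure (S.residueField s)) U) :
    ∃ (G0 : Over S) (_ : GrpObj G0) (u : G0 ⟶ G) (_ : IsMonHom u), IsOpenImmersion u.left ∧
      Set.range u.left = SGA3x.neutralSet G ∧ Red.IsReductive G0 := by
  obtain ⟨G0, _, u, hu1, hu2, hu3, hsm, hqc, hsep, hgi, hconn, -⟩ := K217.IdComp2.exists_neutral G
  refine ⟨G0, inferInstance, u, hu1, hu2, hu3, ?_⟩
  have key : ∀ s : S, Red.IsReductiveOver (AlgebraicClosure (S.residueField s)) (Red.geomFibre s G0) := fun s =>
    (K217.IdComp.exists_open_iff u (Red.geomPt s) (fun X _ => Red.IsReductiveOver _ X)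
      (fun X _ h => h.2.2.1)
      (fun X Y _ _ e h => (Groth.Agent.Sga3B.RadOpen.isReductiveOver_iff_of_grpIso e).1 h)).1 (h0 s)
  exact isReductive_of_nhds G0 fun s =>
    Groth.Agent.S4125.result S G0 (fun t => isAffine_fibre_of_geomFibre G0 t (key t).1) hconn s (key s)

end K217.RedNeutral
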