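import Groth.Agent.Red.K217.TwBc
import Groth.Agent.Sga3B.RepDescent9

/-!
# The dual of a group which étale-locally retracts onto a diagonalisable group
-/

set_option autoImplicit false
open CategoryTheory MonoidalCategory CartesianMonoidalCategory MonObj GrpObj AlgebraicGeometry Limits
universe u

namespace K217.RetrDual
open Groth.Agent.Sga3B Groth.Agent.Sga3B.BcPts Groth.Agent.Sga3B.IsoFam

variable {S : Scheme.{u}} {H C A : Over S} [GrpObj H] [GrpObj C] [GrpObj A]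

/-- `p : H ⟶ C` is a retraction with section `t`, and families of homomorphisms into `A` kill its kernel. -/
structure Retr (A : Over S) [GrpObj A] (t : C ⟶ H) (p : H ⟶ C) : Prop where
  tmon : IsMonHom t
  pmon : IsMonHom p
  tp : t ≫ p = 𝟙 C
  kill : ∀ (T : Over S) (φ : H ⊗ T ⟶ A), AutFam.IsHomFamily H A φ →
      ∀ (X : Over S) (g : X ⟶ H) (y : X ⟶ T), g ≫ p = 1 → lift g y ≫ φ = 1

variable {t : C ⟶ H} {p : H ⟶ C}

/-- A family on `H` is determined by its restriction to `C`. -/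
theorem Retr.fac (h : Retr A t p) {T : Over S} (φ : H ⊗ T ⟶ A) (hφ : AutFam.IsHomFamily H A φ) :
    (p ▷ T) ≫ (t ▷ T) ≫ φ = φ := by
  have := h.tmon
  have := h.pmon
  have key : ∀ (X : Over S) (g : X ⟶ H) (y : X ⟶ T), lift (g ≫ p ≫ t) y ≫ φ = lift g y ≫ φ := by
    intro X g y
    have h1 : ((g ≫ p ≫ t)⁻¹ * g) ≫ p = 1 := by
      rw [MonObj.mul_comp, GrpObj.inv_comp, Category.assoc, Category.assoc, h.tp, Category.comp_id, inv_mul_cancel]
    have h2 := hφ X (g ≫ p ≫ t) ((g ≫ p ≫ t)⁻¹ * g) y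
    rw [h.kill T φ hφ X _ y h1, _root_.mul_one, mul_inv_cancel_left] at h2
    exact h2.symm
  have h3 := key (H ⊗ T) (fst H T) (snd H T)
  have h4 : lift (fst H T) (snd H T) = 𝟙 _ := by ext <;> simp
  rw [h4, Category.id_comp] at h3
  rw [← h3, ← Category.assoc, ← comp_whiskerRight]
  congr 1

theorem Retr.isHomFamily_t (h : Retr A t p) {T : Over S} (φ : H ⊗ T ⟶ A) (hφ : AutFam.IsHomFamily H A φ) :
    AutFam.IsHomFamily C A ((t ▷ T) ≫ φ) := by
  have := h.tmon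
  intro X a b y
  simp only [lift_whiskerRight_assoc, MonObj.mul_comp]
  exact hφ _ _ _ _

theorem Retr.isHomFamily_p (h : Retr A t p) {T : Over S} (φ : C ⊗ T ⟶ A) (hφ : AutFam.IsHomFamily C A φ) :
    AutFam.IsHomFamily H A ((p ▷ T) ≫ φ) := by
  have := h.pmon
  intro X a b y
  simp only [lift_whiskerRight_assoc, MonObj.mul_comp]
  exact hφ _ _ _ _

theorem Retr.tp_whisker (h : Retr A t p) (T : Over S) {B : Over S} (φ : C ⊗ T ⟶ B) : (t ▷ T) ≫ (p ▷ T) ≫ φ = φ := by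
  rw [← Category.assoc, ← comp_whiskerRight, h.tp, id_whiskerRight, Category.id_comp]

/-- A representing pair for `C` gives one for `H`. -/
theorem Retr.up (h : Retr A t p) {D : Over S} {υ : C ⊗ D ⟶ A} (hυ : AutFam.RepresentsHom C A D υ) :
    AutFam.RepresentsHom H A D ((p ▷ D) ≫ υ) := by
  refine ⟨h.isHomFamily_p υ hυ.1, fun T φ hφ => ?_⟩
  obtain ⟨a, ha, hu⟩ := hυ.2 T _ (h.isHomFamily_t φ hφ)
  refine ⟨a, ?_, fun b hb => hu b ?_⟩
  · dsimp only at ha ⊢
    rw [whisker_exchange_assoc, ha, h.fac φ hφ]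
  · dsimp only at hb ⊢
    rw [← hb, ← whisker_exchange_assoc, h.tp_whisker]

/-- A representing pair for `H` gives one for `C`. -/
theorem Retr.down (h : Retr A t p) {D : Over S} {υ : H ⊗ D ⟶ A} (hυ : AutFam.RepresentsHom H A D υ) :
    AutFam.RepresentsHom C A D ((t ▷ D) ≫ υ) := by
  refine ⟨h.isHomFamily_t υ hυ.1, fun T φ hφ => ?_⟩
  obtain ⟨a, ha, hu⟩ := hυ.2 T _ (h.isHomFamily_p φ hφ)
  refine ⟨a, ?_, fun b hb => hu b ?_⟩
  · dsimp only at ha ⊢
    rw [whisker_exchange_assoc, ha, h.tp_whisker]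
  · dsimp only at hb ⊢
    rw [← hb, whisker_exchange_assoc]
    exact (h.fac _ (isHomFamily_pull hυ.1 b)).symm

theorem Retr.bil (_ : Retr A t p) {D : Over S} [GrpObj D] {υ : H ⊗ D ⟶ A} (hυ : K6.HomGrp.IsBil υ) :
    K6.HomGrp.IsBil ((t ▷ D) ≫ υ) := by
  intro X a b c
  simp only [lift_whiskerRight_assoc]
  exact hυ _ _ _ _

/-- Transport along isomorphisms of groups. -/
theorem Retr.of_iso {H' A' : Over S} [GrpObj H'] [GrpObj A'] (e : H' ≅ H) [IsMonHom e.hom] (e' : A ≅ A')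
    [IsMonHom e'.hom] (h : Retr A t p) : Retr A' (t ≫ e.inv) (e.hom ≫ p) := by
  have := h.tmon
  have := h.pmon
  refine ⟨inferInstance, inferInstance, by simp [h.tp], fun T φ hφ X g y hg => ?_⟩
  have h1 : AutFam.IsHomFamily H A ((e.inv ▷ T) ≫ φ ≫ e'.inv) := by
    intro X a b y
    simp only [lift_whiskerRight_assoc, MonObj.mul_comp]
    rw [← Category.assoc, hφ, MonObj.mul_comp, Category.assoc, Category.assoc]
  have h2 := h.kill T _ h1 X (g ≫ e.hom) y (by rw [Category.assoc, hg])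
  rw [lift_whiskerRight_assoc, Category.assoc, e.hom_inv_id, Category.comp_id, ← Category.assoc] at h2
  have h3 := congrArg (fun k => k ≫ e'.hom) h2
  rwa [Category.assoc, e'.inv_hom_id, Category.comp_id, MonObj.one_comp] at h3

/-- **The dual of a group which étale-locally retracts onto a diagonalisable group.** -/
theorem exists_dual {H : Over S} [GrpObj H]
    (hH : ∀ s : S, ∃ (V : Scheme.{u}) (_ : IsAffine V) (v : V ⟶ S), Etale v ∧ s ∈ Set.range v ∧
      ∃ (M : Type) (_ : AddCommGroup M) (C : Over V) (_ : GrpObj C) (_ : Grp.mk C ≅ Grp.mk (Red.DS V M))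
        (t : C ⟶ Red.bc v H) (p : Red.bc v H ⟶ C), Retr (Red.bc v (Red.Gm S)) t p) :
    ∃ (D : Over S) (_ : GrpObj D) (υ : H ⊗ D ⟶ Red.Gm S), AutFam.RepresentsHom H (Red.Gm S) D υ ∧
      (∀ (X : Over S) (h : X ⟶ H) (a b : X ⟶ D), lift h (a * b) ≫ υ = (lift h a ≫ υ) * (lift h b ≫ υ)) ∧
      TwC.IsTwConstGrp TwC.Topology.fpqc D := by
  obtain ⟨D, υ, hD⟩ := RepDescent.exists_representsHom_of_etale H (Red.Gm S) (by
    intro s
    obtain ⟨V, _, v, hv, hs, M, _, C, _, e, t, p, h⟩ := hH s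
    obtain ⟨υ, hυ, -⟩ := K6.HomDS.exists_representsHom V M ℤ
    let a : C ≅ Red.DS V M := (Grp.forget _).mapIso e
    let b : Red.bc v (Red.DS S ℤ) ≅ Red.DS V ℤ := (Grp.forget _).mapIso (TorusAlgClosed.dsBcIso v ℤ)
    have ha : IsMonHom a.hom := e.hom.hom.isMonHom_hom
    have hb : IsMonHom b.hom := (TorusAlgClosed.dsBcIso v ℤ).hom.hom.isMonHom_hom
    exact ⟨V, v, hv, hs, _, _, h.up (HomFun898.representsHom_of_iso a b hυ),
      fun U hU => K6.ConstAff.isQuasiAffine_const _ U hU⟩)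
  obtain ⟨_, hbil⟩ := K6.HomGrp.exists_grpObj (K6.DualMT.ds_comm ℤ) hD
  refine ⟨D, inferInstance, υ, hD, hbil, TwBc.isTwConstGrp_fpqc fun s => ?_⟩
  obtain ⟨V, _, v, hv, hs, M, _, C, _, e, t, p, h⟩ := hH s
  obtain ⟨υ', h1, h2⟩ := K6.HomGrp.exists_bc_bil hD hbil v
  let a : C ≅ Red.DS V M := (Grp.forget _).mapIso e
  let b : Red.bc v (Red.DS S ℤ) ≅ Red.DS V ℤ := (Grp.forget _).mapIso (TorusAlgClosed.dsBcIso v ℤ)
  have ha : IsMonHom a.hom := e.hom.hom.isMonHom_hom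
  have hb : IsMonHom b.hom := (TorusAlgClosed.dsBcIso v ℤ).hom.hom.isMonHom_hom
  have ha' : IsMonHom a.symm.hom := inferInstanceAs (IsMonHom a.inv)
  have hb' : IsMonHom b.symm.hom := inferInstanceAs (IsMonHom b.inv)
  have h3 : AutFam.RepresentsHom (Red.DS V M) (Red.DS V ℤ) (Red.bc v D)
      ((a.symm.hom ▷ Red.bc v D) ≫ ((t ▷ Red.bc v D) ≫ υ') ≫ b.symm.inv) :=
    HomFun898.representsHom_of_iso a.symm b.symm (h.down h1)
  have h4 : K6.HomGrp.IsBil ((a.symm.hom ▷ Red.bc v D) ≫ ((t ▷ Red.bc v D) ≫ υ') ≫ b.symm.inv) :=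
    (h.bil h2).of_iso a.symm.hom b.hom
  obtain ⟨ε, hε⟩ := K6.DualMT.exists_const_iso h3 h4
  exact ⟨V, v, hv, hs, ULift.{u} (Multiplicative (ℤ →+ M)), inferInstance, _,
    K6.DualMT.isConstGrp_reindex MulEquiv.ulift.symm hε⟩

end K217.RetrDual
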