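import Groth.Agent.Red.K217.RetrDual
import Groth.Agent.RedSub.K194.HypBc
import Groth.Agent.RedSub.H641.TypeRBc
import Groth.Agent.RedSub.H643.TypeRTorus
import Groth.Agent.S5531

/-!
# Solvable subgroups of type (R) retract étale-locally onto a split torus
-/

set_option autoImplicit false
open CategoryTheory MonoidalCategory CartesianMonoidalCategory MonObj GrpObj AlgebraicGeometry Limits
universe u

namespace K217.SolvRetr
open Groth.Agent.Sga3B Groth.Agent.Sga3B.BcPts Groth.Agent.Sga3B.IsoFam K217.RetrDual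

variable {S : Scheme.{u}} {G H T : Over S} [GrpObj G] [GrpObj H] [GrpObj T] {i : H ⟶ G} {t : T ⟶ H}

/-- The projection `H = T ⋉ U ⟶ T`. -/
theorem exists_proj (hG : Red.IsReductive G) (hH : RedSub.IsTypeR i)
    (hsolv : ∀ s : S, Red.IsSolvableGrp (Red.geomFibre s H)) [IsMonHom t] (hT : Red.IsMaximalTorus (t ≫ i)) :
    ∃ p : H ⟶ T, IsMonHom p ∧ t ≫ p = 𝟙 T := by
  obtain ⟨U, _, u, hu, hk, hiso⟩ := Groth.Agent.S5531.result hG i hH hsolv t hT
  have := hu.1
  let m : T ⊗ U ⟶ H := (t ⊗ₘ u) ≫ μ[H]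
  have hm : ∀ (X : Over S) (x : X ⟶ T) (y : X ⟶ U), lift x y ≫ m = (x ≫ t) * (y ≫ u) := by
    intro X x y
    simp [m, Hom.mul_def]
  let p : H ⟶ T := inv m ≫ fst T U
  have hp : ∀ (X : Over S) (x : X ⟶ T) (y : X ⟶ U), ((x ≫ t) * (y ≫ u)) ≫ p = x := by
    intro X x y
    rw [← hm]
    simp [p]
  have hdec : ∀ (X : Over S) (g : X ⟶ H), ∃ (x : X ⟶ T) (y : X ⟶ U), g = (x ≫ t) * (y ≫ u) := by
    intro X g
    refine ⟨g ≫ inv m ≫ fst T U, g ≫ inv m ≫ snd T U, ?_⟩
    rw [← hm, ← comp_lift, ← comp_lift]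
    simp
  refine ⟨p, isMonHom_of_mul _ fun X g g' => ?_, ?_⟩
  · obtain ⟨x, y, rfl⟩ := hdec X g
    obtain ⟨x', y', rfl⟩ := hdec X g'
    obtain ⟨z, hz⟩ := hu.2.2.1 X ((x' ≫ t)⁻¹) y
    have h1 : (x ≫ t) * (y ≫ u) * ((x' ≫ t) * (y' ≫ u)) = ((x * x') ≫ t) * ((z * y') ≫ u) := by
      rw [MonObj.mul_comp, MonObj.mul_comp, ← hz]
      group
    rw [h1, hp, hp, hp]
  · have h1 := hp T (𝟙 T) 1
    rwa [Category.id_comp, MonObj.one_comp, _root_.mul_one] at h1

/-- Homomorphisms to commutative groups kill the kernel of a retraction onto a maximal torus. -/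
theorem kill (hG : Red.IsReductive G) (hH : RedSub.IsTypeR i)
    (hsolv : ∀ s : S, Red.IsSolvableGrp (Red.geomFibre s H)) [IsMonHom t] (hT : Red.IsMaximalTorus (t ≫ i))
    (p : H ⟶ T) [IsMonHom p] (hp : t ≫ p = 𝟙 T) {A : Over S} [GrpObj A] (f : H ⟶ A) [IsMonHom f]
    (hA : ∀ (X : Over S) (a b : X ⟶ A), a * b = b * a) (X : Over S) (g : X ⟶ H) (hg : g ≫ p = 1) : g ≫ f = 1 := by
  obtain ⟨U, _, u, hu, hk, hiso⟩ := Groth.Agent.S5531.result hG i hH hsolv t hT
  have := hu.1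
  let m : T ⊗ U ⟶ H := (t ⊗ₘ u) ≫ μ[H]
  have hm : ∀ (X : Over S) (x : X ⟶ T) (y : X ⟶ U), lift x y ≫ m = (x ≫ t) * (y ≫ u) := by
    intro X x y
    simp [m, Hom.mul_def]
  have hTc : ∀ (X : Over S) (a b : X ⟶ T), a * b = b * a := MaxTorNear900.mul_comm_of_isTorus hT.2.2.1
  obtain ⟨x, y, rfl⟩ : ∃ (x : X ⟶ T) (y : X ⟶ U), g = (x ≫ t) * (y ≫ u) := by
    refine ⟨g ≫ inv m ≫ fst T U, g ≫ inv m ≫ snd T U, ?_⟩
    rw [← hm, ← comp_lift, ← comp_lift]
    simp
  rw [MonObj.mul_comp, Category.assoc, Category.assoc, hp, Category.comp_id, hk T p hTc, MonObj.comp_one,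
    _root_.mul_one] at hg
  rw [hg, MonObj.one_comp, _root_.one_mul, Category.assoc, hk A f hA, MonObj.comp_one]

/-- A family of homomorphisms kills the points which the associated homomorphism kills. -/
theorem fam_kill {H C A : Over S} [GrpObj H] [GrpObj C] [GrpObj A] (p : H ⟶ C) {T : Over S} (φ : H ⊗ T ⟶ A)
    (hk : ∀ (X : Over T.left) (g : X ⟶ Red.bc T.hom H), g ≫ (Over.pullback T.hom).map p = 1 → g ≫ unfam φ = 1)
    (X : Over S) (g : X ⟶ H) (y : X ⟶ T) (hg : g ≫ p = 1) : lift g y ≫ φ = 1 := by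
  let i : (Over.map T.hom).obj (Over.mk y.left) ≅ X := overIso (f := T.hom) y
  have h2 := comp_unfam φ (bcEquiv T.hom _ H (i.hom ≫ g))
  rw [hk _ _ (by rw [← bcEquiv_comp, Category.assoc, hg, MonObj.comp_one, bcEquiv_one]),
    Equiv.symm_apply_apply] at h2
  have h3 : lift (i.hom ≫ g) (st (Over.mk y.left)) ≫ φ = 1 := by
    apply (bcMulEquiv T.hom _ A).injective
    rw [map_one]
    exact h2.symm
  have h4 : i.hom ≫ y = st (Over.mk y.left) := by
    ext1
    exact Category.id_comp _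
  rw [← h4, ← comp_lift, Category.assoc] at h3
  rw [← cancel_epi i.hom, h3, MonObj.comp_one]

/-- A retraction onto a maximal torus of a solvable subgroup of type (R) induces a bijection on characters. -/
theorem retr (hG : Red.IsReductive G) (hH : RedSub.IsTypeR i)
    (hsolv : ∀ s : S, Red.IsSolvableGrp (Red.geomFibre s H)) [IsMonHom t] (hT : Red.IsMaximalTorus (t ≫ i))
    (p : H ⟶ T) [IsMonHom p] (hp : t ≫ p = 𝟙 T) {A : Over S} [GrpObj A]
    (hA : ∀ (X : Over S) (a b : X ⟶ A), a * b = b * a) : Retr A t p := by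
  refine ⟨inferInstance, inferInstance, hp, fun T' φ hφ => fam_kill p φ fun X g hg => ?_⟩
  have := isMonHom_unfam hφ
  have h1 := RedBcAny636.isReductive_bc T'.hom hG
  have h2 := Groth.Agent.RedSub.H648.TypeR.isTypeR_bc T'.hom hG hH
  have h3 := K194.HypBc.isSolvableGrp_fibres_bc T'.hom hsolv
  have h4 : Red.IsMaximalTorus ((Over.pullback T'.hom).map t ≫ (Over.pullback T'.hom).map i) := by
    rw [← Functor.map_comp]
    exact MaxTorBc636.isMaximalTorus_bc T'.hom hG hT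
  exact kill h1 h2 h3 h4 ((Over.pullback T'.hom).map p) (by rw [← Functor.map_comp, hp, CategoryTheory.Functor.map_id]) (unfam φ)
    (CharRep.comm_bc hA T'.hom) X g hg

/-- **Solvable subgroups of type (R) retract étale-locally onto a split torus.** -/
theorem exists_local (hG : Red.IsReductive G) (hH : RedSub.IsTypeR i)
    (hsolv : ∀ s : S, Red.IsSolvableGrp (Red.geomFibre s H)) {A : Over S} [GrpObj A]
    (hA : ∀ (X : Over S) (a b : X ⟶ A), a * b = b * a) (s : S) :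
    ∃ (V : Scheme.{u}) (_ : IsAffine V) (v : V ⟶ S), Etale v ∧ s ∈ Set.range v ∧
      ∃ (M : Type) (_ : AddCommGroup M) (C : Over V) (_ : GrpObj C) (_ : Grp.mk C ≅ Grp.mk (Red.DS V M))
        (t : C ⟶ Red.bc v H) (p : Red.bc v H ⟶ C), Retr (Red.bc v A) t p := by
  obtain ⟨U, f, hf, ⟨s', rfl⟩, D, t, ht⟩ := Groth.Agent.RedSub.H643.TypeRTorus.exists_splitRed_into hG i hH s
  obtain ⟨R, j, hj, ⟨x, hx⟩, -⟩ := BorLoc613.exists_spec_nhd (⊤ : U.Opens) (s := s') trivial
  have hG1 := RedBcAny636.isReductive_bc f hG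
  have hH1 := Groth.Agent.RedSub.H648.TypeR.isTypeR_bc f hG hH
  have hs1 := K194.HypBc.isSolvableGrp_fibres_bc f hsolv
  have hm1 : IsMonHom D.i := D.maximalTorus.1
  have hm2 : IsMonHom ((Over.pullback f).map i) := hH1.1.1
  have hm3 : Mono ((Over.pullback f).map i) := by
    have := hH1.1.2
    exact Over.mono_of_mono_left _
  have hmt : IsMonHom t := by
    refine isMonHom_of_mul _ fun X a b => ?_
    rw [← cancel_mono ((Over.pullback f).map i), Category.assoc, ht, MonObj.mul_comp, MonObj.mul_comp,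
      Category.assoc, Category.assoc, ht]
  have hT1 : Red.IsMaximalTorus (t ≫ (Over.pullback f).map i) := by
    rw [ht]
    exact D.maximalTorus
  obtain ⟨p, hp1, hp2⟩ := exists_proj hG1 hH1 hs1 hT1
  have h1 := RedBcAny636.isReductive_bc j hG1
  have h2 := Groth.Agent.RedSub.H648.TypeR.isTypeR_bc j hG1 hH1
  have h3 := K194.HypBc.isSolvableGrp_fibres_bc j hs1
  have h4 : Red.IsMaximalTorus ((Over.pullback j).map t ≫ (Over.pullback j).map ((Over.pullback f).map i)) := by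
    rw [← Functor.map_comp]
    exact MaxTorBc636.isMaximalTorus_bc j hG1 hT1
  have h5 : Retr (Red.bc j (Red.bc f A)) ((Over.pullback j).map t) ((Over.pullback j).map p) :=
    retr h1 h2 h3 h4 ((Over.pullback j).map p) (by rw [← Functor.map_comp, hp2, CategoryTheory.Functor.map_id])
      (CharRep.comm_bc (CharRep.comm_bc hA f) j)
  let eH := BcIso.bcCompIso j f H
  let eA := BcIso.bcCompIso j f A
  let e : Red.bc (j ≫ f) H ≅ Red.bc j (Red.bc f H) := (Grp.forget _).mapIso eH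
  let e' : Red.bc j (Red.bc f A) ≅ Red.bc (j ≫ f) A := ((Grp.forget _).mapIso eA).symm
  have he : IsMonHom e.hom := inferInstanceAs (IsMonHom eH.hom.hom.hom)
  have he' : IsMonHom e'.hom := inferInstanceAs (IsMonHom eA.inv.hom.hom)
  refine ⟨Spec R, inferInstance, j ≫ f, inferInstance, ⟨x, ?_⟩, D.M, inferInstance, Red.bc j D.T, inferInstance,
    BcIso.bcMapIso j D.split ≪≫ TorusAlgClosed.dsBcIso j D.M, _, _, h5.of_iso e e'⟩
  rw [Scheme.Hom.comp_apply, hx]

end K217.SolvRetr
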