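import Groth.Agent.SGA3x.K6.Const
import Groth.Agent.SGA3x.K6.DualMT
import Groth.Agent.Red.K217.CharRep

/-!
# Base change of constant group schemes; étale-locally constant groups are fpqc-locally constant
-/

set_option autoImplicit false
universe v u
open CategoryTheory CategoryTheory.Limits MonoidalCategory CartesianMonoidalCategory MonObj AlgebraicGeometry

namespace K217.TwBc

variable {S : Scheme.{u}}

theorem pt_bcConst {M : Type v} [Small.{u} M] {S' : Scheme.{u}} (q : S' ⟶ S) (m : M) :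
    TwC.pt S' M m ≫ (K6.Const.bcConst M q).inv =
      Functor.LaxMonoidal.ε (Over.pullback q) ≫ (Over.pullback q).map (TwC.pt S M m) := by
  apply Over.OverMorphism.ext
  apply pullback.hom_ext
  · rw [K6.Const.pt_bcConst_inv]
    have h1 : ((Over.pullback q).map (TwC.pt S M m)).left ≫ pullback.fst (TwC.const S M).hom q =
      pullback.fst (𝟙_ (Over S)).hom q ≫ (TwC.pt S M m).left := pullback.lift_fst _ _ _
    have h3 : pullback.fst (𝟙_ (Over S)).hom q ≫ (𝟙_ (Over S)).hom = pullback.snd (𝟙_ (Over S)).hom q ≫ q :=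
      pullback.condition
    have h4 : (Functor.LaxMonoidal.ε (Over.pullback q)).left ≫ pullback.snd (𝟙_ (Over S)).hom q =
      (𝟙_ (Over S')).hom := Over.w (Functor.LaxMonoidal.ε (Over.pullback q))
    have h5 : pullback.fst (𝟙_ (Over S)).hom q ≫ (𝟙_ (Over S)).hom = pullback.fst (𝟙_ (Over S)).hom q :=
      Category.comp_id _
    rw [Over.comp_left, Category.assoc, h1, ← h5, h3, ← Category.assoc, ← Category.assoc, h4]
    change _ = (𝟙 S' ≫ q) ≫ _
    rw [Category.id_comp]
  · exact (Over.w (TwC.pt S' M m ≫ (K6.Const.bcConst M q).inv)).trans (Over.w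
      (Functor.LaxMonoidal.ε (Over.pullback q) ≫ (Over.pullback q).map (TwC.pt S M m))).symm

theorem isConstGrp_bc {M : Type v} [Group M] [Small.{u} M] {G : Over S} [GrpObj G] (e : G ≅ TwC.const S M)
    (he : TwC.IsConstGrp M G e) {S' : Scheme.{u}} (q : S' ⟶ S) :
    TwC.IsConstGrp M (Red.bc q G) ((Over.pullback q).mapIso e ≪≫ K6.Const.bcConst M q) := by
  have h1 : ∀ m, TwC.pt S' M m ≫ ((Over.pullback q).mapIso e ≪≫ K6.Const.bcConst M q).inv =
      Functor.LaxMonoidal.ε (Over.pullback q) ≫ (Over.pullback q).map (TwC.pt S M m ≫ e.inv) := by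
    intro m
    change TwC.pt S' M m ≫ (K6.Const.bcConst M q).inv ≫ (Over.pullback q).map e.inv = _
    rw [← Category.assoc, pt_bcConst, Category.assoc, Functor.map_comp]
  intro m n
  rw [h1, h1, h1, ← he m n, ← MonObj.comp_mul]
  congr 1
  exact (Functor.map_mul _ _ _).symm

theorem isConstGrp_iso {M : Type v} [Group M] [Small.{u} M] {G G' : Over S} [GrpObj G] [GrpObj G'] (ψ : G ≅ G')
    [IsMonHom ψ.hom] (e : G ≅ TwC.const S M) (he : TwC.IsConstGrp M G e) :
    TwC.IsConstGrp M G' (ψ.symm ≪≫ e) := by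
  have h1 : ∀ m, TwC.pt S M m ≫ (ψ.symm ≪≫ e).inv = (TwC.pt S M m ≫ e.inv) ≫ ψ.hom :=
    fun m => (Category.assoc _ _ _).symm
  intro m n
  rw [h1, h1, h1, ← he m n, MonObj.mul_comp]

/-- Constancy over `f` is stable under base change. -/
theorem exists_const_comp {G : Over S} [GrpObj G] {S' S'' : Scheme.{u}} (f : S' ⟶ S) (v : S'' ⟶ S')
    (h : ∃ (M : Type u) (_ : Group M) (e : Red.bc f G ≅ TwC.const S' M), TwC.IsConstGrp M (Red.bc f G) e) :
    ∃ (M : Type u) (_ : Group M) (e : Red.bc (v ≫ f) G ≅ TwC.const S'' M), TwC.IsConstGrp M (Red.bc (v ≫ f) G) e := by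
  obtain ⟨M, _, e, he⟩ := h
  let φ : Grp.mk (Red.bc v (Red.bc f G)) ≅ Grp.mk (Red.bc (v ≫ f) G) := (Groth.Agent.Sga3B.BcIso.bcCompIso _ _ _).symm
  let ψ : Red.bc v (Red.bc f G) ≅ Red.bc (v ≫ f) G := (Grp.forget _).mapIso φ
  have : IsMonHom ψ.hom := inferInstanceAs (IsMonHom φ.hom.hom.hom)
  exact ⟨M, inferInstance, _, isConstGrp_iso ψ _ (isConstGrp_bc e he v)⟩

/-- An étale-locally constant group is a twisted constant group for the fpqc topology. -/
theorem isTwConstGrp_fpqc {G : Over S} [GrpObj G] (h : TwC.IsTwConstGrp TwC.Topology.etale G) :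
    TwC.IsTwConstGrp TwC.Topology.fpqc G :=
  K217.CharRep.exists_fpqc (fun _ _ f v => exists_const_comp f v) h

end K217.TwBc
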